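import Groth.Agent.EtModLC71.Stalk
import Mathlib.CategoryTheory.ObjectProperty.Extensions
import Mathlib.Algebra.Homology.ShortComplex.ShortExact
import Mathlib.RingTheory.Noetherian.Basic

/-!
# Kernels, cokernels, extensions of finite type locally constant sheaves of modules
-/

universe u

open CategoryTheory CategoryTheory.Limits AlgebraicGeometry Opposite

namespace Groth.Agent.EtModLC71

set_option backward.isDefEq.respectTransparency.types false

variable {Λ : Type (u + 1)} [CommRing Λ] {X : Scheme.{u}}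

/-- kernels -/
theorem isFTLocConst_of_kernel [IsNoetherianRing Λ] {S : ShortComplex (EtModW.Mod Λ X)} [Mono S.f]
    (hS : S.Exact) (h2 : EtModW.IsFTLocConst Λ S.X₂) (h3 : EtModW.IsFTLocConst Λ S.X₃) :
    EtModW.IsFTLocConst Λ S.X₁ := by
  refine isFTLocConst_of_constBy fun x => ?_
  obtain ⟨Ω, _, _, ξ, hξ⟩ := exists_point x
  obtain ⟨U, u, M, hM, φ, N, hN, ψ, hφ, hψ⟩ := exists_common h2 h3 ξ
  obtain ⟨V, g, v, h, e⟩ := exists_linearMap S.g ξ u (φ := φ) hψ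
  have hφ' := hφ.restrict g
  have hψ' := hψ.restrict g
  have hker : ∀ k : LinearMap.ker h.hom, S.g.hom.app (op V) ((φ ≫ S.X₂.obj.map g.op) k.1) = 0 := fun k =>
    (ConcreteCategory.congr_hom e k.1).trans ((congrArg (ψ ≫ S.X₃.obj.map g.op).hom k.2).trans (map_zero _))
  choose r hr using fun k => exists_sect_lift hS V _ (hker k)
  let χ : ModuleCat.of Λ (LinearMap.ker h.hom) ⟶ S.X₁.obj.obj (op V) := ModuleCat.ofHom
    { toFun := r
      map_add' := fun a b => sect_injective S.f V (by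
        rw [map_add, hr, hr, hr]; exact map_add _ a.1 b.1)
      map_smul' := fun c a => sect_injective S.f V (by
        rw [RingHom.id_apply, map_smul, hr, hr]; exact map_smul _ c a.1) }
  refine ⟨V, _, _, inferInstance, χ, (EtFound.base_of_point v).trans hξ, fun Ω' _ _ ζ z => ?_⟩
  have hmono := (mono_iff_stalks S.f).1 inferInstance Ω' ζ
  have hc : ∀ k, (EtModW.stalk Λ ζ).map S.f
      ((χ ≫ (Scheme.pointSmallEtale ζ).toPresheafFiber V z S.X₁.obj) k) =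
      ((φ ≫ S.X₂.obj.map g.op) ≫ (Scheme.pointSmallEtale ζ).toPresheafFiber V z S.X₂.obj) k.1 := fun k =>
    (germ_naturality S.f z (r k)).trans (congrArg ((Scheme.pointSmallEtale ζ).toPresheafFiber V z S.X₂.obj) (hr k))
  refine ⟨fun a b e => Subtype.ext ((hφ' Ω' ζ z).1 ((hc a).symm.trans ((congrArg _ e).trans (hc b)))), fun p => ?_⟩
  obtain ⟨m, hm⟩ := (hφ' Ω' ζ z).2 ((EtModW.stalk Λ ζ).map S.f p)
  have hk : h m = 0 := by
    refine (hψ' Ω' ζ z).1 ?_
    refine Eq.trans ?_ (map_zero ((ψ ≫ S.X₃.obj.map g.op) ≫ (Scheme.pointSmallEtale ζ).toPresheafFiber V z S.X₃.obj).hom).symm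
    refine (congrArg ((Scheme.pointSmallEtale ζ).toPresheafFiber V z S.X₃.obj)
      (ConcreteCategory.congr_hom e m).symm).trans ?_
    refine (germ_naturality S.g z _).symm.trans ((congrArg ((EtModW.stalk Λ ζ).map S.g) hm).trans ?_)
    exact ConcreteCategory.congr_hom (S.map (EtModW.stalk Λ ζ)).zero p
  exact ⟨⟨m, hk⟩, hmono ((hc ⟨m, hk⟩).trans hm)⟩

/-- cokernels -/
theorem isFTLocConst_of_cokernel {S : ShortComplex (EtModW.Mod Λ X)} [Epi S.g] (hS : S.Exact)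
    (h1 : EtModW.IsFTLocConst Λ S.X₁) (h2 : EtModW.IsFTLocConst Λ S.X₂) :
    EtModW.IsFTLocConst Λ S.X₃ := by
  refine isFTLocConst_of_constBy fun x => ?_
  obtain ⟨Ω, _, _, ξ, hξ⟩ := exists_point x
  obtain ⟨U, u, M, hM, φ, N, hN, ψ, hφ, hψ⟩ := exists_common h1 h2 ξ
  obtain ⟨V, g, v, h, e⟩ := exists_linearMap S.f ξ u (φ := φ) hψ
  have hφ' := hφ.restrict g
  have hψ' := hψ.restrict g
  let χ₀ := (ψ ≫ S.X₂.obj.map g.op) ≫ S.g.hom.app (op V)
  have hle : LinearMap.range h.hom ≤ LinearMap.ker χ₀.hom := by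
    rintro _ ⟨m, rfl⟩
    refine (congrArg (S.g.hom.app (op V)) (ConcreteCategory.congr_hom e m).symm).trans ?_
    exact congr(($(S.zero)).hom.app (op V) ((φ ≫ S.X₁.obj.map g.op) m))
  let χ : ModuleCat.of Λ (N ⧸ LinearMap.range h.hom) ⟶ S.X₃.obj.obj (op V) :=
    ModuleCat.ofHom (Submodule.liftQ _ χ₀.hom hle)
  refine ⟨V, _, _, inferInstance, χ, (EtFound.base_of_point v).trans hξ, fun Ω' _ _ ζ z => ?_⟩
  have hepi := (epi_iff_stalks S.g).1 inferInstance Ω' ζ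
  have hc : ∀ n, (EtModW.stalk Λ ζ).map S.g
      (((ψ ≫ S.X₂.obj.map g.op) ≫ (Scheme.pointSmallEtale ζ).toPresheafFiber V z S.X₂.obj) n) =
      (χ ≫ (Scheme.pointSmallEtale ζ).toPresheafFiber V z S.X₃.obj) (Submodule.Quotient.mk n) := fun n =>
    germ_naturality S.g z _
  refine ⟨fun a b e' => ?_, fun q => ?_⟩
  · obtain ⟨a, rfl⟩ := Submodule.Quotient.mk_surjective _ a
    obtain ⟨b, rfl⟩ := Submodule.Quotient.mk_surjective _ b
    rw [Submodule.Quotient.eq]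
    obtain ⟨p, hp⟩ := stalk_exact hS ζ
      (((ψ ≫ S.X₂.obj.map g.op) ≫ (Scheme.pointSmallEtale ζ).toPresheafFiber V z S.X₂.obj) (a - b))
      (by erw [map_sub, map_sub, sub_eq_zero]; exact (hc a).trans (e'.trans (hc b).symm))
    obtain ⟨m, rfl⟩ := (hφ' Ω' ζ z).2 p
    refine ⟨m, (hψ' Ω' ζ z).1 ?_⟩
    refine (congrArg ((Scheme.pointSmallEtale ζ).toPresheafFiber V z S.X₂.obj)
      (ConcreteCategory.congr_hom e m).symm).trans ?_
    exact (germ_naturality S.f z _).symm.trans hp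
  · obtain ⟨y, rfl⟩ := hepi q
    obtain ⟨n, rfl⟩ := (hψ' Ω' ζ z).2 y
    exact ⟨_, (hc n).symm⟩

/-- lift of a section near a point along an epimorphism -/
theorem exists_lift {E G : EtModW.Mod Λ X} (q : E ⟶ G) [Epi q] {Ω : Type u} [Field Ω] [IsSepClosed Ω]
    (ξ : Spec (CommRingCat.of Ω) ⟶ X) {U : X.Etale} (u : (Scheme.pointSmallEtale ξ).fiber.obj U)
    (s : G.obj.obj (op U)) :
    ∃ (V : X.Etale) (g : V ⟶ U) (v : (Scheme.pointSmallEtale ξ).fiber.obj V) (e : E.obj.obj (op V)),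
      (Scheme.pointSmallEtale ξ).fiber.map g v = u ∧ q.hom.app (op V) e = G.obj.map g.op s := by
  let Φ := Scheme.pointSmallEtale ξ
  obtain ⟨p, hp⟩ := (epi_iff_stalks q).1 inferInstance Ω ξ (Φ.toPresheafFiber U u G.obj s)
  obtain ⟨W, w, e, rfl⟩ := Φ.toPresheafFiber_jointly_surjective p
  have hq' := (Φ.toPresheafFiber_naturality_apply q.hom W w e).symm.trans hp
  obtain ⟨⟨T, t⟩, ⟨a, ha⟩, ⟨b, hb⟩, -⟩ := IsCofilteredOrEmpty.cone_objs
    (Φ.fiber.elementsMk W w) (Φ.fiber.elementsMk U u)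
  obtain ⟨a', ha'⟩ : ∃ a' : T ⟶ W, Φ.fiber.map a' t = w := ⟨a, ha⟩
  obtain ⟨b', hb'⟩ : ∃ b' : T ⟶ U, Φ.fiber.map b' t = u := ⟨b, hb⟩
  rw [← ha', ← hb', ← Φ.toPresheafFiber_w_apply, ← Φ.toPresheafFiber_w_apply] at hq'
  obtain ⟨T', c, t', ht', hc⟩ := (Φ.toPresheafFiber_eq_iff' T t _ _).1 hq'
  refine ⟨T', c ≫ b', t', E.obj.map (c ≫ a').op e, by rw [Functor.map_comp_apply, ht', hb'], ?_⟩
  rw [NatTrans.naturality_apply q.hom (c ≫ a').op e, op_comp, op_comp, Functor.map_comp_apply,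
    Functor.map_comp_apply]
  exact hc

/-- lifts of finitely many sections on one neighbourhood -/
theorem exists_lift_family {E G : EtModW.Mod Λ X} (q : E ⟶ G) [Epi q] {Ω : Type u} [Field Ω] [IsSepClosed Ω]
    (ξ : Spec (CommRingCat.of Ω) ⟶ X) {U : X.Etale} (u : (Scheme.pointSmallEtale ξ).fiber.obj U) :
    ∀ (k : ℕ) (s : Fin k → G.obj.obj (op U)), ∃ (V : X.Etale) (g : V ⟶ U)
      (v : (Scheme.pointSmallEtale ξ).fiber.obj V) (e : Fin k → E.obj.obj (op V)),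
      (Scheme.pointSmallEtale ξ).fiber.map g v = u ∧ ∀ i, q.hom.app (op V) (e i) = G.obj.map g.op (s i)
  | 0, _ => ⟨U, 𝟙 U, u, Fin.elim0, by simp, fun i => i.elim0⟩
  | k + 1, s => by
    obtain ⟨V, g, v, e, hv, he⟩ := exists_lift_family q ξ u k (s ∘ Fin.succ)
    obtain ⟨W, d, w, e₀, hw, he₀⟩ := exists_lift q ξ v (G.obj.map g.op (s 0))
    refine ⟨W, d ≫ g, w, Fin.cons e₀ (fun i => E.obj.map d.op (e i)), by rw [Functor.map_comp_apply, hw, hv],
      Fin.cases ?_ fun i => ?_⟩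
    · rw [Fin.cons_zero, he₀, op_comp, Functor.map_comp_apply]
    · rw [Fin.cons_succ, NatTrans.naturality_apply q.hom d.op, he, op_comp, Functor.map_comp_apply]
      rfl

/-- a linear map which agrees with a constant family on germs agrees with it on a neighbourhood -/
theorem exists_eq_nhd {F : EtModW.Mod Λ X} {U : X.Etale} {M L : ModuleCat.{u + 1} Λ} [Module.Finite Λ L]
    {Ω : Type u} [Field Ω] [IsSepClosed Ω] {ξ : Spec (CommRingCat.of Ω) ⟶ X}
    (u : (Scheme.pointSmallEtale ξ).fiber.obj U) (a b : L ⟶ F.obj.obj (op U))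
    (h : ∀ l, (Scheme.pointSmallEtale ξ).toPresheafFiber U u F.obj (a l) =
      (Scheme.pointSmallEtale ξ).toPresheafFiber U u F.obj (b l)) :
    ∃ (V : X.Etale) (g : V ⟶ U) (_ : (Scheme.pointSmallEtale ξ).fiber.obj V),
      a ≫ F.obj.map g.op = b ≫ F.obj.map g.op := by
  obtain ⟨k, s, hs⟩ := Module.Finite.exists_fin (R := Λ) (M := L)
  obtain ⟨V, g, v, -, hv⟩ := EtFound.exists_forall_eq F.obj u (fun i => a (s i)) (fun i => b (s i)) (fun i => h _)
  exact ⟨V, g, v, ModuleCat.hom_ext (LinearMap.ext_on_range hs hv)⟩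

/-- extensions -/
theorem isFTLocConst_of_extension [IsNoetherianRing Λ] {S : ShortComplex (EtModW.Mod Λ X)} (hS : S.ShortExact)
    (h1 : EtModW.IsFTLocConst Λ S.X₁) (h3 : EtModW.IsFTLocConst Λ S.X₃) :
    EtModW.IsFTLocConst Λ S.X₂ := by
  have := hS.mono_f
  have := hS.epi_g
  refine isFTLocConst_of_constBy fun x => ?_
  obtain ⟨Ω, _, _, ξ, hξ⟩ := exists_point x
  obtain ⟨U, u, M, hM, φ, N, hN, ψ, hφ, hψ⟩ := exists_common h1 h3 ξ
  obtain ⟨k, s, hs⟩ := Module.Finite.exists_fin (R := Λ) (M := N)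
  obtain ⟨V, g, v, e, hv, he⟩ := exists_lift_family S.g ξ u k (fun i => ψ (s i))
  let π : (Fin k → Λ) →ₗ[Λ] N := Fintype.linearCombination Λ s
  have hπ : Function.Surjective π := LinearMap.range_eq_top.1 ((Fintype.range_linearCombination Λ s).trans hs)
  let L₀ : (Fin k → Λ) →ₗ[Λ] S.X₂.obj.obj (op V) := Fintype.linearCombination Λ e
  have hL₀ : ∀ l, S.g.hom.app (op V) (L₀ l) = (ψ ≫ S.X₃.obj.map g.op) (π l) := fun l => by
    simp only [L₀, π, Fintype.linearCombination_apply, map_sum, map_smul, he]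
    rfl
  have hker : ∀ r : LinearMap.ker π, S.g.hom.app (op V) (L₀ r.1) = 0 := fun r =>
    (hL₀ r.1).trans ((congrArg (ψ ≫ S.X₃.obj.map g.op).hom r.2).trans (map_zero _))
  choose f₀ hf₀ using fun r => exists_sect_lift hS.exact V _ (hker r)
  let f₁ : LinearMap.ker π →ₗ[Λ] S.X₁.obj.obj (op V) :=
    { toFun := f₀
      map_add' := fun a b => sect_injective S.f V (by
        rw [map_add, hf₀, hf₀, hf₀]; exact map_add _ a.1 b.1)
      map_smul' := fun c a => sect_injective S.f V (by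
        rw [RingHom.id_apply, map_smul, hf₀, hf₀]; exact map_smul _ c a.1) }
  let germ₁ := ((φ ≫ S.X₁.obj.map g.op) ≫ (Scheme.pointSmallEtale ξ).toPresheafFiber V v S.X₁.obj).hom
  let eM := LinearEquiv.ofBijective germ₁ ((hφ.restrict g) Ω ξ v)
  let m : LinearMap.ker π →ₗ[Λ] M :=
    eM.symm.toLinearMap.comp (((Scheme.pointSmallEtale ξ).toPresheafFiber V v S.X₁.obj).hom.comp f₁)
  have hm : ∀ r, (Scheme.pointSmallEtale ξ).toPresheafFiber V v S.X₁.obj (f₁ r) =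
      (Scheme.pointSmallEtale ξ).toPresheafFiber V v S.X₁.obj ((φ ≫ S.X₁.obj.map g.op) (m r)) :=
    fun r => (eM.apply_symm_apply _).symm
  obtain ⟨W, d, w, hd⟩ := exists_eq_nhd (F := S.X₁) (M := M) (L := ModuleCat.of Λ (LinearMap.ker π)) v
    (ModuleCat.ofHom f₁) (ModuleCat.ofHom m ≫ φ ≫ S.X₁.obj.map g.op) hm
  have hφW := (hφ.restrict g).restrict d
  have hψW := (hψ.restrict g).restrict d
  let A : M →ₗ[Λ] S.X₂.obj.obj (op W) :=
    (((φ ≫ S.X₁.obj.map g.op) ≫ S.X₁.obj.map d.op) ≫ S.f.hom.app (op W)).hom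
  let B : (Fin k → Λ) →ₗ[Λ] S.X₂.obj.obj (op W) := (S.X₂.obj.map d.op).hom.comp L₀
  let χ₀ := A.coprod B
  let R := LinearMap.range ((-m).prod (LinearMap.ker π).subtype)
  have hBA : ∀ r : LinearMap.ker π, B r.1 = A (m r) := fun r => by
    refine (congrArg (S.X₂.obj.map d.op) (hf₀ r).symm).trans ?_
    refine (NatTrans.naturality_apply S.f.hom d.op (f₀ r)).symm.trans ?_
    exact congrArg (S.f.hom.app (op W)) (ConcreteCategory.congr_hom hd r)
  have hR : R ≤ LinearMap.ker χ₀ := by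
    rintro _ ⟨r, rfl⟩
    show A (-(m r)) + B r.1 = 0
    rw [map_neg, hBA, neg_add_cancel]
  let χ : ModuleCat.of Λ ((M × (Fin k → Λ)) ⧸ R) ⟶ S.X₂.obj.obj (op W) := ModuleCat.ofHom (R.liftQ χ₀ hR)
  refine ⟨W, _, _, inferInstance, χ, (EtFound.base_of_point w).trans hξ, fun Ω' _ _ ζ z => ?_⟩
  let γ₁ : S.X₁.obj.obj (op W) ⟶ (EtModW.stalk Λ ζ).obj S.X₁ :=
    (Scheme.pointSmallEtale ζ).toPresheafFiber W z S.X₁.obj
  let γ₂ : S.X₂.obj.obj (op W) ⟶ (EtModW.stalk Λ ζ).obj S.X₂ :=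
    (Scheme.pointSmallEtale ζ).toPresheafFiber W z S.X₂.obj
  let γ₃ : S.X₃.obj.obj (op W) ⟶ (EtModW.stalk Λ ζ).obj S.X₃ :=
    (Scheme.pointSmallEtale ζ).toPresheafFiber W z S.X₃.obj
  have hgA : ∀ a, (EtModW.stalk Λ ζ).map S.g (γ₂ (A a)) = 0 := fun a =>
    (congrArg _ (germ_naturality S.f z _).symm).trans
      (ConcreteCategory.congr_hom (S.map (EtModW.stalk Λ ζ)).zero _)
  have hgB : ∀ l, (EtModW.stalk Λ ζ).map S.g (γ₂ (B l)) =
      γ₃ (((ψ ≫ S.X₃.obj.map g.op) ≫ S.X₃.obj.map d.op) (π l)) := fun l => by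
    refine (germ_naturality S.g z _).trans (congrArg γ₃ ?_)
    exact (NatTrans.naturality_apply S.g.hom d.op (L₀ l)).trans (congrArg (S.X₃.obj.map d.op) (hL₀ l))
  have hmono := (mono_iff_stalks S.f).1 inferInstance Ω' ζ
  refine ⟨?_, fun (p : (EtModW.stalk Λ ζ).obj S.X₂) => ?_⟩
  · refine (injective_iff_map_eq_zero (χ ≫ γ₂).hom).2 fun q hq => ?_
    obtain ⟨⟨a, l⟩, rfl⟩ := Submodule.Quotient.mk_surjective R q
    have hq' : γ₂ (A a + B l) = 0 := hq
    have hl : π l = 0 := by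
      refine (hψW Ω' ζ z).1 (Eq.trans ?_ (map_zero _).symm)
      refine (hgB l).symm.trans ?_
      have := congrArg ((EtModW.stalk Λ ζ).map S.g) hq'
      rwa [map_add, map_add, hgA, zero_add, map_zero] at this
    have hB : B l = A (m ⟨l, hl⟩) := hBA ⟨l, hl⟩
    rw [hB, ← map_add] at hq'
    have ha : a + m ⟨l, hl⟩ = 0 := by
      refine (hφW Ω' ζ z).1 (Eq.trans ?_ (map_zero _).symm)
      refine hmono ?_
      refine Eq.trans ?_ (map_zero ((EtModW.stalk Λ ζ).map S.f).hom).symm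
      exact (germ_naturality S.f z _).trans hq'
    refine (Submodule.Quotient.mk_eq_zero R).2 ⟨⟨l, hl⟩, Prod.ext ?_ rfl⟩
    exact (eq_neg_of_add_eq_zero_left ha).symm
  · obtain ⟨n, hn⟩ := (hψW Ω' ζ z).2 ((EtModW.stalk Λ ζ).map S.g p)
    obtain ⟨l, rfl⟩ := hπ n
    obtain ⟨p₁, hp₁⟩ := stalk_exact hS.exact ζ (p - γ₂ (B l)) (by rw [map_sub, hgB, sub_eq_zero]; exact hn.symm)
    obtain ⟨a, rfl⟩ := (hφW Ω' ζ z).2 p₁
    refine ⟨Submodule.Quotient.mk (a, l), ?_⟩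
    show γ₂ (A a + B l) = p
    rw [map_add, ← eq_sub_iff_add_eq]
    exact (germ_naturality S.f z _).symm.trans hp₁

end Groth.Agent.EtModLC71
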