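import Groth.Agent.EtModLC71.Stalk
import Groth.Agent.EtFound.PointHom
import Groth.Agent.EtFound.FieldExt

/-!
# Specialisation maps of locally constant sheaves are bijective
-/

universe u

open CategoryTheory CategoryTheory.Limits AlgebraicGeometry Opposite

namespace Groth.Agent.EtModLC71

set_option backward.isDefEq.respectTransparency.types false

variable {Λ : Type (u + 1)} [CommRing Λ] {X : Scheme.{u}}

/-- germs commute with morphisms of points -/
theorem stalk_pointHom_germ {k k' : Type u} [Field k] [IsSepClosed k] [Field k'] [IsSepClosed k']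
    {η : Spec (CommRingCat.of k) ⟶ X} {η' : Spec (CommRingCat.of k') ⟶ X}
    (φ : Scheme.pointSmallEtale η' ⟶ Scheme.pointSmallEtale η) (F : EtModW.Mod Λ X) {U : X.Etale}
    (u : (Scheme.pointSmallEtale η).fiber.obj U) (s : F.obj.obj (op U)) :
    (GrothendieckTopology.Point.Hom.sheafFiber (A := ModuleCat.{u + 1} Λ) φ).app F
        ((Scheme.pointSmallEtale η).toPresheafFiber U u F.obj s) =
      (Scheme.pointSmallEtale η').toPresheafFiber U (φ.hom.app U u) F.obj s := by
  refine (ConcreteCategory.comp_apply _ _ _).symm.trans ?_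
  exact ConcreteCategory.congr_hom ((Scheme.pointSmallEtale η).toPresheafFiber_presheafFiberDesc (P := F.obj)
    (fun W w => (Scheme.pointSmallEtale η').toPresheafFiber W (φ.hom.app W w) F.obj)
    (fun W W' f x => by rw [GrothendieckTopology.Point.toPresheafFiber_w, NatTrans.naturality_apply]) U u) s

/-- a constant family gives the stalks at all separably closed points -/
theorem constBy_bijective {F : EtModW.Mod Λ X} {U : X.Etale} {M : ModuleCat.{u + 1} Λ}
    {φ : M ⟶ F.obj.obj (op U)} (h : EtFound.ConstBy F φ) {k : Type u} [Field k] [IsSepClosed k]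
    (η : Spec (CommRingCat.of k) ⟶ X) (z : (Scheme.pointSmallEtale η).fiber.obj U) :
    Function.Bijective (φ ≫ (Scheme.pointSmallEtale η).toPresheafFiber U z F.obj) := by
  let l : Spec (CommRingCat.of (AlgebraicClosure k)) ⟶ Spec (CommRingCat.of k) :=
    Spec.map (CommRingCat.ofHom (algebraMap k (AlgebraicClosure k)))
  let e := EtFound.pointExtIso η l
  have : IsIso (GrothendieckTopology.Point.Hom.sheafFiber (A := ModuleCat.{u + 1} Λ) e.hom) :=
    (EtFound.stalkExtIso (ModuleCat.{u + 1} Λ) η l).isIso_hom
  have hb := (ConcreteCategory.isIso_iff_bijective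
    ((GrothendieckTopology.Point.Hom.sheafFiber (A := ModuleCat.{u + 1} Λ) e.hom).app F)).1 inferInstance
  refine (hb.of_comp_iff' _).1 (Eq.mp (congrArg Function.Bijective (funext fun m => ?_))
    (h (AlgebraicClosure k) (l ≫ η) (e.hom.hom.app U z)))
  exact (stalk_pointHom_germ e.hom F z (φ m)).symm

/-- specialisation maps of a finite type locally constant sheaf are isomorphisms -/
theorem isIso_pointHom {F : EtModW.Mod Λ X} (hF : EtModW.IsFTLocConst Λ F)
    {k k' : Type u} [Field k] [IsSepClosed k] [Field k'] [IsSepClosed k']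
    {η : Spec (CommRingCat.of k) ⟶ X} {η' : Spec (CommRingCat.of k') ⟶ X}
    (φ : Scheme.pointSmallEtale η' ⟶ Scheme.pointSmallEtale η) :
    IsIso ((GrothendieckTopology.Point.Hom.sheafFiber (A := ModuleCat.{u + 1} Λ) φ).app F) := by
  obtain ⟨U, u, M, hM, ψ, hψ⟩ := exists_constBy_at hF η
  refine (ConcreteCategory.isIso_iff_bijective _).2 ?_
  refine ((constBy_bijective hψ η u)).of_comp_iff _ |>.1 ?_
  refine Eq.mp (congrArg Function.Bijective (funext fun m => ?_)) (constBy_bijective hψ η' (φ.hom.app U u))
  exact (stalk_pointHom_germ φ F u (ψ m)).symm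

/-- the stalk systems at a specialising pair agree -/
theorem nonempty_iso_of_specializes {C : Type*} [Category C] (F : C ⥤ EtModW.Mod Λ X)
    (hF : ∀ c, EtModW.IsFTLocConst Λ (F.obj c))
    {k k' : Type u} [Field k] [IsSepClosed k] [Field k'] [IsAlgClosed k']
    (η : Spec (CommRingCat.of k) ⟶ X) (η' : Spec (CommRingCat.of k') ⟶ X)
    (h : η'.base (default : Spec (CommRingCat.of k')) ⤳ η.base (default : Spec (CommRingCat.of k))) :
    Nonempty ((F ⋙ EtModW.stalk Λ η) ≅ (F ⋙ EtModW.stalk Λ η')) := by
  let T : X.Etale := Scheme.Etale.mk (𝟙 X)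
  let u : (Scheme.pointSmallEtale η).fiber.obj T := CategoryTheory.Over.homMk η (Category.comp_id _)
  let v : (Scheme.pointSmallEtale η').fiber.obj T := CategoryTheory.Over.homMk η' (Category.comp_id _)
  obtain ⟨φ, -⟩ := EtFound.exists_pointHom η η' u v h
  exact ⟨@asIso _ _ _ _ (Functor.whiskerLeft F (GrothendieckTopology.Point.Hom.sheafFiber (A := ModuleCat.{u + 1} Λ) φ))
    (@NatIso.isIso_of_isIso_app _ _ _ _ _ _ _ (fun c => isIso_pointHom (hF c) φ))⟩

/-- on a connected noetherian space a property closed under specialisation and generisation holds everywhere -/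
theorem eq_univ_of_stable {T : Type*} [TopologicalSpace T] [TopologicalSpace.NoetherianSpace T]
    [QuasiSober T] [ConnectedSpace T] (S : Set T) (hne : S.Nonempty)
    (h : ∀ x y : T, x ⤳ y → (x ∈ S ↔ y ∈ S)) : S = Set.univ := by
  have key : ∀ R : Set T, (∀ x y : T, x ⤳ y → (x ∈ R ↔ y ∈ R)) → IsClosed R := by
    intro R hR
    have : R = ⋃ Z ∈ {Z ∈ irreducibleComponents T | Z ⊆ R}, Z := by
      ext x
      simp only [Set.mem_iUnion, Set.mem_setOf_eq, exists_prop]
      refine ⟨fun hx => ⟨irreducibleComponent x, ⟨irreducibleComponent_mem_irreducibleComponents x, fun y hy => ?_⟩,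
        mem_irreducibleComponent⟩, fun ⟨Z, ⟨_, hZ⟩, hxZ⟩ => hZ hxZ⟩
      have hg := (isIrreducible_irreducibleComponent (x := x)).isGenericPoint_genericPoint isClosed_irreducibleComponent
      exact (hR _ _ (hg.specializes hy)).1 ((hR _ _ (hg.specializes mem_irreducibleComponent)).2 hx)
    rw [this]
    exact (TopologicalSpace.NoetherianSpace.finite_irreducibleComponents.subset fun Z hZ => hZ.1).isClosed_biUnion
      fun Z hZ => isClosed_of_mem_irreducibleComponents Z hZ.1
  refine (IsClopen.eq_univ ⟨key S h, ?_⟩ hne)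
  exact isClosed_compl_iff.1 (key Sᶜ fun x y hxy => not_congr (h x y hxy))

end Groth.Agent.EtModLC71
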