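import Groth.Prelude.Def_EtMod2
import Groth.Agent.EtFound.LocConst
import Groth.Agent.EtFound.ConstStalk
import Groth.Agent.EtFound.FLCAb
import Mathlib.Algebra.Category.ModuleCat.FilteredColimits
import Mathlib.Algebra.Category.ModuleCat.Limits

/-!
# Finite type locally constant sheaves of modules via constant families of sections
-/

universe u

open CategoryTheory CategoryTheory.Limits AlgebraicGeometry Opposite

namespace Groth.Agent.EtModLC71

set_option backward.isDefEq.respectTransparency.types false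

variable {Λ : Type (u + 1)} [CommRing Λ] {X : Scheme.{u}}

instance forget_preservesFilteredColimits :
    PreservesFilteredColimitsOfSize.{u, u} (forget (ModuleCat.{u + 1} Λ)) :=
  preservesFilteredColimitsOfSize_of_univLE.{u + 1, u + 1, u, u} _

/-- near each point the sheaf is given by a constant family on a finite module -/
theorem exists_constBy_of_isFTLocConst {F : EtModW.Mod Λ X} (hF : EtModW.IsFTLocConst Λ F) (x : X) :
    ∃ (U : X.Etale) (p : U.left) (M : ModuleCat.{u + 1} Λ) (_ : Module.Finite Λ M)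
      (φ : M ⟶ F.obj.obj (op U)), U.hom.base p = x ∧ EtFound.ConstBy F φ := by
  obtain ⟨ι, U, hU, h⟩ := hF
  obtain ⟨i, p, hp⟩ := hU x
  obtain ⟨M, _, _, hM, ⟨e⟩⟩ := h i
  obtain ⟨φ, hφ⟩ := EtFound.exists_constBy (A := ModuleCat.{u + 1} Λ) e
  exact ⟨U i, p, ModuleCat.of Λ M, hM, φ, hp, hφ⟩

/-- the converse -/
theorem isFTLocConst_of_constBy {F : EtModW.Mod Λ X}
    (h : ∀ x : X, ∃ (U : X.Etale) (p : U.left) (M : ModuleCat.{u + 1} Λ) (_ : Module.Finite Λ M)
      (φ : M ⟶ F.obj.obj (op U)), U.hom.base p = x ∧ EtFound.ConstBy F φ) :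
    EtModW.IsFTLocConst Λ F := by
  choose U p M hM φ hp hφ using h
  exact ⟨X, U, fun x => ⟨x, p x, hp x⟩, fun x => ⟨M x, inferInstance, inferInstance, hM x,
    EtFound.nonempty_restr_iso_const (hφ x)⟩⟩

/-- a neighbourhood of a geometric point carrying a constant family -/
theorem exists_constBy_at {F : EtModW.Mod Λ X} (hF : EtModW.IsFTLocConst Λ F)
    {Ω : Type u} [Field Ω] [IsSepClosed Ω] (ξ : Spec (CommRingCat.of Ω) ⟶ X) :
    ∃ (U : X.Etale) (_ : (Scheme.pointSmallEtale ξ).fiber.obj U) (M : ModuleCat.{u + 1} Λ) (_ : Module.Finite Λ M)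
      (φ : M ⟶ F.obj.obj (op U)), EtFound.ConstBy F φ := by
  obtain ⟨U, p, M, hM, φ, hp, hφ⟩ := exists_constBy_of_isFTLocConst hF (ξ.base (default : Spec (CommRingCat.of Ω)))
  obtain ⟨u, -⟩ := Scheme.pointSmallEtaleFiberObjToPreimage_surjective ξ rfl U ⟨p, hp⟩
  exact ⟨U, u, M, hM, φ, hφ⟩

theorem exists_point (x : X) :
    ∃ (Ω : Type u) (_ : Field Ω) (_ : IsAlgClosed Ω) (ξ : Spec (CommRingCat.of Ω) ⟶ X),
      ξ.base (default : Spec (CommRingCat.of Ω)) = x := by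
  refine ⟨AlgebraicClosure (X.residueField x), inferInstance, inferInstance,
    Spec.map (CommRingCat.ofHom (algebraMap (X.residueField x) _)) ≫ X.fromSpecResidueField x, ?_⟩
  exact (Scheme.Hom.comp_apply _ _ _).trans (Scheme.fromSpecResidueField_apply x _)

/-- two sheaves constant on one common neighbourhood -/
theorem exists_common {F G : EtModW.Mod Λ X} (hF : EtModW.IsFTLocConst Λ F) (hG : EtModW.IsFTLocConst Λ G)
    {Ω : Type u} [Field Ω] [IsSepClosed Ω] (ξ : Spec (CommRingCat.of Ω) ⟶ X) :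
    ∃ (U : X.Etale) (_ : (Scheme.pointSmallEtale ξ).fiber.obj U)
      (M : ModuleCat.{u + 1} Λ) (_ : Module.Finite Λ M) (φ : M ⟶ F.obj.obj (op U))
      (N : ModuleCat.{u + 1} Λ) (_ : Module.Finite Λ N) (ψ : N ⟶ G.obj.obj (op U)),
      EtFound.ConstBy F φ ∧ EtFound.ConstBy G ψ := by
  obtain ⟨U₁, u₁, M, hM, φ, hφ⟩ := exists_constBy_at hF ξ
  obtain ⟨U₂, u₂, N, hN, ψ, hψ⟩ := exists_constBy_at hG ξ
  obtain ⟨⟨W, w⟩, ⟨a, -⟩, ⟨b, -⟩, -⟩ := IsCofilteredOrEmpty.cone_objs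
    ((Scheme.pointSmallEtale ξ).fiber.elementsMk U₁ u₁) ((Scheme.pointSmallEtale ξ).fiber.elementsMk U₂ u₂)
  exact ⟨W, w, M, hM, _, N, hN, _, hφ.restrict a, hψ.restrict b⟩

/-- a map between sheaves constant near `ξ` is induced by a linear map near `ξ` -/
theorem exists_linearMap {F G : EtModW.Mod Λ X} (a : F ⟶ G) {U : X.Etale}
    {Ω : Type u} [Field Ω] [IsAlgClosed Ω] (ξ : Spec (CommRingCat.of Ω) ⟶ X)
    (u : (Scheme.pointSmallEtale ξ).fiber.obj U)
    {M N : ModuleCat.{u + 1} Λ} [Module.Finite Λ M] {φ : M ⟶ F.obj.obj (op U)} {ψ : N ⟶ G.obj.obj (op U)}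
    (hψ : EtFound.ConstBy G ψ) :
    ∃ (V : X.Etale) (g : V ⟶ U) (_ : (Scheme.pointSmallEtale ξ).fiber.obj V) (h : M ⟶ N),
      (φ ≫ F.obj.map g.op) ≫ a.hom.app (op V) = h ≫ ψ ≫ G.obj.map g.op := by
  let Φ := Scheme.pointSmallEtale ξ
  let e : N →ₗ[Λ] ((Φ.presheafFiber (A := ModuleCat.{u + 1} Λ)).obj G.obj : ModuleCat.{u + 1} Λ) := (ψ ≫ Φ.toPresheafFiber U u G.obj).hom
  let e' : N ≃ₗ[Λ] ((Φ.presheafFiber (A := ModuleCat.{u + 1} Λ)).obj G.obj : ModuleCat.{u + 1} Λ) := LinearEquiv.ofBijective e (hψ Ω ξ u)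
  let h : M ⟶ N := ModuleCat.ofHom (e'.symm.toLinearMap.comp
    (φ ≫ a.hom.app (op U) ≫ Φ.toPresheafFiber U u G.obj).hom)
  obtain ⟨k, s, hs⟩ := Module.Finite.exists_fin (R := Λ) (M := M)
  have key : ∀ i, Φ.toPresheafFiber U u G.obj ((φ ≫ a.hom.app (op U)) (s i)) =
      Φ.toPresheafFiber U u G.obj ((h ≫ ψ) (s i)) := fun i =>
    (e'.apply_symm_apply ((φ ≫ a.hom.app (op U) ≫ Φ.toPresheafFiber U u G.obj).hom (s i))).symm
  obtain ⟨V, g, v, -, hv⟩ := EtFound.exists_forall_eq G.obj u _ _ key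
  refine ⟨V, g, v, h, ?_⟩
  rw [Category.assoc, a.hom.naturality, ← Category.assoc, ← Category.assoc]
  exact ModuleCat.hom_ext (LinearMap.ext_on_range hs hv)

end Groth.Agent.EtModLC71
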