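import Groth.Prelude.Def_EtModD2
import Groth.Agent.EtModLC71.Basic
import Mathlib.CategoryTheory.Sites.Point.Monoidal
import Mathlib.LinearAlgebra.TensorProduct.Finiteness

/-!
# Tensor products of constant families
-/

universe u

open CategoryTheory CategoryTheory.Limits AlgebraicGeometry Opposite MonoidalCategory

namespace Groth.Agent.EtModLC71

set_option backward.isDefEq.respectTransparency.types false

variable {Λ : Type (u + 1)} [CommRing Λ] {X : Scheme.{u}}

/-- the product family of sections of the tensor product -/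
noncomputable def tensorFam {F G : EtModW.Mod Λ X} {U : X.Etale} {M N : ModuleCat.{u + 1} Λ}
    (φ : M ⟶ F.obj.obj (op U)) (ψ : N ⟶ G.obj.obj (op U)) :
    M ⊗ N ⟶ (((EtModD.tensorBi Λ X).obj F).obj G).obj.obj (op U) :=
  (φ ⊗ₘ ψ) ≫ (toSheafify X.smallEtaleTopology (F.obj ⊗ G.obj)).app (op U)

theorem constBy_tensorFam {F G : EtModW.Mod Λ X} {U : X.Etale} {M N : ModuleCat.{u + 1} Λ}
    {φ : M ⟶ F.obj.obj (op U)} {ψ : N ⟶ G.obj.obj (op U)} (hφ : EtFound.ConstBy F φ)
    (hψ : EtFound.ConstBy G ψ) : EtFound.ConstBy (((EtModD.tensorBi Λ X).obj F).obj G) (tensorFam φ ψ) := by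
  intro Ω _ _ ξ u
  let Φ := Scheme.pointSmallEtale ξ
  have h1 : IsIso (φ ≫ Φ.toPresheafFiber U u F.obj) := (ConcreteCategory.isIso_iff_bijective _).2 (hφ Ω ξ u)
  have h2 : IsIso (ψ ≫ Φ.toPresheafFiber U u G.obj) := (ConcreteCategory.isIso_iff_bijective _).2 (hψ Ω ξ u)
  have h3 : IsIso (Φ.presheafFiber.map (toSheafify X.smallEtaleTopology (F.obj ⊗ G.obj))) :=
    Φ.W_isInvertedBy_presheafFiber' _ (GrothendieckTopology.W_toSheafify _ _)
  have hl : ∀ Z : ModuleCat.{u + 1} Λ, PreservesFilteredColimitsOfSize.{u, u} (tensorLeft Z) := fun Z =>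
    haveI : (tensorLeft Z).IsLeftAdjoint := ⟨_, ⟨ihom.adjunction Z⟩⟩
    ⟨fun J _ _ => inferInstance⟩
  have hr : ∀ Z : ModuleCat.{u + 1} Λ, PreservesFilteredColimitsOfSize.{u, u} (tensorRight Z) := fun Z =>
    haveI : (tensorLeft Z).IsLeftAdjoint := ⟨_, ⟨ihom.adjunction Z⟩⟩
    haveI : (tensorRight Z).IsLeftAdjoint :=
      Functor.isLeftAdjoint_of_iso (BraidedCategory.tensorLeftIsoTensorRight Z)
    ⟨fun J _ _ => inferInstance⟩
  have e : tensorFam φ ψ ≫ Φ.toPresheafFiber U u (((EtModD.tensorBi Λ X).obj F).obj G).obj =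
      ((φ ≫ Φ.toPresheafFiber U u F.obj) ⊗ₘ (ψ ≫ Φ.toPresheafFiber U u G.obj)) ≫
        inv (Functor.OplaxMonoidal.δ Φ.presheafFiber F.obj G.obj) ≫
          Φ.presheafFiber.map (toSheafify X.smallEtaleTopology (F.obj ⊗ G.obj)) := by
    refine Eq.trans ?_ (congrArg (· ≫ _) (tensorHom_comp_tensorHom φ ψ _ _))
    refine (Category.assoc _ _ _).trans (Eq.trans ?_ (Category.assoc _ _ _).symm)
    refine congrArg ((φ ⊗ₘ ψ) ≫ ·) ?_
    refine Eq.trans ?_ (congrArg (· ≫ _) (GrothendieckTopology.Point.toPresheafFiber_δ Φ U u F.obj G.obj))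
    refine Eq.trans ?_ (Category.assoc _ _ _).symm
    refine Eq.trans ?_ (congrArg (Φ.toPresheafFiber U u (F.obj ⊗ G.obj) ≫ ·) (IsIso.hom_inv_id_assoc _ _).symm)
    exact (Φ.toPresheafFiber_naturality (toSheafify X.smallEtaleTopology (F.obj ⊗ G.obj)) U u).symm
  have : IsIso (tensorFam φ ψ ≫ Φ.toPresheafFiber U u (((EtModD.tensorBi Λ X).obj F).obj G).obj) := by
    rw [e]
    exact IsIso.comp_isIso' (MonoidalCategory.tensor_isIso _ _) (IsIso.comp_isIso' inferInstance h3)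
  exact (ConcreteCategory.isIso_iff_bijective _).1 this

end Groth.Agent.EtModLC71
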