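import Groth.Prelude.Def_ARSys
import Groth.Agent.ARLib.Criterion
import Groth.Agent.ARLib.Iso
import Groth.Agent.EtModLC71.Constr
import Mathlib.CategoryTheory.Linear.LinearFunctor
import Mathlib.CategoryTheory.Sites.Abelian

/-!
# Systems that are adic up to translation, under right exact linear functors
-/

universe w v v' u u'

open CategoryTheory CategoryTheory.Limits Opposite ARSys

namespace Groth.Agent.EtModLC71

section general

variable {C : Type u} [Category.{v} C] [Abelian C] {D : Type u'} [Category.{v'} D] [Abelian D]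
  {A : Type w} [CommRing A] [Linear A C] [Linear A D] (G : C ⥤ D) [G.Additive] [Functor.Linear A G]
  [PreservesFiniteColimits G]

theorem killedBy_map {I : Ideal A} {X : C} (h : KilledBy I X) : KilledBy I (G.obj X) := fun a ha => by
  rw [← G.map_id, ← Functor.map_smul, h a ha, G.map_zero]

theorem homKilledBy_of_gens {n : ℕ} {X Y : D} (gen : Fin n → A) {φ : X ⟶ Y} (h : ∀ i, gen i • φ = 0) :
    HomKilledBy (Ideal.span (Set.range gen)) φ := fun a ha => by
  induction ha using Submodule.span_induction with
  | mem x hx => obtain ⟨i, rfl⟩ := hx; exact h i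
  | zero => exact zero_smul _ _
  | add x y _ _ hx hy => rw [add_smul, hx, hy, add_zero]
  | smul c x _ hx => rw [smul_eq_mul, mul_smul, hx, smul_zero]

/-- right exact linear functors preserve quotients modulo finitely generated ideals -/
theorem isQuot_map {I : Ideal A} (hI : I.FG) {X Q : C} {p : X ⟶ Q} (hp : IsQuot I p) : IsQuot I (G.map p) := by
  obtain ⟨n, gen, hgen⟩ := Submodule.fg_iff_exists_fin_generating_family.1 hI
  have hmem : ∀ i, gen i ∈ I := fun i => hgen ▸ Submodule.subset_span ⟨i, rfl⟩
  let d : (∐ fun _ : Fin n => X) ⟶ X := Sigma.desc fun i => gen i • 𝟙 X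
  have hdp : d ≫ p = 0 := Sigma.hom_ext _ _ fun i => by
    rw [Sigma.ι_desc_assoc, Linear.smul_comp, Category.id_comp, comp_zero]
    exact ARLib.IsQuot.homKilledBy hp _ (hmem i)
  have hk : ∀ {T : C} (φ : X ⟶ T), d ≫ φ = 0 → HomKilledBy I φ := fun φ hφ => by
    intro a ha
    rw [← hgen] at ha
    have hgφ : ∀ i, gen i • φ = 0 := fun i => by
      have := congrArg (Sigma.ι (fun _ : Fin n => X) i ≫ ·) hφ
      rwa [Sigma.ι_desc_assoc, Linear.smul_comp, Category.id_comp, comp_zero] at this
    clear hgen hmem hdp d hφ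
    induction ha using Submodule.span_induction with
    | mem x hx => obtain ⟨i, rfl⟩ := hx; exact hgφ i
    | zero => exact zero_smul _ _
    | add x y _ _ hx hy => rw [add_smul, hx, hy, add_zero]
    | smul c x _ hx => rw [smul_eq_mul, mul_smul, hx, smul_zero]
  have := ARLib.IsQuot.epi hp
  let hc : IsColimit (CokernelCofork.ofπ p hdp) := CokernelCofork.IsColimit.ofπ p hdp
    (fun φ hφ => (hp.2 _ φ (hk φ hφ)).choose) (fun φ hφ => (hp.2 _ φ (hk φ hφ)).choose_spec.1)
    (fun φ hφ m hm => (hp.2 _ φ (hk φ hφ)).choose_spec.2 m hm)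
  let hG := CokernelCofork.mapIsColimit _ hc G
  refine ⟨killedBy_map G hp.1, fun T φ hφ => ?_⟩
  have hd : G.map d ≫ φ = 0 := by
    refine (isColimitOfHasCoproductOfPreservesColimit G (fun _ : Fin n => X)).hom_ext fun i => ?_
    obtain ⟨i⟩ := i
    simp only [Cofan.mk_ι_app, comp_zero]
    rw [← G.map_comp_assoc, Sigma.ι_desc, Functor.map_smul, G.map_id, Linear.smul_comp, Category.id_comp]
    exact hφ _ (hmem i)
  obtain ⟨l, hl⟩ := CokernelCofork.IsColimit.desc' hG φ hd
  have : Epi (G.map p) := inferInstance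
  exact ⟨l, hl, fun m hm => by rw [← cancel_epi (G.map p), hm]; exact hl.symm⟩

theorem termKilled_map {J : Ideal A} {X : PS C} (h : TermKilled J X) : TermKilled J (X ⋙ G) :=
  fun n => killedBy_map G (h n)

/-- right exact linear functors preserve adic systems -/
theorem isAdic_map {J : Ideal A} (hJ : J.FG) {X : PS C} (h : IsAdic J X) : IsAdic J (X ⋙ G) :=
  ⟨termKilled_map G h.1, fun n m hnm => isQuot_map G (Submodule.FG.pow hJ _) (h.2 n m hnm)⟩

end general

/-- any functor preserves isomorphisms up to translation -/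
theorem isARIso_map {C : Type u} [Category.{v} C] [Abelian C] {D : Type u'} [Category.{v'} D] [Abelian D]
    (G : C ⥤ D) {X Y : PS C} {f : X ⟶ Y} (h : IsARIso f) : IsARIso (Functor.whiskerRight f G) := by
  obtain ⟨r, ⟨I⟩⟩ := ARLib.exists_inv h
  exact ARLib.isARIso_of_inv (r := r)
    { ψ := fun n m hm => G.map (I.ψ n m hm)
      ψ_u := fun n m hm => by
        show G.map (I.ψ n m hm) ≫ G.map (f.app (op n)) = G.map (tr Y _)
        rw [← G.map_comp, I.ψ_u]
      u_ψ := fun n m hm => by
        show G.map (f.app (op m)) ≫ G.map (I.ψ n m hm) = G.map (tr X _)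
        rw [← G.map_comp, I.u_ψ]
      ψ_tr := fun n n' m hm hn => by
        show G.map (I.ψ n' m hm) ≫ G.map (tr X hn) = _
        rw [← G.map_comp, I.ψ_tr]
      tr_ψ := fun n m m' hm hm' => by
        show G.map (tr Y hm') ≫ G.map (I.ψ n m hm) = _
        rw [← G.map_comp, I.tr_ψ] }

section etale

open AlgebraicGeometry

set_option backward.isDefEq.respectTransparency.types false

variable {Λ : Type (u + 1)} [CommRing Λ]

instance pull_additive {X Y : Scheme.{u}} (f : X ⟶ Y) : (EtModW.pull Λ f).Additive :=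
  Functor.additive_of_preserves_binary_products _

instance stalk_additive {X : Scheme.{u}} {Ω : Type u} [Field Ω] [IsSepClosed Ω]
    (ξ : Spec (CommRingCat.of Ω) ⟶ X) : (EtModW.stalk Λ ξ).Additive :=
  Functor.additive_of_preserves_binary_products _

instance push_linear {X Y : Scheme.{u}} (f : X ⟶ Y) : Functor.Linear Λ (EtModW.push Λ f) where
  map_smul _ _ := rfl

instance pull_linear {X Y : Scheme.{u}} (f : X ⟶ Y) : Functor.Linear Λ (EtModW.pull Λ f) where
  map_smul φ r := by
    refine ((pullPushMod f).homEquiv _ _).injective ?_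
    simp only [Adjunction.homEquiv_unit, Functor.map_smul, Linear.comp_smul]
    rw [← Functor.comp_map, ← (pullPushMod f).unit.naturality]
    refine Eq.trans ?_ (congrArg (r • ·) ((pullPushMod f).unit.naturality φ))
    simp [Linear.smul_comp]

instance stalk_linear {X : Scheme.{u}} {Ω : Type u} [Field Ω] [IsSepClosed Ω]
    (ξ : Spec (CommRingCat.of Ω) ⟶ X) : Functor.Linear Λ (EtModW.stalk Λ ξ) where
  map_smul {F G} φ r := by
    refine (Scheme.pointSmallEtale ξ).presheafFiber_hom_ext fun V v => ?_
    refine ((Scheme.pointSmallEtale ξ).toPresheafFiber_naturality (r • φ).hom V v).trans ?_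
    refine Eq.trans ?_ (Linear.comp_smul _ _ _ ((Scheme.pointSmallEtale ξ).toPresheafFiber V v F.obj) r
      ((Scheme.pointSmallEtale ξ).presheafFiber.map φ.hom)).symm
    refine (Linear.smul_comp _ _ _ r (φ.hom.app (op V)) _).trans (congrArg (r • ·) ?_)
    exact ((Scheme.pointSmallEtale ξ).toPresheafFiber_naturality φ.hom V v).symm

end etale

end Groth.Agent.EtModLC71

namespace Groth.Agent.EtModLC71

section limits

variable {Λ : Type w} [CommRing Λ]

/-- a strict system of modules with zero limit is zero -/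
theorem isZero_of_isZero_limit {M : PS (ModuleCat.{w} Λ)}
    (hs : ∀ (n m : ℕ) (h : n ≤ m), Function.Surjective (tr M h)) [HasLimit M] (hl : IsZero (limit M)) (n : ℕ) :
    IsZero (M.obj (op n)) := by
  refine ModuleCat.isZero_iff_subsingleton.2 ⟨?_⟩
  suffices ∀ x : M.obj (op n), x = 0 from fun a b => (this a).trans (this b).symm
  intro x
  choose lift hlift using fun k => hs (n + k) (n + (k + 1)) (by omega)
  let t : ∀ k, M.obj (op (n + k)) := fun k => Nat.rec (motive := fun k => M.obj (op (n + k))) x (fun j y => lift j y) k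
  have htt : ∀ k k' (h : k ≤ k'), tr M (Nat.add_le_add_left h n) (t k') = t k := by
    intro k k' h
    induction h with
    | refl => rw [ARLib.tr_refl]; rfl
    | @step j hj ih =>
      have h1 : n + k ≤ n + j := Nat.add_le_add_left hj n
      rw [← ARLib.tr_tr M h1 (show n + j ≤ n + (j + 1) by omega), ConcreteCategory.comp_apply]
      exact (congrArg _ (hlift j (t j))).trans ih
  let s : ∀ m, M.obj (op m) := fun m => tr M (show m ≤ n + m by omega) (t m)
  have hss : ∀ m m' (h : m ≤ m'), tr M h (s m') = s m := by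
    intro m m' h
    show tr M h (tr M _ (t m')) = tr M _ (t m)
    rw [← htt m m' h, ← ConcreteCategory.comp_apply, ← ConcreteCategory.comp_apply, ARLib.tr_tr, ARLib.tr_tr]
  let c : Cone M := Cone.mk (ModuleCat.of Λ Λ)
    { app := fun m => ModuleCat.ofHom (LinearMap.toSpanSingleton Λ _ (s m.unop))
      naturality := fun a b g => by
        refine (Category.id_comp _).trans (ModuleCat.hom_ext (LinearMap.ext_ring ?_))
        show LinearMap.toSpanSingleton Λ _ (s b.unop) 1 = M.map g (LinearMap.toSpanSingleton Λ _ (s a.unop) 1)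
        rw [LinearMap.toSpanSingleton_apply_one, LinearMap.toSpanSingleton_apply_one, ARLib.map_eq_tr]
        exact (hss _ _ _).symm }
  have h0 : c.π.app (op n) = 0 := by
    rw [← limit.lift_π, hl.eq_of_tgt (limit.lift M c) 0, zero_comp]
  have h1 : s n = 0 := (LinearMap.toSpanSingleton_apply_one Λ _ (s n)).symm.trans (ConcreteCategory.congr_hom h0 (1 : Λ))
  show t 0 = 0
  rw [← htt 0 n (Nat.zero_le n)]
  exact h1

/-- a system with null translation has zero limit -/
theorem isZero_limit_of_isARNull {D : Type u} [Category.{v} D] [HasZeroMorphisms D] {M : PS D} (h : IsARNull M)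
    [HasLimit M] : IsZero (limit M) := by
  obtain ⟨r, hr⟩ := h
  rw [IsZero.iff_id_eq_zero]
  refine limit.hom_ext fun m => ?_
  rw [Category.id_comp, zero_comp, ← limit.w M (homOfLE (Nat.le_add_right m.unop r)).op]
  exact (congrArg (limit.π M _ ≫ ·) (hr m.unop)).trans comp_zero

/-- nullity passes along isomorphisms up to translation -/
theorem isARNull_of_isARIso {C : Type u} [Category.{v} C] [Abelian C] {X Y : PS C} {f : X ⟶ Y}
    (hf : IsARIso f) (hX : ∀ n, IsZero (X.obj (op n))) : IsARNull Y := by
  obtain ⟨r, ⟨J⟩⟩ := ARLib.exists_inv hf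
  exact ⟨r, fun n => by
    rw [ARLib.shiftMap_eq, ← J.ψ_u n (n + r) le_rfl, (hX n).eq_of_tgt (J.ψ n (n + r) le_rfl) 0, zero_comp]
    rfl⟩

end limits

end Groth.Agent.EtModLC71
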