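import Groth.Prelude.Def_WeakSerre
import Groth.Agent.EtModLC71.Constr

/-!
# Constructible sheaves of modules form a weak Serre class
-/

universe u

open CategoryTheory CategoryTheory.Limits AlgebraicGeometry Opposite

namespace Groth.Agent.EtModLC71

set_option backward.isDefEq.respectTransparency.types false

variable {Λ : Type (u + 1)} [CommRing Λ] {X : Scheme.{u}}

theorem isFTLocConst_of_isZero {F : EtModW.Mod Λ X} (h : IsZero F) : EtModW.IsFTLocConst Λ F := by
  refine isFTLocConst_of_constBy fun x => ?_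
  obtain ⟨Ω, _, _, ξ, hξ⟩ := exists_point x
  let T : X.Etale := Scheme.Etale.mk (𝟙 X)
  refine ⟨T, x, ModuleCat.of Λ PUnit, inferInstance, 0, rfl, fun Ω' _ _ ζ z => ⟨fun a b _ => Subsingleton.elim a b, fun p => ⟨PUnit.unit, ?_⟩⟩⟩
  have := ModuleCat.subsingleton_of_isZero ((EtModW.stalk Λ ζ).map_isZero h)
  exact Subsingleton.elim (α := (EtModW.stalk Λ ζ).obj F) _ _

theorem isConstructible_of_iso {F G : EtModW.Mod Λ X} (e : F ≅ G) (h : EtModW.IsConstructible Λ F) :
    EtModW.IsConstructible Λ G :=
  isConstructible_of_two h h fun _ g h1 _ => isFTLocConst_of_iso ((EtModW.pull Λ g).mapIso e) h1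

theorem isConstructible_of_isFTLocConst {F : EtModW.Mod Λ X} (h : EtModW.IsFTLocConst Λ F) :
    EtModW.IsConstructible Λ F := fun U _ => by
  refine adaptedStrata_of_cover U.2.isLocallyClosed (fun _ : Unit => (U : Set X))
    (fun _ => ⟨U.toScheme, U.ι, inferInstance, U.range_ι, isFTLocConst_pull U.ι h⟩) (fun _ => ?_)
    (fun x hx => Set.mem_iUnion.2 ⟨(), hx⟩)
  rw [Subtype.coe_preimage_self]
  exact Topology.IsConstructible.univ

theorem isConstructible_of_isZero {F : EtModW.Mod Λ X} (h : IsZero F) : EtModW.IsConstructible Λ F :=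
  isConstructible_of_isFTLocConst (isFTLocConst_of_isZero h)

variable (Λ X) in
/-- constructible sheaves as a property of objects -/
def constrProp : ObjectProperty (EtModW.Mod Λ X) := fun E => EtModW.IsConstructible Λ E

instance isWeakSerre_constrProp [IsNoetherianRing Λ] : WSerre.IsWeakSerre (constrProp Λ X) :=
  have z : (constrProp Λ X).ContainsZero := by
    obtain ⟨Z, hZ⟩ := HasZeroObject.zero (C := EtModW.Mod Λ X)
    exact ⟨Z, hZ, isConstructible_of_isZero hZ⟩
  have k : (constrProp Λ X).IsClosedUnderKernels := ⟨fun _ h => by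
    obtain @⟨A, B, f, c, hc, hA, hB⟩ := h
    exact isConstructible_of_iso ((kernelIsKernel f).conePointUniqueUpToIso hc) (isConstructible_kernel f hA hB)⟩
  have c : (constrProp Λ X).IsClosedUnderCokernels := ⟨fun _ h => by
    obtain @⟨A, B, f, c, hc, hA, hB⟩ := h
    exact isConstructible_of_iso ((cokernelIsCokernel f).coconePointUniqueUpToIso hc) (isConstructible_cokernel f hA hB)⟩
  have e : (constrProp Λ X).IsClosedUnderExtensions := ⟨fun hS h₁ h₃ => isConstructible_of_extension hS h₁ h₃⟩
  { toContainsZero := z, toIsClosedUnderKernels := k, toIsClosedUnderCokernels := c, toIsClosedUnderExtensions := e }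

end Groth.Agent.EtModLC71
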