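import Groth.Agent.EtModLC71.Generic
import Groth.Agent.EtModLC71.Special
import Mathlib.CategoryTheory.Subobject.NoetherianObject

/-!
# Constructible sheaves of modules are noetherian objects
-/

universe u

open CategoryTheory CategoryTheory.Limits AlgebraicGeometry Opposite Topology TopologicalSpace

namespace Groth.Agent.EtModLC71

set_option backward.isDefEq.respectTransparency.types false

variable {Λ : Type (u + 1)} [CommRing Λ] {X : Scheme.{u}}

theorem map_eq_zero_iff_of_natIso {C : Type*} [Category C] {D : Type*} [Category D] [HasZeroMorphisms D]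
    {F G : C ⥤ D} (e : F ≅ G) {A B : C} (a : A ⟶ B) : F.map a = 0 ↔ G.map a = 0 := by
  rw [← NatIso.naturality_2 e a]
  refine ⟨fun h => ?_, fun h => by rw [h, zero_comp, comp_zero]⟩
  rw [← cancel_mono (e.inv.app B), ← cancel_epi (e.hom.app A), h, zero_comp, comp_zero]

/-- on a piece through the generic point, vanishing spreads from the generic stalk -/
theorem stalk_map_eq_zero_of_generic {A Q : EtModW.Mod Λ X} (a : A ⟶ Q) {T : Scheme.{u}} (g : T ⟶ X)
    (hQ : EtModW.IsFTLocConst Λ ((EtModW.pull Λ g).obj Q)) {t y : T} (h : t ⤳ y)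
    {Ω : Type u} [Field Ω] [IsSepClosed Ω] (ξ : Spec (CommRingCat.of Ω) ⟶ X)
    (hξ : ξ.base (default : Spec (CommRingCat.of Ω)) = g.base t) (h0 : (EtModW.stalk Λ ξ).map a = 0)
    {k : Type u} [Field k] [IsSepClosed k] (ζ : Spec (CommRingCat.of k) ⟶ X)
    (hζ : ζ.base (default : Spec (CommRingCat.of k)) = g.base y) : (EtModW.stalk Λ ζ).map a = 0 := by
  obtain ⟨K, _, _, η, hη⟩ := exists_point t
  obtain ⟨L, _, _, θ, hθ⟩ := exists_point y
  obtain ⟨eη⟩ := nonempty_stalk_iso (Λ := Λ) ξ (η ≫ g) (by rw [Scheme.Hom.comp_apply, hη, hξ])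
  obtain ⟨eθ⟩ := nonempty_stalk_iso (Λ := Λ) ζ (θ ≫ g) (by rw [Scheme.Hom.comp_apply, hθ, hζ])
  have h1 : (EtModW.stalk Λ η).map ((EtModW.pull Λ g).map a) = 0 :=
    (map_eq_zero_iff_of_natIso (stalkPullMod (Λ := Λ) g η) a).2 ((map_eq_zero_iff_of_natIso eη a).1 h0)
  refine (map_eq_zero_iff_of_natIso eθ a).2 ((map_eq_zero_iff_of_natIso (stalkPullMod (Λ := Λ) g θ) a).1 ?_)
  show (EtModW.stalk Λ θ).map ((EtModW.pull Λ g).map a) = 0
  let T₀ : T.Etale := Scheme.Etale.mk (𝟙 T)
  let u : (Scheme.pointSmallEtale θ).fiber.obj T₀ := CategoryTheory.Over.homMk θ (Category.comp_id _)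
  let v : (Scheme.pointSmallEtale η).fiber.obj T₀ := CategoryTheory.Over.homMk η (Category.comp_id _)
  obtain ⟨φ, -⟩ := EtFound.exists_pointHom θ η u v
    ((specializes_of_eq hη).trans (h.trans (specializes_of_eq hθ.symm)))
  let b := (GrothendieckTopology.Point.Hom.sheafFiber (A := ModuleCat.{u + 1} Λ) φ).app ((EtModW.pull Λ g).obj Q)
  refine (@cancel_mono _ _ _ _ _ b (@IsIso.mono_of_iso _ _ _ _ b (isIso_pointHom hQ φ)) _ _).1 ?_
  rw [zero_comp]
  exact ((GrothendieckTopology.Point.Hom.sheafFiber (A := ModuleCat.{u + 1} Λ) φ).naturality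
    ((EtModW.pull Λ g).map a)).trans ((congrArg (_ ≫ ·) h1).trans comp_zero)

/-- ascending chains in constructible sheaves stabilise -/
theorem chain_stabilises [IsNoetherianRing Λ] [IsNoetherian X] {F : EtModW.Mod Λ X}
    (hF : EtModW.IsConstructible Λ F) (c : ℕ →o Subobject F) : ∃ N, ∀ m, N ≤ m → c m = c N := by
  let δ : ∀ m N, ((c m : EtModW.Mod Λ X) ⟶ cokernel (c N).arrow) := fun m N => (c m).arrow ≫ cokernel.π _
  let Good : Set X → ℕ → Prop := fun C N => ∀ m, ∀ (k : Type u) [Field k] [IsSepClosed k]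
    (ζ : Spec (CommRingCat.of k) ⟶ X), ζ.base (default : Spec (CommRingCat.of k)) ∈ C →
      (EtModW.stalk Λ ζ).map (δ m N) = 0
  have mono : ∀ {C : Set X} {N N' : ℕ}, N ≤ N' → Good C N → Good C N' := fun {C N N'} hN hg m k _ _ ζ hζ => by
    have e : δ m N' = δ m N ≫ cokernel.desc _ (cokernel.π (c N').arrow) (by
        rw [← Subobject.ofLE_arrow (c.monotone hN), Category.assoc, cokernel.condition, comp_zero]) := by
      simp [δ]
    rw [e, Functor.map_comp, hg m k ζ hζ, zero_comp]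
  obtain ⟨N, hN⟩ : ∃ N, Good Set.univ N := by
    refine SpecLib.irred_induction (P := fun C => ∃ N, Good C N) ⟨0, fun m k _ _ ζ hζ => hζ.elim⟩
      (fun A B _ _ ⟨a, ha⟩ ⟨b, hb⟩ => ⟨max a b, fun m k _ _ ζ hζ => hζ.elim
        (mono (le_max_left a b) ha m k ζ) (mono (le_max_right a b) hb m k ζ)⟩) (fun Y hY hirr ih => ?_) isClosed_univ
    have hx : IsGenericPoint hirr.genericPoint Y := by
      simpa [hY.closure_eq] using hirr.isGenericPoint_genericPoint_closure
    obtain ⟨Ω, _, _, ξ₀, hξ₀⟩ := exists_point hirr.genericPoint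
    have : Module.Finite Λ ((EtModW.stalk Λ ξ₀).obj F) := finite_stalk hF ξ₀
    let R : ℕ →o Submodule Λ ((EtModW.stalk Λ ξ₀).obj F) :=
      ⟨fun m => LinearMap.range ((EtModW.stalk Λ ξ₀).map (c m).arrow).hom, fun a b hab => by
        rintro _ ⟨x, rfl⟩
        refine ⟨(EtModW.stalk Λ ξ₀).map (Subobject.ofLE _ _ (c.monotone hab)) x, ?_⟩
        rw [← ConcreteCategory.comp_apply, ← Functor.map_comp, Subobject.ofLE_arrow]⟩
    obtain ⟨N₀, hN₀⟩ := monotone_stabilizes_iff_noetherian.2 (isNoetherian_of_isNoetherianRing_of_finite Λ _) R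
    obtain ⟨V, hxV, T, g, hg, hr, hT⟩ := exists_generic_piece
      (isConstructible_of_epi (cokernel.π (c N₀).arrow) hF) hirr.genericPoint
    obtain ⟨t, ht⟩ : hirr.genericPoint ∈ Set.range g.base := hr.ge ⟨hxV, subset_closure rfl⟩
    obtain ⟨N₁, hN₁⟩ := ih (Y ∩ (V : Set X)ᶜ) (hY.inter V.2.isClosed_compl)
      (Set.inter_subset_left.ssubset_of_ne fun e => (e.ge hx.mem).2 hxV)
    refine ⟨max N₀ N₁, fun m k _ _ ζ hζ => ?_⟩
    by_cases hζV : ζ.base (default : Spec (CommRingCat.of k)) ∈ V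
    · refine mono (C := {ζ.base (default : Spec (CommRingCat.of k))}) (le_max_left N₀ N₁)
        (fun m k' _ _ ζ' h' => ?_) m k ζ rfl
      have h' : ζ'.base (default : Spec (CommRingCat.of k')) ∈ Y := (Set.mem_singleton_iff.1 h') ▸ hζ
      have hV' : ζ'.base (default : Spec (CommRingCat.of k')) ∈ V := by
        rw [Set.mem_singleton_iff.1 ‹ζ'.base _ ∈ ({_} : Set X)›]; exact hζV
      obtain ⟨y, hy⟩ : ζ'.base (default : Spec (CommRingCat.of k')) ∈ Set.range g.base :=
        hr.ge ⟨hV', (hx.specializes h').mem_closure⟩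
      refine stalk_map_eq_zero_of_generic (δ m N₀) g hT (g.isEmbedding.isInducing.specializes_iff.1
        ((specializes_of_eq ht).trans (hy ▸ hx.specializes h'))) ξ₀ (hξ₀.trans ht.symm) ?_ ζ' hy.symm
      -- vanishing at the generic point
      refine ModuleCat.hom_ext (LinearMap.ext fun x => ?_)
      obtain ⟨z, hz⟩ : (EtModW.stalk Λ ξ₀).map (c m).arrow x ∈ R N₀ := by
        rcases le_total m N₀ with h | h
        · exact R.mono h ⟨x, rfl⟩
        · exact (hN₀ m h).ge ⟨x, rfl⟩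
      show (EtModW.stalk Λ ξ₀).map (δ m N₀) x = 0
      rw [Functor.map_comp, ConcreteCategory.comp_apply, ← hz]
      refine (ConcreteCategory.comp_apply _ _ z).symm.trans ?_
      rw [← Functor.map_comp, cokernel.condition, Functor.map_zero]
      rfl
    · exact mono (le_max_right N₀ N₁) hN₁ m k ζ ⟨hζ, hζV⟩
  refine ⟨N, fun m hm => le_antisymm ?_ (c.monotone hm)⟩
  have hδ : δ m N = 0 := EtFound.eq_of_stalks _ _ fun k _ _ ζ =>
    (hN m k ζ (Set.mem_univ _)).trans ((EtModW.stalk Λ ζ).map_zero _ _).symm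
  exact Subobject.le_of_comm (Abelian.monoLift _ _ hδ) (Abelian.monoLift_comp _ _ hδ)

/-- constructible sheaves are noetherian objects -/
theorem isNoetherianObject_of_isConstructible [IsNoetherianRing Λ] [IsNoetherian X] {F : EtModW.Mod Λ X}
    (hF : EtModW.IsConstructible Λ F) : IsNoetherianObject F := by
  rw [isNoetherianObject_iff_monotone_chain_condition]
  intro c
  obtain ⟨N, hN⟩ := chain_stabilises hF c
  exact ⟨N, fun m hm => (hN m hm).symm⟩

end Groth.Agent.EtModLC71
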