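import Groth.Agent.EtModLC71.AR
import Groth.Agent.EtModLC71.ConstrSerre
import Groth.Agent.EtModLC71.Noeth
import Groth.Agent.ARLib.Noeth
import Groth.Agent.ARLib.StrictChains
import Groth.Agent.ARLib.AdicCat
import Mathlib.CategoryTheory.Limits.Preserves.FunctorCategory

/-!
# Adic systems inside a weak Serre class
-/

universe w v u

open CategoryTheory CategoryTheory.Limits Opposite ARSys Groth.Agent.ARLib

namespace Groth.Agent.EtModLC71

set_option backward.isDefEq.respectTransparency.types false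

variable {C : Type u} [Category.{v} C] [Abelian C] {A : Type w} [CommRing A] [Linear A C] (P : ObjectProperty C)
  [WSerre.IsWeakSerre P] {J : Ideal A}

/-- a system with members in the class, inside the subcategory -/
def liftPS (X : PS C) (h : ∀ n : ℕ, P (X.obj (op n))) : PS P.FullSubcategory :=
  P.lift X fun n => h n.unop

theorem termKilled_liftPS {X : PS C} (h : ∀ n : ℕ, P (X.obj (op n))) (hX : TermKilled J X) :
    TermKilled J (liftPS P X h) := fun n a ha => P.ι.map_injective ((hX n a ha).trans rfl)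

theorem isAdic_liftPS {X : PS C} (h : ∀ n : ℕ, P (X.obj (op n))) (hX : IsAdic J X) :
    IsAdic J (liftPS P X h) := by
  refine ⟨termKilled_liftPS P h hX.1, fun n m hnm => ⟨termKilled_liftPS P h hX.1 n, fun Y φ hφ => ?_⟩⟩
  obtain ⟨ψ, hψ, huniq⟩ := (hX.2 n m hnm).2 Y.obj φ.hom (fun a ha => congrArg (fun k => k.hom) (hφ a ha))
  exact ⟨P.homMk ψ, P.ι.map_injective hψ, fun m hm => P.ι.map_injective (huniq m.hom (congrArg (fun k => k.hom) hm))⟩

theorem isNoetherianObject_sub (X : P.FullSubcategory) [IsNoetherianObject X.obj] : IsNoetherianObject X := by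
  rw [isNoetherianObject_iff_monotone_chain_condition]
  intro c
  let f : Subobject X → Subobject X.obj := fun S => Subobject.mk (P.ι.map S.arrow)
  have hf : Monotone f := fun S T h => Subobject.mk_le_mk_of_comm (P.ι.map (Subobject.ofLE S T h))
    (by rw [← P.ι.map_comp, Subobject.ofLE_arrow])
  obtain ⟨N, hN⟩ := monotone_chain_condition_of_isNoetherianObject ⟨fun m => f (c m), hf.comp c.monotone⟩
  refine ⟨N, fun m hm => le_antisymm (c.monotone hm) ?_⟩
  have h : f (c m) ≤ f (c N) := (hN m hm).ge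
  let g := Subobject.ofMkLEMk _ _ h
  exact Subobject.le_of_comm (P.ι.preimage g) (P.ι.map_injective (by
    rw [P.ι.map_comp, P.ι.map_preimage]; exact Subobject.ofMkLEMk_comp h))

theorem isAdicNoeth_liftPS [IsNoetherianRing A] {X : PS C} (h : ∀ n : ℕ, P (X.obj (op n))) (hX : IsAdic J X)
    (hN : ∀ n : ℕ, IsNoetherianObject (X.obj (op n))) : IsARAdicNoeth J (liftPS P X h) :=
  ARLib.isARAdicNoeth_of_adicNoeth
    ⟨isAdic_liftPS P h hX, fun n => have : IsNoetherianObject ((liftPS P X h).obj (op n)).obj := hN n; isNoetherianObject_sub P _⟩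

/-- systems adic up to translation inside the class, seen outside -/
theorem isARAdic_of_sub [IsNoetherianRing A] {X : PS P.FullSubcategory} (h : IsARAdic J X) {Z : PS C}
    (e : X ⋙ P.ι ≅ Z) :
    TermKilled J Z ∧ ∃ (Y : PS C) (v : Y ⟶ Z), IsAdic J Y ∧ (∀ n : ℕ, P (Y.obj (op n))) ∧ IsARIso v := by
  obtain ⟨hk, Y, v, hY, hv⟩ := h
  refine ⟨fun n => ARLib.killedBy_of_epi (killedBy_map P.ι (hk n)) (e.app (op n)).hom, Y ⋙ P.ι,
    Functor.whiskerRight v P.ι ≫ e.hom, isAdic_map P.ι (IsNoetherian.noetherian J) hY, fun n => (Y.obj (op n)).2,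
    ARLib.isARIso_comp (isARIso_map P.ι hv) ?_⟩
  exact ⟨⟨0, fun n => (((isZero_kernel_of_mono e.hom)).obj (op n)).eq_of_tgt _ _⟩,
    ⟨0, fun n => ((isZero_cokernel_of_epi e.hom).obj (op n)).eq_of_tgt _ _⟩⟩

/-- kernel and cokernel of a map of adic systems with noetherian members in the class -/
theorem kernel_cokernel_of_sub [IsNoetherianRing A] {F G : PS C} (w : F ⟶ G) (hF : IsAdic J F) (hG : IsAdic J G)
    (pF : ∀ n : ℕ, P (F.obj (op n))) (pG : ∀ n : ℕ, P (G.obj (op n)))
    (nF : ∀ n : ℕ, IsNoetherianObject (F.obj (op n))) (nG : ∀ n : ℕ, IsNoetherianObject (G.obj (op n))) :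
    (TermKilled J (kernel w) ∧ ∃ (Y : PS C) (v : Y ⟶ kernel w), IsAdic J Y ∧ (∀ n : ℕ, P (Y.obj (op n))) ∧ IsARIso v) ∧
    (TermKilled J (cokernel w) ∧ ∃ (Y : PS C) (v : Y ⟶ cokernel w), IsAdic J Y ∧ (∀ n : ℕ, P (Y.obj (op n))) ∧ IsARIso v) := by
  let w' : liftPS P F pF ⟶ liftPS P G pG :=
    { app := fun n => P.homMk (w.app n)
      naturality := fun a b g => P.ι.map_injective (w.naturality g) }
  obtain ⟨hk, hc⟩ := ARLib.isARAdicNoeth_kernel_cokernel w' (isAdicNoeth_liftPS P pF hF nF)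
    (isAdicNoeth_liftPS P pG hG nG)
  let W := (Functor.whiskeringRight ℕᵒᵖ P.FullSubcategory C).obj P.ι
  have : W.Additive := ⟨fun {_ _ _ _} => NatTrans.ext (funext fun _ => P.ι.map_add)⟩
  exact ⟨isARAdic_of_sub P hk.1 (show W.obj (kernel w') ≅ kernel w from PreservesKernel.iso W w'),
    isARAdic_of_sub P hc.1 (show W.obj (cokernel w') ≅ cokernel w from PreservesCokernel.iso W w')⟩

/-- a map from a strict system lands in the system of images -/
theorem exists_lift_img {S Z : PS C} (hS : IsStrict S) (f : S ⟶ Z) (r : ℕ) :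
    ∃ g : S ⟶ ARLib.imgSys Z r, g ≫ ARLib.imgι Z r = f := by
  have hf : ∀ n : ℕ, (imageSubobject (ARLib.sm Z r n)).Factors (f.app (op n)) := fun n => by
    have := hS n (n + r) (Nat.le_add_right n r)
    refine SubLat.factors_of_epi (tr S (Nat.le_add_right n r)) _ ?_
    rw [show tr S (Nat.le_add_right n r) ≫ f.app (op n) = f.app (op (n + r)) ≫ ARLib.sm Z r n from tr_naturality f _]
    exact imageSubobject_factors_comp_self _ _
  refine ⟨natMk (fun n => (imageSubobject (ARLib.sm Z r n)).factorThru _ (hf n)) fun n m h => ?_, ?_⟩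
  · refine (cancel_mono (imageSubobject (ARLib.sm Z r n)).arrow).1 ?_
    have h1 : tr (ARLib.imgSys Z r) h ≫ (imageSubobject (ARLib.sm Z r n)).arrow =
        (imageSubobject (ARLib.sm Z r m)).arrow ≫ tr Z h := tr_naturality (ARLib.imgι Z r) h
    erw [Category.assoc, Category.assoc, Subobject.factorThru_arrow, h1, Subobject.factorThru_arrow_assoc]
    exact tr_naturality f h
  · ext n
    exact Subobject.factorThru_arrow _ _ (hf n.unop)

/-- a chain of subsystems adic up to translation stabilises up to translation -/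
theorem chain_eventually_isARIso [IsNoetherianRing A] {F : PS C} (hF : IsAdicNoeth J F) (Z : ℕ →o Subobject F)
    (hZ : ∀ k : ℕ, IsARAdic J (Subobject.underlying.obj (Z k) : PS C)) :
    ∃ k₀ : ℕ, ∀ k : ℕ, k₀ ≤ k → IsARIso (Subobject.ofLE (Z k) (Z (k + 1)) (Z.monotone (Nat.le_succ k))) := by
  choose r hr using fun k => ARLib.isMLAR_of_isARAdic (hZ k)
  -- the stable images
  let S : ℕ → Subobject F := fun k =>
    Subobject.mk (ARLib.imgι (Subobject.underlying.obj (Z k) : PS C) (r k) ≫ (Z k).arrow)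
  have hS : ∀ k, IsStrict (ARLib.imgSys (Subobject.underlying.obj (Z k) : PS C) (r k)) := fun k =>
    ARLib.imgSys_strict (hr k)
  have hle : ∀ k, S k ≤ S (k + 1) := fun k => by
    obtain ⟨g, hg⟩ := exists_lift_img (hS k)
      (ARLib.imgι (Subobject.underlying.obj (Z k) : PS C) (r k) ≫
        Subobject.ofLE (Z k) (Z (k + 1)) (Z.monotone (Nat.le_succ k))) (r (k + 1))
    exact Subobject.mk_le_mk_of_comm g (by
      rw [← Category.assoc, hg, Category.assoc, Subobject.ofLE_arrow])
  obtain ⟨k₀, hk₀⟩ := ARLib.strict_chain_stabilizes hF ⟨S, monotone_nat_of_le_succ hle⟩ fun k =>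
    ARLib.isStrict_of_epi (Subobject.underlyingIso _).inv (hS k)
  refine ⟨k₀, fun k hk => ?_⟩
  have he : S k = S (k + 1) := (hk₀ k hk).trans (hk₀ (k + 1) (Nat.le_succ_of_le hk)).symm
  obtain ⟨c, hc⟩ : ∃ c, c ≫ ARLib.imgι (Subobject.underlying.obj (Z (k + 1)) : PS C) (r (k + 1)) =
      ARLib.imgι (Subobject.underlying.obj (Z k) : PS C) (r k) ≫
        Subobject.ofLE (Z k) (Z (k + 1)) (Z.monotone (Nat.le_succ k)) := by
    refine ⟨(Subobject.isoOfMkEqMk _ _ he).hom, (cancel_mono (Z (k + 1)).arrow).1 ?_⟩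
    rw [Category.assoc, Category.assoc, Subobject.ofLE_arrow, Subobject.isoOfMkEqMk_hom, Subobject.ofMkLEMk_comp]
  have hci : IsIso c := by
    refine ⟨(Subobject.isoOfMkEqMk _ _ he).inv, ?_, ?_⟩ <;>
    · have : c = (Subobject.isoOfMkEqMk _ _ he).hom := by
        rw [← cancel_mono (ARLib.imgι (Subobject.underlying.obj (Z (k + 1)) : PS C) (r (k + 1))), hc,
          ← cancel_mono (Z (k + 1)).arrow, Category.assoc, Category.assoc, Subobject.ofLE_arrow,
          Subobject.isoOfMkEqMk_hom, Subobject.ofMkLEMk_comp]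
      simp [this]
  refine ARLib.isARIso_of_precomp (ARLib.imgι_isARIso _ (r k)) ?_
  rw [← hc]
  exact ARLib.isARIso_comp ⟨⟨0, fun n => ((isZero_kernel_of_mono c).obj (op n)).eq_of_tgt _ _⟩,
    ⟨0, fun n => ((isZero_cokernel_of_epi c).obj (op n)).eq_of_tgt _ _⟩⟩ (ARLib.imgι_isARIso _ _)

end Groth.Agent.EtModLC71
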