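import Groth.Prelude.Def_ARSys
import Groth.Agent.ARLib.Basic
import Mathlib.RingTheory.Filtration
import Mathlib.Algebra.Category.ModuleCat.Abelian
import Mathlib.Algebra.Category.ModuleCat.EpiMono

/-!
# Adic systems of modules: bijectivity in low degrees propagates
-/

universe w u

open CategoryTheory Opposite ARSys Groth.Agent.ARLib

namespace Groth.Agent.EtModLC71

variable {Λ : Type u} [CommRing Λ] {J : Ideal Λ} {B : PS (ModuleCat.{w} Λ)}

theorem smul_pow_top_eq_bot (hB : IsAdic J B) {n k : ℕ} (h : n + 1 ≤ k) :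
    J ^ k • (⊤ : Submodule Λ (B.obj (op n))) = ⊥ := by
  refine (Submodule.eq_bot_iff _).2 fun x hx => ?_
  refine Submodule.smul_induction_on hx (fun a ha y _ => ?_) fun x y hx hy => by rw [hx, hy, add_zero]
  exact congrArg (fun f => f.hom y) (hB.1 n a (Ideal.pow_le_pow_right h ha))

theorem tr_surjective (hB : IsAdic J B) {n m : ℕ} (h : n ≤ m) : Function.Surjective (tr B h) := by
  refine (ModuleCat.epi_iff_surjective _).1 ⟨fun {Z} f g e => ?_⟩
  obtain ⟨ψ, -, hu⟩ := (hB.2 n m h).2 Z (tr B h ≫ f) fun a ha => by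
    rw [← Linear.comp_smul, ← Category.id_comp f, ← Linear.smul_comp, hB.1 n a ha, Limits.zero_comp, Limits.comp_zero]
  exact (hu f rfl).trans (hu g e.symm).symm

theorem tr_eq_zero_iff (hB : IsAdic J B) {n m : ℕ} (h : n ≤ m) (x : B.obj (op m)) :
    tr B h x = 0 ↔ x ∈ J ^ (n + 1) • (⊤ : Submodule Λ (B.obj (op m))) := by
  refine ⟨fun hx => ?_, fun hx => ?_⟩
  · let S := J ^ (n + 1) • (⊤ : Submodule Λ (B.obj (op m)))
    obtain ⟨ψ, hψ, -⟩ := (hB.2 n m h).2 (ModuleCat.of Λ (B.obj (op m) ⧸ S)) (ModuleCat.ofHom S.mkQ)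
      fun a ha => ModuleCat.hom_ext (LinearMap.ext fun y => ((map_smul S.mkQ a y).symm.trans
        ((Submodule.Quotient.mk_eq_zero S).2 (Submodule.smul_mem_smul ha Submodule.mem_top))))
    refine (Submodule.Quotient.mk_eq_zero S).1 ((congrArg (fun f => f.hom x) hψ).symm.trans ?_)
    exact (congrArg ψ.hom hx).trans (map_zero _)
  · have : (tr B h).hom x ∈ Submodule.map (tr B h).hom (J ^ (n + 1) • ⊤) := ⟨x, hx, rfl⟩
    rw [Submodule.map_smul''] at this
    exact (Submodule.mem_bot Λ).1 ((smul_pow_top_eq_bot hB le_rfl).le (Submodule.smul_mono le_rfl le_top this))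

/-- nilpotent Nakayama -/
theorem eq_top_of_sup (hB : IsAdic J B) {n : ℕ} {R : Submodule Λ (B.obj (op (n + 1)))}
    (h : R ⊔ J ^ (n + 1) • ⊤ = ⊤) : R = ⊤ := by
  refine eq_top_iff.2 (h.ge.trans (sup_le le_rfl ?_))
  rw [← h, Submodule.smul_sup, ← Submodule.smul_assoc, smul_eq_mul, ← pow_add,
    smul_pow_top_eq_bot hB (by omega), sup_bot_eq]
  exact Submodule.smul_le_right

theorem sup_eq_top_of_map (hB : IsAdic J B) {n : ℕ} {R : Submodule Λ (B.obj (op (n + 1)))}
    (h : Submodule.map (tr B (Nat.le_succ n)).hom R = ⊤) : R ⊔ J ^ (n + 1) • ⊤ = ⊤ := by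
  refine eq_top_iff.2 fun x _ => ?_
  obtain ⟨r, hr, e⟩ := h.ge (Submodule.mem_top : (tr B (Nat.le_succ n)).hom x ∈ _)
  refine Submodule.mem_sup.2 ⟨r, hr, x - r, (tr_eq_zero_iff hB (Nat.le_succ n) _).1 ?_, add_sub_cancel r x⟩
  exact (map_sub (tr B (Nat.le_succ n)).hom x r).trans (sub_eq_zero.2 e.symm)

/-- a map of adic systems which is bijective in low degrees is bijective in all degrees -/
theorem exists_bound [IsNoetherianRing Λ] (hB : IsAdic J B) [Module.Finite Λ (B.obj (op 0))] :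
    ∃ N : ℕ, ∀ (A : PS (ModuleCat.{w} Λ)), IsAdic J A → ∀ f : A ⟶ B,
      (∀ n ≤ N, Function.Bijective (f.app (op n))) → ∀ n : ℕ, Function.Bijective (f.app (op n)) := by
  classical
  obtain ⟨r, s, hs⟩ := Module.Finite.exists_fin (R := Λ) (M := B.obj (op 0))
  let lift : ∀ n : ℕ, (Fin r → B.obj (op n)) → Fin r → B.obj (op (n + 1)) := fun n v i =>
    (tr_surjective hB (Nat.le_succ n) (v i)).choose
  let b : ∀ n : ℕ, Fin r → B.obj (op n) := fun n => Nat.rec (motive := fun k => Fin r → B.obj (op k)) s lift n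
  have hb : ∀ n i, tr B (Nat.le_succ n) (b (n + 1) i) = b n i := fun n i =>
    (tr_surjective hB (Nat.le_succ n) (b n i)).choose_spec
  let φ : ∀ n : ℕ, (Fin r → Λ) →ₗ[Λ] B.obj (op n) := fun n => Fintype.linearCombination Λ (b n)
  have hφtr : ∀ n c, tr B (Nat.le_succ n) (φ (n + 1) c) = φ n c := fun n c => by
    simp [φ, Fintype.linearCombination_apply, hb]
  have hφ : ∀ n, LinearMap.range (φ n) = ⊤ := fun n => by
    induction n with
    | zero => rw [Fintype.range_linearCombination]; exact hs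
    | succ n ih =>
      refine eq_top_of_sup hB (sup_eq_top_of_map hB ?_)
      rw [← LinearMap.range_comp, ← ih]
      exact congrArg LinearMap.range (LinearMap.ext (hφtr n))
  let W : J.Filtration (Fin r → Λ) :=
    { N := fun n => J ^ n • (⊤ : Submodule Λ (Fin r → Λ)) ⊓ LinearMap.ker (φ n)
      mono := fun n => by
        refine le_inf (inf_le_left.trans (Submodule.smul_mono (Ideal.pow_le_pow_right (Nat.le_succ n)) le_rfl)) ?_
        rintro c ⟨-, hc⟩
        exact (hφtr n c).symm.trans ((congrArg (tr B (Nat.le_succ n)).hom hc).trans (map_zero _))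
      smul_le := fun n => by
        refine le_inf ((Submodule.smul_mono le_rfl inf_le_left).trans ?_) (LinearMap.le_ker_iff_map.2 ?_)
        · rw [← Submodule.smul_assoc, smul_eq_mul, ← pow_succ']
        · rw [Submodule.map_smul'', eq_bot_iff, ← smul_pow_top_eq_bot hB (le_refl (n + 2)), pow_succ' J (n + 1),
            ← smul_eq_mul, Submodule.smul_assoc]
          refine Submodule.smul_mono le_rfl ?_
          rintro _ ⟨c, ⟨-, hc⟩, rfl⟩
          exact (tr_eq_zero_iff hB (Nat.le_succ n) _).1 ((hφtr n c).trans hc) }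
  obtain ⟨N, hN⟩ := (J.stableFiltration_stable ⊤).of_le (F' := W) fun n => inf_le_left
  refine ⟨N, fun A hA f hf n => ?_⟩
  induction n with
  | zero => exact hf 0 (Nat.zero_le N)
  | succ n ih =>
    by_cases hn : n + 1 ≤ N
    · exact hf _ hn
    have hnat : ∀ x, tr B (Nat.le_succ n) (f.app (op (n + 1)) x) = f.app (op n) (tr A (Nat.le_succ n) x) := fun x =>
      (ConcreteCategory.congr_hom (tr_naturality f (Nat.le_succ n)) x).symm
    have hsurj : Function.Surjective (f.app (op (n + 1))) := by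
      refine LinearMap.range_eq_top.1 (eq_top_of_sup hB (sup_eq_top_of_map hB (eq_top_iff.2 fun y _ => ?_)))
      obtain ⟨x, rfl⟩ := ih.2 y
      obtain ⟨x', rfl⟩ := tr_surjective hA (Nat.le_succ n) x
      exact ⟨_, ⟨x', rfl⟩, hnat x'⟩
    refine ⟨(injective_iff_map_eq_zero (f.app (op (n + 1))).hom).2 fun z hz => ?_, hsurj⟩
    choose a ha using fun i => hsurj (b (n + 1) i)
    let ψ : (Fin r → Λ) →ₗ[Λ] A.obj (op (n + 1)) := Fintype.linearCombination Λ a
    have hfψ : ∀ c, f.app (op (n + 1)) (ψ c) = φ (n + 1) c := fun c => by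
      simp [ψ, φ, Fintype.linearCombination_apply, ha]
    have hψn : ∀ c, f.app (op n) (tr A (Nat.le_succ n) (ψ c)) = φ n c := fun c => by
      rw [← hnat, hfψ, hφtr]
    have hψ : LinearMap.range ψ = ⊤ := by
      refine eq_top_of_sup hA (sup_eq_top_of_map hA (eq_top_iff.2 fun y _ => ?_))
      obtain ⟨c, hc⟩ := (hφ n).ge (Submodule.mem_top : f.app (op n) y ∈ _)
      exact ⟨_, ⟨c, rfl⟩, ih.1 ((hψn c).trans hc)⟩
    have hz' : z ∈ J ^ (n + 1) • (⊤ : Submodule Λ (A.obj (op (n + 1)))) := by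
      refine (tr_eq_zero_iff hA (Nat.le_succ n) z).1 (ih.1 ?_)
      rw [← hnat, map_zero]
      exact (congrArg (tr B (Nat.le_succ n)).hom hz).trans (map_zero _)
    rw [← hψ, LinearMap.range_eq_map, ← Submodule.map_smul''] at hz'
    obtain ⟨c, hc, rfl⟩ := hz'
    have hcW : c ∈ J • W.N n := by
      rw [hN n (by omega)]
      exact ⟨hc, (hfψ c).symm.trans hz⟩
    have : ψ c ∈ Submodule.map ψ (J • W.N n) := ⟨c, hcW, rfl⟩
    rw [Submodule.map_smul''] at this
    refine (Submodule.mem_bot Λ).1 ((smul_pow_top_eq_bot hA (le_refl (n + 2))).le ?_)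
    rw [pow_succ' J (n + 1), ← smul_eq_mul, Submodule.smul_assoc]
    refine Submodule.smul_mono le_rfl ?_ this
    rintro _ ⟨c', ⟨-, hc'⟩, rfl⟩
    refine (tr_eq_zero_iff hA (Nat.le_succ n) _).1 (ih.1 ?_)
    rw [hψn, map_zero]
    exact hc'

end Groth.Agent.EtModLC71
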