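import Groth.Prelude.Def_WeakSerre
import Mathlib.CategoryTheory.Adjunction.FullyFaithful
import Mathlib.CategoryTheory.Adjunction.Additive

/-!
# Images of weak Serre classes under exact fully faithful left adjoints
-/

universe v u v' u'

open CategoryTheory CategoryTheory.Limits

namespace Groth.Agent.EtModLC71

variable {A : Type u} [Category.{v} A] [Abelian A] {B : Type u'} [Category.{v'} B] [Abelian B]
  {L : A ⥤ B} {R : B ⥤ A}

/-- the image of a weak Serre class is weak Serre, granted right exactness of `R` on extensions by the image -/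
theorem isWeakSerre_image (adj : L ⊣ R) [PreservesFiniteLimits L] [PreservesFiniteColimits L]
    [∀ X, IsIso (adj.unit.app X)]
    (hR : ∀ S : ShortComplex B, S.ShortExact → ∀ a, Nonempty (L.obj a ≅ S.X₁) → Epi (R.map S.g))
    (P : ObjectProperty A) [WSerre.IsWeakSerre P] :
    WSerre.IsWeakSerre (fun F : B => ∃ G : A, P G ∧ Nonempty (L.obj G ≅ F)) := by
  have : IsIso adj.unit := NatIso.isIso_of_isIso_app _
  let hff := adj.fullyFaithfulLOfIsIsoUnit
  let Q : ObjectProperty B := fun F : B => ∃ G : A, P G ∧ Nonempty (L.obj G ≅ F)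
  have : L.Additive := L.additive_of_preserves_binary_products
  have : R.Additive := adj.right_adjoint_additive
  have : PreservesFiniteLimits R :=
    have := adj.rightAdjoint_preservesLimits
    inferInstance
  have key : ∀ {X Y : B}, Q X → Q Y → ∀ f : X ⟶ Y, ∃ (G G' : A) (φ : G ⟶ G') (a : L.obj G ≅ X) (b : L.obj G' ≅ Y),
      P G ∧ P G' ∧ L.map φ ≫ b.hom = a.hom ≫ f := by
    rintro X Y ⟨G, hG, ⟨a⟩⟩ ⟨G', hG', ⟨b⟩⟩ f
    exact ⟨G, G', hff.preimage (a.hom ≫ f ≫ b.inv), a, b, hG, hG', by simp⟩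
  have z : Q.ContainsZero := by
    obtain ⟨Z, hZ, hP⟩ := P.exists_prop_of_containsZero
    exact ⟨L.obj Z, L.map_isZero hZ, Z, hP, ⟨Iso.refl _⟩⟩
  have k : Q.IsClosedUnderKernels := ⟨fun _ h => by
    obtain @⟨X, Y, f, c, hc, hX, hY⟩ := h
    obtain ⟨G, G', φ, a, b, hG, hG', e⟩ := key hX hY f
    exact ⟨kernel φ, P.prop_kernel φ hG hG',
      ⟨PreservesKernel.iso L φ ≪≫ kernel.mapIso _ _ a b e ≪≫ (kernelIsKernel f).conePointUniqueUpToIso hc⟩⟩⟩
  have c : Q.IsClosedUnderCokernels := ⟨fun _ h => by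
    obtain @⟨X, Y, f, c, hc, hX, hY⟩ := h
    obtain ⟨G, G', φ, a, b, hG, hG', e⟩ := key hX hY f
    exact ⟨cokernel φ, P.prop_cokernel φ hG hG',
      ⟨PreservesCokernel.iso L φ ≪≫ cokernel.mapIso _ _ a b e ≪≫ (cokernelIsCokernel f).coconePointUniqueUpToIso hc⟩⟩⟩
  have e : Q.IsClosedUnderExtensions := by
    constructor
    rintro S hS ⟨G₁, h₁, ⟨a⟩⟩ ⟨G₃, h₃, ⟨b⟩⟩
    have := hS.mono_f
    have := hR S hS G₁ ⟨a⟩
    have hR' : (S.map R).ShortExact := .mk' (hS.exact.map_of_mono_of_preservesKernel R inferInstance inferInstance)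
      (inferInstanceAs (Mono (R.map S.f))) this
    have hc : ∀ (G : A) (Z : B), (L.obj G ≅ Z) → IsIso (adj.counit.app Z) := fun G Z i => by
      have : IsIso (L.map (adj.unit.app G) ≫ adj.counit.app (L.obj G)) := by
        erw [adj.left_triangle_components]
        infer_instance
      have : IsIso (adj.counit.app (L.obj G)) := IsIso.of_isIso_comp_left (L.map (adj.unit.app G)) _
      have e := adj.counit.naturality i.hom
      dsimp at e
      have : IsIso (L.map (R.map i.hom) ≫ adj.counit.app Z) := by rw [e]; infer_instance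
      exact IsIso.of_isIso_comp_left (L.map (R.map i.hom)) _
    let φ : (S.map R).map L ⟶ S :=
      { τ₁ := adj.counit.app _
        τ₂ := adj.counit.app _
        τ₃ := adj.counit.app _
        comm₁₂ := (adj.counit.naturality S.f).symm
        comm₂₃ := (adj.counit.naturality S.g).symm }
    have : IsIso φ.τ₁ := hc G₁ _ a
    have : IsIso φ.τ₃ := hc G₃ _ b
    have h2 : IsIso φ.τ₂ := ShortComplex.isIso₂_of_shortExact_of_isIso₁₃ φ (hR'.map_of_exact L) hS
    refine ⟨R.obj S.X₂, P.prop_X₂_of_shortExact hR' ?_ ?_, ⟨@asIso _ _ _ _ _ h2⟩⟩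
    · exact P.prop_of_iso (asIso (adj.unit.app G₁) ≪≫ R.mapIso a) h₁
    · exact P.prop_of_iso (asIso (adj.unit.app G₃) ≪≫ R.mapIso b) h₃
  exact { toContainsZero := z, toIsClosedUnderKernels := k, toIsClosedUnderCokernels := c, toIsClosedUnderExtensions := e }

end Groth.Agent.EtModLC71
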