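import Groth.Agent.EtFound.PullGerm
import Mathlib.CategoryTheory.Sites.Point.Conservative
import Mathlib.CategoryTheory.Sites.PreservesSheafification
import Mathlib.CategoryTheory.Adjunction.Unique
import Mathlib.Algebra.Category.ModuleCat.FilteredColimits
import Mathlib.Algebra.Category.Grp.FilteredColimits
import Mathlib.Algebra.Category.ModuleCat.Limits
import Mathlib.CategoryTheory.Sites.Limits

/-!
# Inverse images of sheaves of modules and of the underlying abelian sheaves
-/

universe u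

open CategoryTheory CategoryTheory.Limits Opposite

namespace Groth.Agent.EtModLC71

variable {C D : Type (u + 1)} [Category.{u} C] [Category.{u} D] (G : C ⥤ D)
  (J : GrothendieckTopology C) (K : GrothendieckTopology D) [G.IsContinuous J K]
  (Λ : Type (u + 1)) [CommRing Λ]

/-- the underlying abelian sheaf -/
noncomputable abbrev uSheaf : Sheaf J (ModuleCat.{u + 1} Λ) ⥤ Sheaf J AddCommGrpCat.{u + 1} :=
  sheafCompose J (forget₂ (ModuleCat.{u + 1} Λ) AddCommGrpCat.{u + 1})

/-- the comparison of inverse images -/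
noncomputable def pullForgetHom (F : Sheaf J (ModuleCat.{u + 1} Λ)) :
    (G.sheafPullback AddCommGrpCat.{u + 1} J K).obj ((uSheaf J Λ).obj F) ⟶
      (uSheaf K Λ).obj ((G.sheafPullback (ModuleCat.{u + 1} Λ) J K).obj F) :=
  ((G.sheafAdjunctionContinuous AddCommGrpCat.{u + 1} J K).homEquiv _ _).symm
    ((uSheaf J Λ).map ((G.sheafAdjunctionContinuous (ModuleCat.{u + 1} Λ) J K).unit.app F))

theorem unit_pullForgetHom (F : Sheaf J (ModuleCat.{u + 1} Λ)) :
    (G.sheafAdjunctionContinuous AddCommGrpCat.{u + 1} J K).unit.app ((uSheaf J Λ).obj F) ≫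
      (G.sheafPushforwardContinuous AddCommGrpCat.{u + 1} J K).map (pullForgetHom G J K Λ F) =
      (uSheaf J Λ).map ((G.sheafAdjunctionContinuous (ModuleCat.{u + 1} Λ) J K).unit.app F) := by
  refine ((G.sheafAdjunctionContinuous AddCommGrpCat.{u + 1} J K).homEquiv_unit _ _ _).symm.trans ?_
  exact Equiv.apply_symm_apply _ _

theorem pullForgetHom_natural {F F' : Sheaf J (ModuleCat.{u + 1} Λ)} (φ : F ⟶ F') :
    (G.sheafPullback AddCommGrpCat.{u + 1} J K).map ((uSheaf J Λ).map φ) ≫ pullForgetHom G J K Λ F' =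
      pullForgetHom G J K Λ F ≫ (uSheaf K Λ).map ((G.sheafPullback (ModuleCat.{u + 1} Λ) J K).map φ) := by
  apply ((G.sheafAdjunctionContinuous AddCommGrpCat.{u + 1} J K).homEquiv _ _).injective
  rw [Adjunction.homEquiv_naturality_left, Adjunction.homEquiv_naturality_right, pullForgetHom, pullForgetHom,
    Equiv.apply_symm_apply, Equiv.apply_symm_apply]
  refine ((uSheaf J Λ).map_comp _ _).symm.trans ?_
  refine (congrArg (uSheaf J Λ).map ((G.sheafAdjunctionContinuous (ModuleCat.{u + 1} Λ) J K).unit.naturality φ)).trans ?_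
  exact (uSheaf J Λ).map_comp _ _

variable [RepresentablyFlat G] {P : ObjectProperty (GrothendieckTopology.Point.{u + 1} K)}

theorem isIso_pullForgetHom (hP : P.IsConservativeFamilyOfPoints) (hG : CoverPreserving J K G)
    (F : Sheaf J (ModuleCat.{u + 1} Λ)) : IsIso (pullForgetHom G J K Λ F) := by
  rw [(hP.jointlyReflectIsomorphisms AddCommGrpCat.{u + 1}).isIso_iff]
  intro Φ
  have : InitiallySmall.{u + 1} (G ⋙ Φ.obj.fiber).Elements := initiallySmall_of_essentiallySmall _
  let U := forget₂ (ModuleCat.{u + 1} Λ) AddCommGrpCat.{u + 1}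
  let Ψ := Φ.obj.comap G hG
  let a := Ψ.sheafFiber (A := AddCommGrpCat.{u + 1})
  let iA := (Φ.obj.sheafFiberComapIso G hG AddCommGrpCat.{u + 1}).app ((uSheaf J Λ).obj F)
  let iM := (Φ.obj.sheafFiberComapIso G hG (ModuleCat.{u + 1} Λ)).app F
  let e : Ψ.presheafFiber.obj ((uSheaf J Λ).obj F).obj ⟶
      Φ.obj.presheafFiber.obj ((uSheaf K Λ).obj ((G.sheafPullback (ModuleCat.{u + 1} Λ) J K).obj F)).obj :=
    iA.hom ≫ Φ.obj.presheafFiber.map (pullForgetHom G J K Λ F).hom
  let e' : Ψ.presheafFiber.obj ((uSheaf J Λ).obj F).obj ⟶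
      Φ.obj.presheafFiber.obj ((uSheaf K Λ).obj ((G.sheafPullback (ModuleCat.{u + 1} Λ) J K).obj F)).obj :=
    (Ψ.presheafFiberCompIso U).hom.app F.obj ≫ U.map iM.hom ≫
      (Φ.obj.presheafFiberCompIso U).inv.app ((G.sheafPullback (ModuleCat.{u + 1} Λ) J K).obj F).obj
  have he' : IsIso e' :=
    IsIso.comp_isIso' ((Ψ.presheafFiberCompIso U).app F.obj).isIso_hom (IsIso.comp_isIso' (Functor.map_isIso U iM.hom)
      ((Φ.obj.presheafFiberCompIso U).app ((G.sheafPullback (ModuleCat.{u + 1} Λ) J K).obj F).obj).isIso_inv)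
  have he : e = e' := by
    refine GrothendieckTopology.Point.presheafFiber_hom_ext _ fun X x => ?_
    let t := Φ.obj.toPresheafFiber (G.obj X) x ((uSheaf K Λ).obj ((G.sheafPullback (ModuleCat.{u + 1} Λ) J K).obj F)).obj
    refine Eq.trans (b := U.map (((G.sheafAdjunctionContinuous (ModuleCat.{u + 1} Λ) J K).unit.app F).hom.app (op X)) ≫ t)
      ?_ ?_
    · refine (Category.assoc _ _ _).symm.trans ((congrArg (· ≫ _)
        (EtFound.comapIso_germ Φ.obj G hG AddCommGrpCat.{u + 1} ((uSheaf J Λ).obj F) X x)).trans ?_)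
      refine (Category.assoc _ _ _).trans ((congrArg (_ ≫ ·)
        (Φ.obj.toPresheafFiber_naturality (pullForgetHom G J K Λ F).hom _ x)).trans ?_)
      refine (Category.assoc _ _ _).symm.trans (congrArg (· ≫ t) ?_)
      exact congr(($(unit_pullForgetHom G J K Λ F)).hom.app (op X))
    · refine Eq.symm ?_
      refine (Category.assoc _ _ _).symm.trans ((congrArg (· ≫ _)
        (Ψ.toPresheafFiber_presheafFiberCompIso_hom_app U X x F.obj)).trans ?_)
      refine (Category.assoc _ _ _).symm.trans ((congrArg (· ≫ _) (U.map_comp _ _).symm).trans ?_)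
      refine (congrArg (fun k => U.map k ≫ _)
        (EtFound.comapIso_germ Φ.obj G hG (ModuleCat.{u + 1} Λ) F X x)).trans ?_
      refine (congrArg (· ≫ _) (U.map_comp _ _)).trans ((Category.assoc _ _ _).trans (congrArg (_ ≫ ·) ?_))
      exact (Iso.comp_inv_eq ((Φ.obj.presheafFiberCompIso U).app _)).2
        (Φ.obj.toPresheafFiber_presheafFiberCompIso_hom_app U (G.obj X) x _).symm
  have : IsIso e := he ▸ he'
  exact @IsIso.of_isIso_comp_left _ _ _ _ _ iA.hom _ iA.isIso_hom this

end Groth.Agent.EtModLC71
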