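import Groth.Agent.EtModLC71.Basic
import Groth.Agent.EtFound.Stalk
import Mathlib.Algebra.Homology.ShortComplex.ModuleCat
import Mathlib.Algebra.Category.ModuleCat.Abelian
import Mathlib.CategoryTheory.Sites.Point.Skyscraper
import Mathlib.CategoryTheory.Sites.EpiMono

/-!
# Stalks of sheaves of modules detect mono, epi, zero, exactness
-/

universe u

open CategoryTheory CategoryTheory.Limits AlgebraicGeometry Opposite

namespace Groth.Agent.EtModLC71

set_option backward.isDefEq.respectTransparency.types false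

variable {Λ : Type (u + 1)} [CommRing Λ] {X : Scheme.{u}}

instance hasLimitsOfSize_moduleCat : HasLimitsOfSize.{u, u} (ModuleCat.{u + 1} Λ) :=
  ModuleCat.hasLimitsOfSize.{u, u, u + 1, u + 1}

instance ab5OfSize_moduleCat : AB5OfSize.{u, u} (ModuleCat.{u + 1} Λ) :=
  AB5OfSize_shrink.{u, u, u + 1, u + 1} _

instance stalk_preservesFiniteLimits {Ω : Type u} [Field Ω] [IsSepClosed Ω]
    (ξ : Spec (CommRingCat.of Ω) ⟶ X) : PreservesFiniteLimits (EtModW.stalk Λ ξ) :=
  inferInstanceAs (PreservesFiniteLimits (Scheme.pointSmallEtale ξ).sheafFiber)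

instance stalk_preservesFiniteColimits {Ω : Type u} [Field Ω] [IsSepClosed Ω]
    (ξ : Spec (CommRingCat.of Ω) ⟶ X) : PreservesFiniteColimits (EtModW.stalk Λ ξ) :=
  inferInstanceAs (PreservesFiniteColimits (Scheme.pointSmallEtale ξ).sheafFiber)

theorem mono_iff_stalks {F G : EtModW.Mod Λ X} (a : F ⟶ G) :
    Mono a ↔ ∀ (Ω : Type u) [Field Ω] [IsSepClosed Ω] (ξ : Spec (CommRingCat.of Ω) ⟶ X),
      Function.Injective ((EtModW.stalk Λ ξ).map a) := by
  refine ⟨fun _ Ω _ _ ξ => (ModuleCat.mono_iff_injective _).1 inferInstance, fun h => ?_⟩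
  have : ∀ U, Mono (a.hom.app U) := fun U =>
    (ModuleCat.mono_iff_injective _).2 (EtFound.injective_of_stalks a (fun Ω _ _ ξ => h Ω ξ) U.unop)
  have := NatTrans.mono_of_mono_app a.hom
  exact (sheafToPresheaf _ _).mono_of_mono_map this

theorem sect_injective {F G : EtModW.Mod Λ X} (a : F ⟶ G) [Mono a] (U : X.Etale) :
    Function.Injective (a.hom.app (op U)) :=
  EtFound.injective_of_stalks a (fun Ω _ _ ξ => (mono_iff_stalks a).1 inferInstance Ω ξ) U

theorem epi_iff_stalks {F G : EtModW.Mod Λ X} (a : F ⟶ G) :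
    Epi a ↔ ∀ (Ω : Type u) [Field Ω] [IsSepClosed Ω] (ξ : Spec (CommRingCat.of Ω) ⟶ X),
      Function.Surjective ((EtModW.stalk Λ ξ).map a) := by
  refine ⟨fun _ Ω _ _ ξ => (ModuleCat.epi_iff_surjective _).1 inferInstance, fun h => ?_⟩
  have : Sheaf.IsLocallySurjective a := EtFound.isLocallySurjective_of_stalks a.hom fun Ω _ _ ξ => h Ω ξ
  exact (Sheaf.isLocallySurjective_iff_epi' _ a).1 this

theorem isIso_iff_stalks {F G : EtModW.Mod Λ X} (a : F ⟶ G) :
    IsIso a ↔ ∀ (Ω : Type u) [Field Ω] [IsSepClosed Ω] (ξ : Spec (CommRingCat.of Ω) ⟶ X),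
      IsIso ((EtModW.stalk Λ ξ).map a) := by
  refine ⟨fun _ Ω _ _ ξ => inferInstance, fun h => ?_⟩
  have : Mono a := (mono_iff_stalks a).2 fun Ω _ _ ξ =>
    ((ModuleCat.mono_iff_injective _).1 (have := h Ω ξ; inferInstance))
  have : Epi a := (epi_iff_stalks a).2 fun Ω _ _ ξ =>
    ((ModuleCat.epi_iff_surjective _).1 (have := h Ω ξ; inferInstance))
  exact isIso_of_mono_of_epi a

theorem isZero_iff_stalks (F : EtModW.Mod Λ X) :
    IsZero F ↔ ∀ (Ω : Type u) [Field Ω] [IsSepClosed Ω] (ξ : Spec (CommRingCat.of Ω) ⟶ X),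
      IsZero ((EtModW.stalk Λ ξ).obj F) := by
  refine ⟨fun h Ω _ _ ξ => (EtModW.stalk Λ ξ).map_isZero h, fun h => ?_⟩
  have : Mono (0 : F ⟶ F) := (mono_iff_stalks _).2 fun Ω _ _ ξ x y _ => by
    have := ModuleCat.subsingleton_of_isZero (h Ω ξ)
    exact Subsingleton.elim _ _
  exact IsZero.of_mono_zero F F

theorem exact_iff_stalks (S : ShortComplex (EtModW.Mod Λ X)) :
    S.Exact ↔ ∀ (Ω : Type u) [Field Ω] [IsSepClosed Ω] (ξ : Spec (CommRingCat.of Ω) ⟶ X),
      (S.map (EtModW.stalk Λ ξ)).Exact := by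
  refine ⟨fun h Ω _ _ ξ => h.map _, fun h => ?_⟩
  rw [ShortComplex.exact_iff_isZero_homology, isZero_iff_stalks]
  intro Ω _ _ ξ
  exact ((ShortComplex.exact_iff_isZero_homology _).1 (h Ω ξ)).of_iso (S.mapHomologyIso _).symm

/-- a section killed by the next map comes from the previous term -/
theorem exists_sect_lift {S : ShortComplex (EtModW.Mod Λ X)} (hS : S.Exact) [Mono S.f] (U : X.Etale)
    (s : S.X₂.obj.obj (op U)) (h : S.g.hom.app (op U) s = 0) : ∃ r, S.f.hom.app (op U) r = s := by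
  have h1 : (S.map (sheafToPresheaf _ _ ⋙ (evaluation _ (ModuleCat.{u + 1} Λ)).obj (op U))).Exact :=
    hS.map_of_mono_of_preservesKernel _ inferInstance inferInstance
  rw [ShortComplex.moduleCat_exact_iff] at h1
  exact h1 s h

/-- germs of sections in an exact sequence -/
theorem stalk_exact {S : ShortComplex (EtModW.Mod Λ X)} (hS : S.Exact)
    {Ω : Type u} [Field Ω] [IsSepClosed Ω] (ξ : Spec (CommRingCat.of Ω) ⟶ X)
    (q : (EtModW.stalk Λ ξ).obj S.X₂) (h : (EtModW.stalk Λ ξ).map S.g q = 0) :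
    ∃ p, (EtModW.stalk Λ ξ).map S.f p = q := by
  have h1 := (exact_iff_stalks S).1 hS Ω ξ
  rw [ShortComplex.moduleCat_exact_iff] at h1
  exact h1 q h

/-- naturality of germs -/
theorem germ_naturality {F G : EtModW.Mod Λ X} (a : F ⟶ G) {U : X.Etale}
    {Ω : Type u} [Field Ω] [IsSepClosed Ω] {ξ : Spec (CommRingCat.of Ω) ⟶ X}
    (u : (Scheme.pointSmallEtale ξ).fiber.obj U) (s : F.obj.obj (op U)) :
    (EtModW.stalk Λ ξ).map a ((Scheme.pointSmallEtale ξ).toPresheafFiber U u F.obj s) =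
      (Scheme.pointSmallEtale ξ).toPresheafFiber U u G.obj (a.hom.app (op U) s) :=
  (Scheme.pointSmallEtale ξ).toPresheafFiber_naturality_apply a.hom U u s

theorem germ_zero {F : EtModW.Mod Λ X} {U : X.Etale}
    {Ω : Type u} [Field Ω] [IsSepClosed Ω] {ξ : Spec (CommRingCat.of Ω) ⟶ X}
    (u : (Scheme.pointSmallEtale ξ).fiber.obj U) :
    (Scheme.pointSmallEtale ξ).toPresheafFiber U u F.obj (0 : F.obj.obj (op U)) = 0 :=
  map_zero _

end Groth.Agent.EtModLC71
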