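import Groth.Prelude.Def_EtModW
import Groth.Agent.EtModLC71.Forget
import Groth.Agent.EtModLC71.EssImage
import Groth.Agent.EtModLC71.Stalk
import Groth.Agent.ProEtLib.EpsExt
import Groth.Agent.ProEtLib.Points
import Groth.Agent.TriCat.AcyclicObj

/-!
# Inverse image of sheaves of modules from the etale to the pro-etale site
-/

universe u

open CategoryTheory CategoryTheory.Limits AlgebraicGeometry Opposite

namespace Groth.Agent.EtModLC71

set_option backward.isDefEq.respectTransparency.types false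

variable {Λ : Type (u + 1)} [CommRing Λ] {X : Scheme.{u}} [ProEtS.EpsCont X]

local notation "K" => Scheme.ProEt.topology X
local notation "J" => X.smallEtaleTopology

/-- `ε⁻¹ ⊣ ε_*` on sheaves of modules -/
noncomputable abbrev epsAdjMod :
    EtModW.epsPullMod Λ X ⊣
      (ProEtS.eps X).sheafPushforwardContinuous (ModuleCat.{u + 1} Λ) J K :=
  (ProEtS.eps X).sheafAdjunctionContinuous (ModuleCat.{u + 1} Λ) J K

theorem isIso_epsForget (F : EtModW.Mod Λ X) : IsIso (pullForgetHom (ProEtS.eps X) J K Λ F) := by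
  have := ProEtLib.repFlat_eps (X := X)
  exact isIso_pullForgetHom (ProEtS.eps X) J K Λ (ProEtLib.conservative_wcPoint X)
    (Functor.isContinuous_iff_coverPreserving.1 ‹ProEtS.EpsCont X›) F

instance isIso_unit_epsMod (F : EtModW.Mod Λ X) : IsIso ((epsAdjMod (X := X)).unit.app F) := by
  have h : IsIso ((uSheaf J Λ).map ((epsAdjMod (X := X)).unit.app F)) := by
    have := isIso_epsForget F
    have := ProEtLib.isIso_unit_eps (X := X) ((uSheaf J Λ).obj F)
    exact Eq.subst (motive := fun k => IsIso k) (unit_pullForgetHom (ProEtS.eps X) J K Λ F)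
      (IsIso.comp_isIso' ‹IsIso ((ProEtS.epsAdj X).unit.app ((uSheaf J Λ).obj F))›
        (Functor.map_isIso (ProEtS.epsPush X) (pullForgetHom (ProEtS.eps X) J K Λ F)))
  exact isIso_of_reflects_iso ((epsAdjMod (X := X)).unit.app F) (uSheaf J Λ)

instance preservesMono_epsPullMod : (EtModW.epsPullMod Λ X).PreservesMonomorphisms where
  preserves {F F'} φ _ := by
    have h1 := isIso_epsForget (Λ := Λ) F
    have h2 := isIso_epsForget (Λ := Λ) F'
    have e := pullForgetHom_natural (ProEtS.eps X) J K Λ φ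
    have hm : Mono ((uSheaf J Λ).map φ) := Sheaf.mono_of_injective _ fun U => sect_injective φ U.unop
    have : Mono ((uSheaf K Λ).map ((EtModW.epsPullMod Λ X).map φ)) :=
      (MorphismProperty.monomorphisms _).arrow_mk_iso_iff
        (Arrow.isoMk' ((ProEtS.epsPull X).map ((uSheaf J Λ).map φ))
          ((uSheaf K Λ).map ((EtModW.epsPullMod Λ X).map φ))
          (asIso (pullForgetHom (ProEtS.eps X) J K Λ F)) (asIso (pullForgetHom (ProEtS.eps X) J K Λ F'))
          e.symm) |>.1
        (inferInstanceAs (Mono ((ProEtS.epsPull X).map ((uSheaf J Λ).map φ))))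
    exact (uSheaf K Λ).mono_of_mono_map this

instance preservesFiniteColimits_epsPullMod : PreservesFiniteColimits (EtModW.epsPullMod Λ X) :=
  have := (epsAdjMod (Λ := Λ) (X := X)).leftAdjoint_preservesColimits
  inferInstance

instance additive_epsPullMod : (EtModW.epsPullMod Λ X).Additive :=
  have : ((ProEtS.eps X).sheafPushforwardContinuous (ModuleCat.{u + 1} Λ) J K).Additive := ⟨rfl⟩
  (epsAdjMod (X := X)).left_adjoint_additive

instance preservesFiniteLimits_epsPullMod : PreservesFiniteLimits (EtModW.epsPullMod Λ X) :=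
  (((EtModW.epsPullMod Λ X).preservesFiniteLimits_tfae).out 0 3).1
    (show ∀ S : ShortComplex (EtModW.Mod Λ X), S.ShortExact →
      (S.map (EtModW.epsPullMod Λ X)).Exact ∧ Mono ((EtModW.epsPullMod Λ X).map S.f) from fun S hS => by
      have := hS.mono_f
      have := hS.epi_g
      exact ⟨hS.exact.map_of_epi_of_preservesCokernel _ inferInstance inferInstance, inferInstance⟩)

/-- forgetting the module structure is exact -/
theorem shortExact_uSheaf {C : Type (u + 1)} [Category.{u} C] {T : GrothendieckTopology C}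
    {S : ShortComplex (Sheaf T (ModuleCat.{u + 1} Λ))} [(uSheaf T Λ).Additive] (hS : S.ShortExact) :
    (S.map (uSheaf T Λ)).ShortExact := by
  have := hS.mono_f
  have := hS.epi_g
  have : PreservesFiniteLimits (uSheaf T Λ) := by
    have : PreservesFiniteLimits (uSheaf T Λ ⋙ sheafToPresheaf T AddCommGrpCat.{u + 1}) :=
      inferInstanceAs (PreservesFiniteLimits (sheafToPresheaf T (ModuleCat.{u + 1} Λ) ⋙
        (Functor.whiskeringRight _ _ _).obj (forget₂ (ModuleCat.{u + 1} Λ) AddCommGrpCat.{u + 1})))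
    exact ⟨fun L _ _ => preservesLimitsOfShape_of_reflects_of_preserves _ (sheafToPresheaf T AddCommGrpCat.{u + 1})⟩
  refine .mk' (hS.exact.map_of_mono_of_preservesKernel _ inferInstance inferInstance)
    (inferInstanceAs (Mono ((uSheaf T Λ).map S.f))) ?_
  have : Sheaf.IsLocallySurjective S.g := (Sheaf.isLocallySurjective_iff_epi' _ S.g).2 inferInstance
  have h : Sheaf.IsLocallySurjective ((uSheaf T Λ).map S.g) := ⟨fun {U} s => this.imageSieve_mem s⟩
  exact (Sheaf.isLocallySurjective_iff_epi' _ _).1 h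

/-- `ε_*` is exact on extensions by pulled back sheaves -/
theorem epi_push_of_essImage {T : ShortComplex (EtModW.ModP Λ X)} (hT : T.ShortExact) (a : EtModW.Mod Λ X)
    (i : (EtModW.epsPullMod Λ X).obj a ≅ T.X₁) :
    Epi (((ProEtS.eps X).sheafPushforwardContinuous (ModuleCat.{u + 1} Λ) J K).map T.g) := by
  have : (uSheaf K Λ).Additive := ⟨rfl⟩
  let := HasDerivedCategory.standard (ProEtS.AbP X)
  let := HasDerivedCategory.standard (EtCoh.Ab X)
  have : PreservesFiniteLimits (ProEtS.epsPush X) :=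
    have := (ProEtS.epsAdj X).rightAdjoint_preservesLimits
    inferInstance
  obtain ⟨δ, w₁, w₂, w₃, -, h₂, -⟩ :=
    TriCat.exists_rightDerived_ses (ProEtS.epsPush X) (shortExact_uSheaf hT) 0
  have := isIso_epsForget a
  let j : (ProEtS.epsPull X).obj ((uSheaf J Λ).obj a) ≅ (uSheaf K Λ).obj T.X₁ :=
    asIso (pullForgetHom (ProEtS.eps X) J K Λ a) ≪≫ (uSheaf K Λ).mapIso i
  have hz : IsZero ((ProEtS.RepsPush X (0 + 1)).obj ((uSheaf K Λ).obj T.X₁)) :=
    (ProEtLib.isZero_repsPush_epsPull 0 ((uSheaf J Λ).obj a)).of_iso (((ProEtS.RepsPush X (0 + 1)).mapIso j).symm)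
  have h : Epi ((ProEtS.epsPush X).map ((uSheaf K Λ).map T.g)) :=
    ((MorphismProperty.epimorphisms _).arrow_mk_iso_iff
      (Arrow.isoOfNatIso (ProEtS.epsPush X).rightDerivedZeroIsoSelf (Arrow.mk ((uSheaf K Λ).map T.g)))).1
      (h₂.epi_f (hz.eq_of_tgt _ _))
  exact (uSheaf J Λ).epi_of_epi_map h

/-- the image of a weak Serre class of sheaves of modules under `ε⁻¹` is weak Serre -/
theorem isWeakSerre_epsImage (P : ObjectProperty (EtModW.Mod Λ X)) [WSerre.IsWeakSerre P] :
    WSerre.IsWeakSerre (fun F : EtModW.ModP Λ X =>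
      ∃ G : EtModW.Mod Λ X, P G ∧ Nonempty ((EtModW.epsPullMod Λ X).obj G ≅ F)) :=
  isWeakSerre_image epsAdjMod (fun _ hT a ⟨i⟩ => epi_push_of_essImage hT a i) P

end Groth.Agent.EtModLC71
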