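import Groth.Agent.EtModLC71.SectP
import Groth.Agent.EtModLC71.EpsMod
import Groth.Agent.EtModLC71.ConstrSerre
import Groth.Agent.ARLib.AdicCat
import Mathlib.CategoryTheory.Adjunction.FullyFaithful

/-!
# Adic pro-etale sheaves as limits of adic systems of etale sheaves
-/

universe u

open CategoryTheory CategoryTheory.Limits AlgebraicGeometry Opposite ARSys Groth.Agent.ARLib

namespace Groth.Agent.EtModLC71

set_option backward.isDefEq.respectTransparency.types false

variable {Λ : Type (u + 1)} [CommRing Λ] {X : Scheme.{u}} [ProEtS.EpsCont X] {I : Ideal Λ}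

/-- `ε_*` -/
noncomputable abbrev epsPushMod (Λ : Type (u + 1)) [CommRing Λ] (X : Scheme.{u}) [ProEtS.EpsCont X] :
    EtModW.ModP Λ X ⥤ EtModW.Mod Λ X :=
  (ProEtS.eps X).sheafPushforwardContinuous (ModuleCat.{u + 1} Λ) X.smallEtaleTopology (Scheme.ProEt.topology X)

instance epsPushMod_linear : Functor.Linear Λ (epsPushMod Λ X) where
  map_smul _ _ := rfl

instance epsPullMod_linear : Functor.Linear Λ (EtModW.epsPullMod Λ X) where
  map_smul φ r := by
    refine ((epsAdjMod (Λ := Λ) (X := X)).homEquiv _ _).injective ?_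
    simp only [Adjunction.homEquiv_unit, Functor.map_smul, Linear.comp_smul]
    rw [← Functor.comp_map, ← (epsAdjMod (Λ := Λ) (X := X)).unit.naturality]
    refine Eq.trans ?_ (congrArg (r • ·) ((epsAdjMod (Λ := Λ) (X := X)).unit.naturality φ))
    simp [Linear.smul_comp]

/-- `ε⁻¹` is fully faithful -/
noncomputable def epsFF : (EtModW.epsPullMod Λ X).FullyFaithful :=
  have : IsIso (epsAdjMod (Λ := Λ) (X := X)).unit := NatIso.isIso_of_isIso_app _
  (epsAdjMod (Λ := Λ) (X := X)).fullyFaithfulLOfIsIsoUnit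

/-- adic systems stay adic on the pro-etale site -/
theorem isAdic_eps (hI : I.FG) {G : PS (EtModW.Mod Λ X)} (hG : IsAdic I G) :
    IsAdic I (G ⋙ EtModW.epsPullMod Λ X) :=
  isAdic_map (EtModW.epsPullMod Λ X) hI hG

/-- the projections of the limit of an adic system are quotient maps -/
theorem isQuot_limit_eps (hI : I.FG) {G : PS (EtModW.Mod Λ X)} (hG : IsAdic I G) (n : ℕ) :
    IsQuot (I ^ (n + 1)) (limit.π (G ⋙ EtModW.epsPullMod Λ X) (op n)) :=
  isQuot_limit hI (isAdic_eps hI hG) n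

/-- fully faithful linear functors reflect quotient maps -/
theorem isQuot_reflect {E Q : EtModW.Mod Λ X} {p : E ⟶ Q} (h : IsQuot I ((EtModW.epsPullMod Λ X).map p)) :
    IsQuot I p := by
  refine ⟨fun a ha => epsFF.map_injective ?_, fun T φ hφ => ?_⟩
  · rw [Functor.map_smul, CategoryTheory.Functor.map_id, h.1 a ha, Functor.map_zero]
  · obtain ⟨ψ, hψ, huniq⟩ := h.2 _ ((EtModW.epsPullMod Λ X).map φ) fun a ha => by
      rw [← Functor.map_smul, hφ a ha, Functor.map_zero]
    refine ⟨epsFF.preimage ψ, epsFF.map_injective ?_, fun m hm => epsFF.map_injective ?_⟩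
    · rw [Functor.map_comp, epsFF.map_preimage, hψ]
    · rw [epsFF.map_preimage]
      exact huniq _ (by dsimp only; rw [← Functor.map_comp, hm])

theorem isQuot_of_iso_tgt {C : Type*} [Category C] [Preadditive C] {A : Type*} [CommRing A] [Linear A C]
    {J : Ideal A} {E Q Q' : C} {p : E ⟶ Q} (h : IsQuot J p) (e : Q ≅ Q') : IsQuot J (p ≫ e.hom) := by
  refine ⟨fun a ha => ?_, fun T φ hφ => ?_⟩
  · rw [← cancel_epi e.hom, Linear.comp_smul, Category.comp_id, comp_zero]
    rw [show e.hom = 𝟙 Q ≫ e.hom from (Category.id_comp _).symm, ← Linear.smul_comp, h.1 a ha, zero_comp]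
  · obtain ⟨ψ, hψ, huniq⟩ := h.2 T φ hφ
    refine ⟨e.inv ≫ ψ, by simp [hψ], fun m hm => ?_⟩
    rw [← huniq (e.hom ≫ m) (by dsimp only; rw [← Category.assoc, hm]), e.inv_hom_id_assoc]

/-- the tower of quotients of an object is an adic system -/
theorem isAdic_of_quot_tower {C : Type*} [Category C] [Abelian C] {A : Type*} [CommRing A] [Linear A C]
    {J : Ideal A} {F : C} {Q : PS C} (p : (Functor.const ℕᵒᵖ).obj F ⟶ Q)
    (hQ : ∀ n : ℕ, IsQuot (J ^ (n + 1)) (p.app (op n))) : IsAdic J Q := by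
  refine ⟨fun n => (hQ n).1, fun n m h => ⟨(hQ n).1, fun T φ hφ => ?_⟩⟩
  have := ARLib.IsQuot.epi (hQ m)
  have hw : p.app (op m) ≫ tr Q h = p.app (op n) := ((p.naturality (homOfLE h).op).symm.trans (Category.id_comp _))
  obtain ⟨ψ, hψ, huniq⟩ := (hQ n).2 T (p.app (op m) ≫ φ) fun a ha => by
    exact (Linear.comp_smul _ _ _ _ _ _).symm.trans ((congrArg (_ ≫ ·) (hφ a ha)).trans comp_zero)
  refine ⟨ψ, ?_, fun m' hm' => huniq m' ?_⟩
  · dsimp only
    rw [← cancel_epi (p.app (op m)), ← Category.assoc, hw]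
    exact hψ
  · show p.app (op n) ≫ m' = _
    rw [← hw, Category.assoc, hm']

/-- a sheaf which is the limit of a tower of its quotients by constructible sheaves -/
def IsAdicPF (I : Ideal Λ) (F : EtModW.ModP Λ X) : Prop :=
  ∃ (Q : ℕᵒᵖ ⥤ EtModW.ModP Λ X) (p : (Functor.const ℕᵒᵖ).obj F ⟶ Q),
    (∀ n : ℕ, ARSys.IsQuot (I ^ (n + 1)) (p.app (op n))) ∧
    (∀ n : ℕ, ∃ E : EtModW.Mod Λ X, EtModW.IsConstructible Λ E ∧
      Nonempty ((EtModW.epsPullMod Λ X).obj E ≅ Q.obj (op n))) ∧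
    IsIso (limit.lift Q (Cone.mk F p))

/-- an etale system inducing a tower with pulled back members -/
theorem exists_system {Q : PS (EtModW.ModP Λ X)}
    (hc : ∀ n : ℕ, ∃ E : EtModW.Mod Λ X, EtModW.IsConstructible Λ E ∧
      Nonempty ((EtModW.epsPullMod Λ X).obj E ≅ Q.obj (op n))) :
    ∃ G : PS (EtModW.Mod Λ X), (∀ n : ℕ, EtModW.IsConstructible Λ (G.obj (op n))) ∧
      Nonempty (G ⋙ EtModW.epsPullMod Λ X ≅ Q) := by
  have : IsIso (epsAdjMod (Λ := Λ) (X := X)).unit := NatIso.isIso_of_isIso_app _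
  have : (EtModW.epsPullMod Λ X).Full := epsFF.full
  have : (EtModW.epsPullMod Λ X).Faithful := epsFF.faithful
  choose E hE hi using hc
  have hi' : ∀ n : ℕᵒᵖ, IsIso ((epsAdjMod (Λ := Λ) (X := X)).counit.app (Q.obj n)) := fun n => by
    have : (EtModW.epsPullMod Λ X).essImage (Q.obj n) := ⟨E n.unop, hi n.unop⟩
    exact (epsAdjMod (Λ := Λ) (X := X)).isIso_counit_app_iff_mem_essImage.2 this
  refine ⟨Q ⋙ epsPushMod Λ X, fun n => ?_, ⟨?_⟩⟩
  · obtain ⟨i⟩ := hi n
    exact isConstructible_of_iso (asIso ((epsAdjMod (Λ := Λ) (X := X)).unit.app (E n)) ≪≫ (epsPushMod Λ X).mapIso i) (hE n)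
  · refine NatIso.ofComponents (fun n => @asIso _ _ _ _ _ (hi' n)) fun {a b} g => ?_
    exact (epsAdjMod (Λ := Λ) (X := X)).counit.naturality (Q.map g)

/-- the two descriptions agree -/
theorem isAdicPF_iff (hI : I.FG) (F : EtModW.ModP Λ X) :
    IsAdicPF I F ↔ ∃ G : PS (EtModW.Mod Λ X), IsAdic I G ∧ (∀ n : ℕ, EtModW.IsConstructible Λ (G.obj (op n))) ∧
      Nonempty (limit (G ⋙ EtModW.epsPullMod Λ X) ≅ F) := by
  constructor
  · rintro ⟨Q, p, hQ, hc, hl⟩
    obtain ⟨G, hGc, ⟨e⟩⟩ := exists_system hc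
    have hA := isAdic_of_quot_tower p hQ
    refine ⟨G, ⟨fun n a ha => epsFF.map_injective ?_, fun n m h => isQuot_reflect ?_⟩, hGc,
      ⟨(HasLimit.isoOfNatIso e) ≪≫ (@asIso _ _ _ _ _ hl).symm⟩⟩
    · rw [Functor.map_smul, CategoryTheory.Functor.map_id, Functor.map_zero]
      exact ARLib.killedBy_of_epi (hA.1 n) (e.app (op n)).inv a ha
    · have h2 : (EtModW.epsPullMod Λ X).map (tr G h) =
          (e.hom.app (op m) ≫ tr Q h) ≫ e.inv.app (op n) := by
        rw [← tr_naturality e.hom h, Category.assoc]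
        simp only [Iso.hom_inv_id_app]
        exact (Category.comp_id _).symm
      rw [h2]
      refine isQuot_of_iso_tgt ⟨(hA.2 n m h).1, fun T φ hφ => ?_⟩ (e.app (op n)).symm
      obtain ⟨ψ, hψ, huniq⟩ := (hA.2 n m h).2 T (e.inv.app (op m) ≫ φ) fun a ha => by
        rw [← Linear.comp_smul, hφ a ha, comp_zero]
      refine ⟨ψ, (Category.assoc _ _ _).trans ((congrArg (e.hom.app (op m) ≫ ·) hψ).trans (Iso.hom_inv_id_app_assoc e (op m) φ)), fun k hk => huniq k ?_⟩
      rw [← hk, Category.assoc, Iso.inv_hom_id_app_assoc]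
  · rintro ⟨G, hG, hGc, ⟨e⟩⟩
    refine ⟨G ⋙ EtModW.epsPullMod Λ X,
      { app := fun n => e.inv ≫ limit.π _ n
        naturality := fun a b g => by
          refine (Category.id_comp _).trans ?_
          rw [Category.assoc, limit.w] }, fun n => ?_, fun n => ⟨_, hGc n, ⟨Iso.refl _⟩⟩, ?_⟩
    · obtain ⟨hk, hu⟩ := isQuot_limit_eps hI hG n
      refine ⟨hk, fun T φ hφ => ?_⟩
      obtain ⟨ψ, hψ, huniq⟩ := hu T (e.hom ≫ φ) fun a ha => by rw [← Linear.comp_smul, hφ a ha, comp_zero]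
      refine ⟨ψ, by simp [hψ], fun k hk => huniq k ?_⟩
      rw [← hk]
      simp
    · rw [show limit.lift (G ⋙ EtModW.epsPullMod Λ X) (Cone.mk F _) = e.inv from
        limit.hom_ext fun n => (limit.lift_π _ _).trans (by rfl)]
      infer_instance

/-- morphisms between limits of adic systems come from morphisms of systems -/
theorem exists_map (hI : I.FG) {G H : PS (EtModW.Mod Λ X)} (hG : IsAdic I G) (hH : IsAdic I H)
    (w : limit (G ⋙ EtModW.epsPullMod Λ X) ⟶ limit (H ⋙ EtModW.epsPullMod Λ X)) :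
    ∃ f : G ⟶ H, limMap (Functor.whiskerRight f (EtModW.epsPullMod Λ X)) = w := by
  have hq := fun n : ℕ => (isQuot_limit_eps hI hG n).2 _ (w ≫ limit.π _ (op n))
    (killed_comp_left (IsQuot.homKilledBy (isQuot_limit_eps hI hH n)) _)
  choose ψ hψ hu using hq
  refine ⟨natMk (fun n => epsFF.preimage (ψ n)) fun n m h => epsFF.map_injective ?_, limit.hom_ext fun n => ?_⟩
  · have := ARLib.IsQuot.epi (isQuot_limit_eps hI hG m)
    rw [Functor.map_comp, Functor.map_comp, epsFF.map_preimage, epsFF.map_preimage,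
      ← cancel_epi (limit.π (G ⋙ EtModW.epsPullMod Λ X) (op m))]
    show limit.π _ (op m) ≫ (G ⋙ EtModW.epsPullMod Λ X).map (homOfLE h).op ≫ _ =
      limit.π _ (op m) ≫ _ ≫ (H ⋙ EtModW.epsPullMod Λ X).map (homOfLE h).op
    rw [limit.w_assoc, reassoc_of% hψ m, limit.w]
    exact hψ n
  · rw [limMap_π]
    obtain ⟨n⟩ := n
    show limit.π (G ⋙ EtModW.epsPullMod Λ X) (op n) ≫ (EtModW.epsPullMod Λ X).map (epsFF.preimage (ψ n)) = _
    rw [epsFF.map_preimage]
    exact hψ n

theorem map_injective (hI : I.FG) {G H : PS (EtModW.Mod Λ X)} (hG : IsAdic I G) {f g : G ⟶ H}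
    (h : limMap (Functor.whiskerRight f (EtModW.epsPullMod Λ X)) =
      limMap (Functor.whiskerRight g (EtModW.epsPullMod Λ X))) : f = g := by
  refine ARLib.hom_ext fun n => epsFF.map_injective ?_
  have := ARLib.IsQuot.epi (isQuot_limit_eps hI hG n)
  rw [← cancel_epi (limit.π (G ⋙ EtModW.epsPullMod Λ X) (op n))]
  have h1 := congrArg (· ≫ limit.π (H ⋙ EtModW.epsPullMod Λ X) (op n)) h
  simp only [limMap_π] at h1
  exact h1

end Groth.Agent.EtModLC71
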