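import Groth.Agent.EtModLC71.AdicP
import Groth.Agent.EtModLC71.Adic

/-!
# Kernels, cokernels and chains of adic pro-etale sheaves
-/

universe u

open CategoryTheory CategoryTheory.Limits AlgebraicGeometry Opposite ARSys Groth.Agent.ARLib

namespace Groth.Agent.EtModLC71

set_option backward.isDefEq.respectTransparency.types false

variable (Λ : Type (u + 1)) [CommRing Λ] (X : Scheme.{u}) [ProEtS.EpsCont X]

/-- `G ↦ lim ε⁻¹ G_n` -/
noncomputable abbrev limEps : PS (EtModW.Mod Λ X) ⥤ EtModW.ModP Λ X :=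
  (Functor.whiskeringRight ℕᵒᵖ (EtModW.Mod Λ X) (EtModW.ModP Λ X)).obj (EtModW.epsPullMod Λ X) ⋙ lim

instance limEps_preservesFiniteLimits : PreservesFiniteLimits (limEps Λ X) := by
  have : PreservesFiniteLimits
      ((Functor.whiskeringRight ℕᵒᵖ (EtModW.Mod Λ X) (EtModW.ModP Λ X)).obj (EtModW.epsPullMod Λ X)) :=
    ⟨fun K _ _ => inferInstance⟩
  have : PreservesFiniteLimits (lim : PS (EtModW.ModP Λ X) ⥤ EtModW.ModP Λ X) :=
    have := (constLimAdj (J := ℕᵒᵖ) (C := EtModW.ModP Λ X)).rightAdjoint_preservesLimits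
    inferInstance
  exact comp_preservesFiniteLimits _ _

instance limEps_additive : (limEps Λ X).Additive := Functor.additive_of_preserves_binary_products _

variable {Λ X} {I : Ideal Λ}

theorem isIso_limEps_map {G H : PS (EtModW.Mod Λ X)} (f : G ⟶ H) (hf : IsARIso f) : IsIso ((limEps Λ X).map f) :=
  ARLib.isIso_limMap _ (Functor.whiskerRight f (EtModW.epsPullMod Λ X)) (isARIso_map _ hf)

/-- `lim ε⁻¹` is exact at sequences starting with a Mittag-Leffler system -/
theorem epi_limEps {S : ShortComplex (PS (EtModW.Mod Λ X))} (hS : S.ShortExact)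
    {Y : PS (EtModW.Mod Λ X)} (v : Y ⟶ S.X₁) (hY : IsStrict Y) (hv : IsARIso v) :
    Epi ((limEps Λ X).map S.g) := by
  have hS' := fun n : ℕ => (ARLib.shortExact_app hS n).map_of_exact (EtModW.epsPullMod Λ X)
  refine epi_limMap (Functor.whiskerRight S.f (EtModW.epsPullMod Λ X)) (Functor.whiskerRight S.g (EtModW.epsPullMod Λ X))
    (fun n => ((S.map ((evaluation ℕᵒᵖ (EtModW.Mod Λ X)).obj (op n))).map (EtModW.epsPullMod Λ X)).zero)
    (fun n => (hS' n).epi_g) (fun n => (hS' n).exact) (Functor.whiskerRight v (EtModW.epsPullMod Λ X))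
    (fun n m h => ?_) (isARIso_map _ hv)
  have : Epi (tr Y h) := hY n m h
  exact inferInstanceAs (Epi ((EtModW.epsPullMod Λ X).map (tr Y h)))

theorem isAdicPF_of_iso {F F' : EtModW.ModP Λ X} (hI : I.FG) (e : F ≅ F') (h : IsAdicPF I F) : IsAdicPF I F' := by
  obtain ⟨G, hG, hGc, ⟨i⟩⟩ := (isAdicPF_iff hI F).1 h
  exact (isAdicPF_iff hI F').2 ⟨G, hG, hGc, ⟨i ≪≫ e⟩⟩

theorem isAdicPF_limEps [IsNoetherianRing Λ] {G Y : PS (EtModW.Mod Λ X)} (v : Y ⟶ G) (hY : IsAdic I Y)
    (hYc : ∀ n : ℕ, EtModW.IsConstructible Λ (Y.obj (op n))) (hv : IsARIso v) :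
    IsAdicPF I ((limEps Λ X).obj G) :=
  have := isIso_limEps_map v hv
  (isAdicPF_iff (IsNoetherian.noetherian I) _).2 ⟨Y, hY, hYc, ⟨asIso ((limEps Λ X).map v)⟩⟩

/-- the cokernel of `lim ε⁻¹ w` is `lim ε⁻¹ (coker w)` -/
theorem nonempty_cokernel_limEps [IsNoetherianRing Λ] {Y Z : PS (EtModW.Mod Λ X)} (w : Y ⟶ Z) (hY : IsAdic I Y)
    {K : PS (EtModW.Mod Λ X)} (v : K ⟶ kernel w) (hK : IsAdic I K) (hv : IsARIso v) :
    Nonempty (cokernel ((limEps Λ X).map w) ≅ (limEps Λ X).obj (cokernel w)) := by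
  let e := Abelian.factorThruImage w
  let T : ShortComplex (PS (EtModW.Mod Λ X)) := ShortComplex.mk (kernel.ι w) e (by
    rw [← cancel_mono (Abelian.image.ι w), Category.assoc, Abelian.image.fac, kernel.condition, zero_comp])
  have hT : T.ShortExact := by
    refine .mk' (ShortComplex.exact_of_f_is_kernel _ ?_) inferInstance inferInstance
    exact isKernelOfComp (Abelian.image.ι w) w (kernelIsKernel w) T.zero (Abelian.image.fac w)
  have he : Epi ((limEps Λ X).map e) := epi_limEps hT v (isStrict_of_isAdic hK) hv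
  let S : ShortComplex (PS (EtModW.Mod Λ X)) := ShortComplex.mk (Abelian.image.ι w) (cokernel.π w) (kernel.condition _)
  have hS : S.ShortExact := .mk' (ShortComplex.exact_of_f_is_kernel _ (kernelIsKernel _)) inferInstance inferInstance
  have hg : Epi ((limEps Λ X).map S.g) :=
    epi_limEps hS (𝟙 _) (ARLib.isStrict_of_epi e (isStrict_of_isAdic hY)) (ARLib.isARIso_id _)
  have hS' : (S.map (limEps Λ X)).Exact := hS.exact.map_of_mono_of_preservesKernel (limEps Λ X) hS.mono_f inferInstance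
  have : Epi (S.map (limEps Λ X)).g := hg
  refine ⟨?_ ≪≫ (cokernelIsCokernel _).coconePointUniqueUpToIso hS'.gIsCokernel⟩
  have hw : (limEps Λ X).map w = (limEps Λ X).map e ≫ (S.map (limEps Λ X)).f := by
    show _ = _ ≫ (limEps Λ X).map (Abelian.image.ι w)
    rw [← Functor.map_comp, Abelian.image.fac]
  exact cokernelIsoOfEq hw ≪≫ cokernelEpiComp _ _

/-- kernels and cokernels -/
theorem isAdicPF_kernel_cokernel [IsNoetherianRing Λ] [IsNoetherian X] {F G : EtModW.ModP Λ X}
    (hF : IsAdicPF I F) (hG : IsAdicPF I G) (w : F ⟶ G) : IsAdicPF I (kernel w) ∧ IsAdicPF I (cokernel w) := by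
  have hI : I.FG := IsNoetherian.noetherian I
  obtain ⟨Y, hY, hYc, ⟨eF⟩⟩ := (isAdicPF_iff hI F).1 hF
  obtain ⟨Z, hZ, hZc, ⟨eG⟩⟩ := (isAdicPF_iff hI G).1 hG
  obtain ⟨w₀, hw⟩ := exists_map hI hY hZ (eF.hom ≫ w ≫ eG.inv)
  have hsq : (limEps Λ X).map w₀ ≫ eG.hom = eF.hom ≫ w := by
    refine (congrArg (· ≫ eG.hom) hw).trans ?_
    simp
  obtain ⟨⟨-, K, v, hK, hKc, hv⟩, -, C, c, hC, hCc, hc⟩ := kernel_cokernel_of_sub (constrProp Λ X) w₀ hY hZ hYc hZc
    (fun n => isNoetherianObject_of_isConstructible (hYc n)) (fun n => isNoetherianObject_of_isConstructible (hZc n))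
  obtain ⟨ec⟩ := nonempty_cokernel_limEps w₀ hY v hK hv
  exact ⟨isAdicPF_of_iso hI (PreservesKernel.iso (limEps Λ X) w₀ ≪≫ kernel.mapIso _ _ eF eG hsq)
      (isAdicPF_limEps v hK hKc hv),
    isAdicPF_of_iso hI (ec.symm ≪≫ cokernel.mapIso _ _ eF eG hsq) (isAdicPF_limEps c hC hCc hc)⟩

/-- a system adic up to translation with vanishing limit is null -/
theorem isARNull_of_isZero_limEps (hI : I.FG) {K Y : PS (EtModW.Mod Λ X)} (v : Y ⟶ K) (hY : IsAdic I Y)
    (hv : IsARIso v) (h0 : IsZero ((limEps Λ X).obj K)) : IsARNull K := by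
  have := isIso_limEps_map v hv
  have hz : IsZero (limit (Y ⋙ EtModW.epsPullMod Λ X)) := h0.of_iso (asIso ((limEps Λ X).map v))
  refine isARNull_of_isARIso hv fun n => ?_
  have := ARLib.IsQuot.epi (isQuot_limit_eps hI hY n)
  have h1 : IsZero ((EtModW.epsPullMod Λ X).obj (Y.obj (op n))) := IsZero.of_epi (limit.π (Y ⋙ EtModW.epsPullMod Λ X) (op n)) hz
  rw [IsZero.iff_id_eq_zero]
  exact epsFF.map_injective (h1.eq_of_src _ _)

theorem isARIso_factorThruImage (hI : I.FG) {G Y : PS (EtModW.Mod Λ X)} (g : G ⟶ Y) {K : PS (EtModW.Mod Λ X)}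
    (v : K ⟶ kernel g) (hK : IsAdic I K) (hv : IsARIso v) [Mono ((limEps Λ X).map g)] :
    IsARIso (factorThruImageSubobject g) := by
  have hz : IsZero ((limEps Λ X).obj (kernel g)) :=
    (isZero_kernel_of_mono ((limEps Λ X).map g)).of_iso (PreservesKernel.iso (limEps Λ X) g)
  obtain ⟨r, hr⟩ := isARNull_of_isZero_limEps hI v hK hv hz
  refine ⟨?_, ⟨0, fun n => ((isZero_cokernel_of_epi (factorThruImageSubobject g)).obj (op n)).eq_of_tgt _ _⟩⟩
  let i : kernel (factorThruImageSubobject g) ≅ kernel g :=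
    (kernelCompMono (factorThruImageSubobject g) (imageSubobject g).arrow).symm ≪≫
      kernelIsoOfEq (imageSubobject_arrow_comp g)
  refine ⟨r, fun n => ?_⟩
  rw [← cancel_mono (i.hom.app (op n))]
  exact (ARLib.tr_naturality i.hom (Nat.le_add_right n r)).trans
    ((congrArg (i.hom.app _ ≫ ·) (hr n)).trans (comp_zero.trans zero_comp.symm))

/-- chains of adic subsheaves stabilise -/
theorem chain_stabilises_adicPF [IsNoetherianRing Λ] [IsNoetherian X] {F : EtModW.ModP Λ X} (hF : IsAdicPF I F)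
    (Z : ℕ →o Subobject F) (hZ : ∀ k, IsAdicPF I (Subobject.underlying.obj (Z k))) :
    ∃ k₀ : ℕ, ∀ k : ℕ, k₀ ≤ k → Z k = Z k₀ := by
  have hI : I.FG := IsNoetherian.noetherian I
  obtain ⟨Y, hY, hYc, ⟨eF⟩⟩ := (isAdicPF_iff hI F).1 hF
  choose G hG hGc hi using fun k => (isAdicPF_iff hI _).1 (hZ k)
  let e := fun k => (hi k).some
  have hg : ∀ k, ∃ g : G k ⟶ Y, (limEps Λ X).map g = (e k).hom ≫ (Z k).arrow ≫ eF.inv := fun k =>
    exists_map hI (hG k) hY ((e k).hom ≫ (Z k).arrow ≫ eF.inv)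
  choose g hg using hg
  have hh : ∀ k, ∃ h : G k ⟶ G (k + 1), (limEps Λ X).map h =
      (e k).hom ≫ Subobject.ofLE (Z k) (Z (k + 1)) (Z.monotone (Nat.le_succ k)) ≫ (e (k + 1)).inv := fun k =>
    exists_map hI (hG k) (hG (k + 1)) _
  choose h hh using hh
  have hgh : ∀ k, h k ≫ g (k + 1) = g k := fun k => map_injective hI (hG k) (by
    show (limEps Λ X).map (h k ≫ g (k + 1)) = (limEps Λ X).map (g k)
    rw [Functor.map_comp, hh, hg, hg]
    simp)
  have hgm : ∀ k, Mono ((limEps Λ X).map (g k)) := fun k => by rw [hg]; infer_instance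
  have hfac : ∀ k, IsARIso (factorThruImageSubobject (g k)) := fun k => by
    obtain ⟨⟨-, K, v, hK, -, hv⟩, -⟩ := kernel_cokernel_of_sub (constrProp Λ X) (g k) (hG k) hY (hGc k) hYc
      (fun n => isNoetherianObject_of_isConstructible (hGc k n)) (fun n => isNoetherianObject_of_isConstructible (hYc n))
    have := hgm k
    exact isARIso_factorThruImage hI (g k) v hK hv
  let c : ℕ →o Subobject Y := ⟨fun k => imageSubobject (g k), monotone_nat_of_le_succ fun k => by
    show imageSubobject (g k) ≤ imageSubobject (g (k + 1))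
    rw [← hgh k]
    exact imageSubobject_comp_le _ _⟩
  obtain ⟨k₀, hk₀⟩ := chain_eventually_isARIso (F := Y) ⟨hY, fun n => isNoetherianObject_of_isConstructible (hYc n)⟩ c
    fun k => ⟨termKilled_of_mono (c k).arrow hY.1, G k, factorThruImageSubobject (g k), hG k, hfac k⟩
  refine ⟨k₀, fun k hk => ?_⟩
  induction k, hk using Nat.le_induction with
  | base => rfl
  | succ k hk ih =>
    rw [← ih]
    have i1 := isIso_limEps_map _ (hk₀ k hk)
    have i2 := isIso_limEps_map _ (hfac k)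
    have i3 := isIso_limEps_map _ (hfac (k + 1))
    have e1 : h k ≫ factorThruImageSubobject (g (k + 1)) =
        factorThruImageSubobject (g k) ≫ Subobject.ofLE (c k) (c (k + 1)) (c.monotone (Nat.le_succ k)) := by
      rw [← cancel_mono (c (k + 1)).arrow, Category.assoc, Category.assoc, Subobject.ofLE_arrow]
      exact (congrArg (h k ≫ ·) (imageSubobject_arrow_comp _)).trans ((hgh k).trans (imageSubobject_arrow_comp _).symm)
    have : IsIso ((limEps Λ X).map (h k)) := by
      have : IsIso ((limEps Λ X).map (h k) ≫ (limEps Λ X).map (factorThruImageSubobject (g (k + 1)))) := by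
        rw [← Functor.map_comp, e1, Functor.map_comp]
        infer_instance
      exact IsIso.of_isIso_comp_right _ ((limEps Λ X).map (factorThruImageSubobject (g (k + 1))))
    rw [hh] at this
    have h1 : IsIso (Subobject.ofLE (Z k) (Z (k + 1)) (Z.monotone (Nat.le_succ k)) ≫ (e (k + 1)).inv) :=
      IsIso.of_isIso_comp_left (e k).hom _
    have h2 : IsIso (Subobject.ofLE (Z k) (Z (k + 1)) (Z.monotone (Nat.le_succ k))) :=
      IsIso.of_isIso_comp_right _ (e (k + 1)).inv
    exact le_antisymm (Subobject.le_of_comm (inv (Subobject.ofLE (Z k) (Z (k + 1)) (Z.monotone (Nat.le_succ k))))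
      (by rw [IsIso.inv_comp_eq, Subobject.ofLE_arrow])) (Z.monotone (Nat.le_succ k))

end Groth.Agent.EtModLC71
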