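import Groth.Agent.EtModLC71.Spread
import Groth.Agent.EtModLC71.AdicMod
import Groth.Agent.EtModLC71.AR

/-!
# Adic systems of constructible sheaves: uniform stratifications
-/

universe u

open CategoryTheory CategoryTheory.Limits AlgebraicGeometry Opposite Topology TopologicalSpace

namespace Groth.Agent.EtModLC71

set_option backward.isDefEq.respectTransparency.types false

variable {Λ : Type (u + 1)} [CommRing Λ] [IsNoetherianRing Λ] {I : Ideal Λ}

/-- local constancy in low degrees gives local constancy in all degrees on an irreducible scheme -/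
theorem isFTLocConst_of_bound {T : Scheme.{u}} [IsLocallyNoetherian T] {t : T} (ht : ∀ y, t ⤳ y)
    (G : ARSys.PS (EtModW.Mod Λ T)) (hG : ARSys.IsAdic I G)
    (hc : ∀ n : ℕ, EtModW.IsConstructible Λ (G.obj (op n)))
    {Ω : Type u} [Field Ω] [IsAlgClosed Ω] (θ : Spec (CommRingCat.of Ω) ⟶ T)
    (hθ : θ.base (default : Spec (CommRingCat.of Ω)) = t) {B : ARSys.PS (ModuleCat.{u + 1} Λ)}
    (e : G ⋙ EtModW.stalk Λ θ ≅ B) {N : ℕ}
    (hN : ∀ (A : ARSys.PS (ModuleCat.{u + 1} Λ)), ARSys.IsAdic I A → ∀ f : A ⟶ B,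
      (∀ n ≤ N, Function.Bijective (f.app (op n))) → ∀ n : ℕ, Function.Bijective (f.app (op n)))
    (h : ∀ n ≤ N, EtModW.IsFTLocConst Λ (G.obj (op n))) (n : ℕ) : EtModW.IsFTLocConst Λ (G.obj (op n)) := by
  have key : ∀ {k : Type u} [Field k] [IsSepClosed k] {ξ : Spec (CommRingCat.of k) ⟶ T}
      (b : Scheme.pointSmallEtale θ ⟶ Scheme.pointSmallEtale ξ) (m : ℕ),
      Function.Bijective ((GrothendieckTopology.Point.Hom.sheafFiber (A := ModuleCat.{u + 1} Λ) b).app (G.obj (op m))) := by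
    intro k _ _ ξ b m
    have he : ∀ m : ℕ, Function.Bijective (e.hom.app (op m)) := fun m =>
      (ConcreteCategory.isIso_iff_bijective _).1 inferInstance
    have hb := hN (G ⋙ EtModW.stalk Λ ξ) (isAdic_map (EtModW.stalk Λ ξ) (IsNoetherian.noetherian I) hG)
      (Functor.whiskerLeft G (GrothendieckTopology.Point.Hom.sheafFiber (A := ModuleCat.{u + 1} Λ) b) ≫ e.hom)
      (fun m hm => (he m).comp ((ConcreteCategory.isIso_iff_bijective _).1 (isIso_pointHom (h m hm) b))) m
    exact (Function.Bijective.of_comp_iff' (he m) _).1 hb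
  refine isFTLocConst_of_bijective (fun k _ _ ξ => finite_stalk (hc n) ξ) fun k k' _ _ _ _ ξ ξ' a => ?_
  let T₀ : T.Etale := Scheme.Etale.mk (𝟙 T)
  let u : (Scheme.pointSmallEtale ξ').fiber.obj T₀ := CategoryTheory.Over.homMk ξ' (Category.comp_id _)
  let v : (Scheme.pointSmallEtale θ).fiber.obj T₀ := CategoryTheory.Over.homMk θ (Category.comp_id _)
  obtain ⟨b, -⟩ := EtFound.exists_pointHom ξ' θ u v ((specializes_of_eq hθ).trans (ht _))
  have h2 := key (b ≫ a) n
  rw [GrothendieckTopology.Point.Hom.sheafFiber_comp] at h2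
  exact (Function.Bijective.of_comp_iff' (key b n) _).1 h2

/-- a piece on which all members of a system are locally constant of finite type -/
def IsUPiece {X : Scheme.{u}} (F : ARSys.PS (EtModW.Mod Λ X)) (S : Set X) : Prop :=
  ∃ (T : Scheme.{u}) (g : T ⟶ X), IsImmersion g ∧ Set.range g.base = S ∧
    ∀ n : ℕ, EtModW.IsFTLocConst Λ ((EtModW.pull Λ g).obj (F.obj (op n)))

theorem IsUPiece.isLocallyClosed {X : Scheme.{u}} {F : ARSys.PS (EtModW.Mod Λ X)} {S : Set X}
    (h : IsUPiece F S) : IsLocallyClosed S := by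
  obtain ⟨T, g, hg, rfl, -⟩ := h
  exact g.isLocallyClosed_range

theorem IsUPiece.mono {X : Scheme.{u}} {F : ARSys.PS (EtModW.Mod Λ X)} {S S' : Set X} (h : IsUPiece F S)
    (hle : S' ⊆ S) (hlc : IsLocallyClosed S') : IsUPiece F S' := by
  obtain ⟨T, g, hg, rfl, hT⟩ := h
  obtain ⟨T', g', hg', hr⟩ := EtFound.exists_immersion_range (hlc.preimage g.continuous)
  refine ⟨T', g' ≫ g, inferInstance, ?_, fun n =>
    isFTLocConst_of_iso ((pullCompMod g' g).app _).symm (isFTLocConst_pull g' (hT n))⟩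
  rw [Scheme.Hom.comp_base, TopCat.coe_comp, Set.range_comp, hr]
  exact Set.image_preimage_eq_of_subset hle

variable {X : Scheme.{u}} [IsLocallyNoetherian X] {F : ARSys.PS (EtModW.Mod Λ X)}

omit [IsNoetherianRing Λ] [IsLocallyNoetherian X] in
/-- finitely many members have a common piece at each point -/
theorem exists_common_piece (hc : ∀ n : ℕ, EtModW.IsConstructible Λ (F.obj (op n))) (x : X) :
    ∀ N : ℕ, ∃ V : X.Opens, x ∈ V ∧ ∃ (T : Scheme.{u}) (g : T ⟶ X), IsImmersion g ∧
      Set.range g.base = (V : Set X) ∩ closure {x} ∧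
      ∀ n < N, EtModW.IsFTLocConst Λ ((EtModW.pull Λ g).obj (F.obj (op n)))
  | 0 => by
    obtain ⟨T, g, hg, hr⟩ := EtFound.exists_immersion_range
      (isClosed_closure (s := ({x} : Set X))).isLocallyClosed
    exact ⟨⊤, trivial, T, g, hg, by simpa using hr, fun n hn => absurd hn (Nat.not_lt_zero n)⟩
  | N + 1 => by
    obtain ⟨V, hxV, T, g, hg, hr, hT⟩ := exists_common_piece hc x N
    obtain ⟨W, hxW, hW⟩ := exists_generic_piece (hc N) x
    obtain ⟨T', g', hg', hr', hT'⟩ := hW.preimage g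
    refine ⟨V ⊓ W, ⟨hxV, hxW⟩, T', g' ≫ g, inferInstance, ?_, fun n hn =>
      isFTLocConst_of_iso ((pullCompMod g' g).app _).symm ?_⟩
    · rw [Scheme.Hom.comp_base, TopCat.coe_comp, Set.range_comp, hr', Set.image_preimage_eq_inter_range, hr]
      ext y
      exact ⟨fun ⟨⟨hy, hz⟩, hy', _⟩ => ⟨⟨hy', hy⟩, hz⟩, fun ⟨⟨hy', hy⟩, hz⟩ => ⟨⟨hy, hz⟩, hy', hz⟩⟩
    · rcases Nat.lt_succ_iff_lt_or_eq.1 hn with h | rfl
      · exact isFTLocConst_pull g' (hT n h)
      · exact hT'

/-- a uniform piece at every point -/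
theorem exists_upiece (hF : ARSys.IsAdic I F) (hc : ∀ n : ℕ, EtModW.IsConstructible Λ (F.obj (op n))) (x : X) :
    ∃ V : X.Opens, x ∈ V ∧ IsUPiece F ((V : Set X) ∩ closure {x}) := by
  obtain ⟨K, _, _, ξ, hξ⟩ := exists_point x
  have : Module.Finite Λ ((F ⋙ EtModW.stalk Λ ξ).obj (op 0)) := finite_stalk (hc 0) ξ
  obtain ⟨N, hN⟩ := exists_bound (isAdic_map (EtModW.stalk Λ ξ) (IsNoetherian.noetherian I) hF)
  obtain ⟨V, hxV, T, g, hg, hr, hT⟩ := exists_common_piece hc x (N + 1)
  have : IsLocallyNoetherian T := LocallyOfFiniteType.isLocallyNoetherian g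
  obtain ⟨t, ht⟩ : x ∈ Set.range g.base := hr.ge ⟨hxV, subset_closure rfl⟩
  have htg : ∀ y, t ⤳ y := fun y => g.isEmbedding.isInducing.specializes_iff.1
    ((specializes_of_eq ht).trans (specializes_iff_mem_closure.2 ((hr.le ⟨y, rfl⟩).2)))
  obtain ⟨Ω, _, _, θ, hθ⟩ := exists_point t
  obtain ⟨e⟩ := nonempty_stalk_iso (Λ := Λ) (θ ≫ g) ξ (by rw [Scheme.Hom.comp_apply, hθ, ht, hξ])
  refine ⟨V, hxV, T, g, hg, hr, isFTLocConst_of_bound htg (F ⋙ EtModW.pull Λ g)
    (isAdic_map (EtModW.pull Λ g) (IsNoetherian.noetherian I) hF) (fun n => isConstructible_pull g (hc n)) θ hθ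
    (Functor.isoWhiskerLeft F (stalkPullMod g θ ≪≫ e)) hN fun n hn => hT n (Nat.lt_succ_of_le hn)⟩

/-- a finite partition into uniform pieces -/
theorem exists_upartition [NoetherianSpace X] (hF : ARSys.IsAdic I F)
    (hc : ∀ n : ℕ, EtModW.IsConstructible Λ (F.obj (op n))) {C : Set X} (hC : IsClosed C) :
    ∃ (m : ℕ) (E : Fin m → Set X), (∀ i, IsUPiece F (E i)) ∧ Pairwise (fun i j => Disjoint (E i) (E j)) ∧
      (⋃ i, E i) = C := by
  refine SpecLib.irred_induction (P := fun C => ∃ (m : ℕ) (E : Fin m → Set X), (∀ i, IsUPiece F (E i)) ∧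
    Pairwise (fun i j => Disjoint (E i) (E j)) ∧ (⋃ i, E i) = C)
    ⟨0, Fin.elim0, fun i => i.elim0, fun i => i.elim0, by simp⟩ (fun A B hA _ => ?_) (fun Y hY hirr ih => ?_) hC
  · rintro ⟨n, E, hE, hd, rfl⟩ ⟨m, E', hE', hd', rfl⟩
    refine ⟨n + m, Fin.append E (fun i => E' i ∩ (⋃ j, E j)ᶜ), fun k => ?_, fun a b hab => ?_, ?_⟩
    · refine Fin.addCases (fun i => ?_) (fun i => ?_) k
      · rw [Fin.append_left]; exact hE i
      · rw [Fin.append_right]
        exact (hE' i).mono Set.inter_subset_left ((hE' i).isLocallyClosed.inter hA.isOpen_compl.isLocallyClosed)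
    · have hmix : ∀ i i', Disjoint (E i) (E' i' ∩ (⋃ j, E j)ᶜ) := fun i i' =>
        Set.disjoint_left.2 fun y hy hy' => hy'.2 (Set.mem_iUnion.2 ⟨i, hy⟩)
      induction a using Fin.addCases with
      | left i => induction b using Fin.addCases with
        | left i' => simpa using hd (fun e => hab (congrArg _ e))
        | right i' => simpa using hmix i i'
      | right i => induction b using Fin.addCases with
        | left i' => simpa using (hmix i' i).symm
        | right i' => simpa using (hd' (fun e => hab (congrArg _ e))).mono Set.inter_subset_left Set.inter_subset_left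
    · ext y
      simp only [Set.mem_iUnion, Set.mem_union]
      constructor
      · rintro ⟨k, hk⟩
        induction k using Fin.addCases with
        | left i => exact Or.inl ⟨i, by simpa using hk⟩
        | right i =>
          have hk' : y ∈ E' i ∩ (⋃ j, E j)ᶜ := by simpa using hk
          exact Or.inr ⟨i, hk'.1⟩
      · intro hy
        by_cases hA' : y ∈ ⋃ j, E j
        · obtain ⟨i, hi⟩ := Set.mem_iUnion.1 hA'
          exact ⟨Fin.castAdd m i, by simpa using hi⟩
        · obtain ⟨i, hi⟩ := hy.resolve_left fun ⟨i, hi⟩ => hA' (Set.mem_iUnion.2 ⟨i, hi⟩)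
          exact ⟨Fin.natAdd n i, by rw [Fin.append_right]; exact ⟨hi, hA'⟩⟩
  · have hx : IsGenericPoint hirr.genericPoint Y := by
      simpa [hY.closure_eq] using hirr.isGenericPoint_genericPoint_closure
    obtain ⟨V, hxV, hV⟩ := exists_upiece hF hc hirr.genericPoint
    rw [show closure ({hirr.genericPoint} : Set X) = Y from hx] at hV
    obtain ⟨n, E, hE, hd, hu⟩ := ih (Y ∩ (V : Set X)ᶜ) (hY.inter V.2.isClosed_compl)
      (Set.inter_subset_left.ssubset_of_ne fun e => (e.ge hx.mem).2 hxV)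
    have hout : ∀ i, Disjoint ((V : Set X) ∩ Y) (E i) := fun i => Set.disjoint_left.2 fun y hy hy' =>
      (hu.le (Set.mem_iUnion.2 ⟨i, hy'⟩)).2 hy.1
    refine ⟨n + 1, Fin.cons ((V : Set X) ∩ Y) E, Fin.cases hV hE, fun a b hab => ?_, ?_⟩
    · induction a using Fin.cases with
      | zero => induction b using Fin.cases with
        | zero => exact absurd rfl hab
        | succ j => exact hout j
      | succ i => induction b using Fin.cases with
        | zero => exact (hout i).symm
        | succ j => exact hd (fun e => hab (congrArg _ e))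
    · ext y
      simp only [Set.mem_iUnion, Fin.exists_fin_succ, Fin.cons_zero, Fin.cons_succ]
      rw [← Set.mem_iUnion, hu]
      by_cases hyV : y ∈ (V : Set X) <;> simp [hyV]

/-- a system is lisse on an open set covered by pieces which are open -/
theorem isFTLocConst_pull_of_openPieces {κ : Type*} (S : κ → Set X) (hS : ∀ i, IsUPiece F (S i))
    (hop : ∀ i, IsOpen (S i)) (U : X.Opens) (hU : (U : Set X) = ⋃ i, S i) (n : ℕ) :
    EtModW.IsFTLocConst Λ ((EtModW.pull Λ U.ι).obj (F.obj (op n))) := by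
  refine isFTLocConst_of_immersions fun y => ?_
  obtain ⟨i, hi⟩ := Set.mem_iUnion.1 (hU.le y.2)
  obtain ⟨T, g, hg, hr, hT⟩ := hS i
  let g' : T ⟶ U.toScheme := IsOpenImmersion.lift U.ι g (by
    rw [Scheme.Opens.range_ι, hr]; exact fun z hz => hU.ge (Set.mem_iUnion.2 ⟨i, hz⟩))
  have hg' : g' ≫ U.ι = g := IsOpenImmersion.lift_fac _ _ _
  have : IsImmersion g' := by
    have : IsImmersion (g' ≫ U.ι) := hg'.symm ▸ hg
    exact IsImmersion.of_comp g' U.ι
  have hr' : Set.range g'.base = U.ι.base ⁻¹' S i := by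
    have e : U.ι.base '' Set.range g'.base = S i := by
      rw [← Set.range_comp, ← TopCat.coe_comp, ← Scheme.Hom.comp_base, hg', hr]
    rw [← e, Set.preimage_image_eq _ U.ι.isOpenEmbedding.injective]
  exact ⟨T, g', ‹_›, hr' ▸ (hop i).preimage U.ι.continuous, hr'.ge hi, isFTLocConst_of_iso
    (eqToIso (congrArg (fun k => (EtModW.pull Λ k).obj (F.obj (op n))) hg'.symm) ≪≫ (pullCompMod g' U.ι).app _)
    (hT n)⟩

/-- a dense open set of lissity -/
theorem exists_dense_open [NoetherianSpace X] (hF : ARSys.IsAdic I F)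
    (hc : ∀ n : ℕ, EtModW.IsConstructible Λ (F.obj (op n))) :
    ∃ U : X.Opens, Dense (U : Set X) ∧ ∀ n : ℕ, EtModW.IsFTLocConst Λ ((EtModW.pull Λ U.ι).obj (F.obj (op n))) := by
  obtain ⟨m, E, hE, -, hu⟩ := exists_upartition hF hc (isClosed_univ (X := X))
  let U : X.Opens := ⟨⋃ i, interior (E i), isOpen_iUnion fun i => isOpen_interior⟩
  refine ⟨U, dense_iff_inter_open.2 fun V hV ⟨x, hx⟩ => ?_,
    isFTLocConst_pull_of_openPieces (fun i => interior (E i))
      (fun i => (hE i).mono interior_subset isOpen_interior.isLocallyClosed) (fun i => isOpen_interior) U rfl⟩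
  -- an open set which avoids the interiors is covered by nowhere dense sets
  have key : ∀ s : Finset (Fin m), ∀ V : Set X, IsOpen V → V.Nonempty → V ⊆ (⋃ i ∈ s, E i) →
      ∃ i, (V ∩ interior (E i)).Nonempty := by
    intro s
    induction s using Finset.induction with
    | empty =>
      intro V _ ⟨x, hx⟩ h
      simpa using h hx
    | @insert i s _ ih =>
      intro V hV hne h
      obtain ⟨O, C, hO, hC, e⟩ := (hE i).isLocallyClosed
      by_cases h' : (V ∩ Cᶜ).Nonempty
      · obtain ⟨j, y, hy, hy'⟩ := ih (V ∩ Cᶜ) (hV.inter hC.isOpen_compl) h' fun z hz => by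
          obtain ⟨j, hj, hzj⟩ := Set.mem_iUnion₂.1 (h hz.1)
          rcases Finset.mem_insert.1 hj with rfl | hj
          · exact absurd (e.le hzj).2 hz.2
          · exact Set.mem_iUnion₂.2 ⟨j, hj, hzj⟩
        exact ⟨j, y, hy.1, hy'⟩
      · have hVC : V ⊆ C := fun z hz => by_contra fun hzC => h' ⟨z, hz, hzC⟩
        by_cases h'' : (V ∩ O).Nonempty
        · obtain ⟨y, hy⟩ := h''
          exact ⟨i, y, hy.1, interior_maximal (fun z hz => e.ge ⟨hz.2, hVC hz.1⟩) (hV.inter hO) hy⟩
        · refine ih V hV hne fun z hz => ?_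
          obtain ⟨j, hj, hzj⟩ := Set.mem_iUnion₂.1 (h hz)
          rcases Finset.mem_insert.1 hj with rfl | hj
          · exact absurd ⟨z, hz, (e.le hzj).1⟩ h''
          · exact Set.mem_iUnion₂.2 ⟨j, hj, hzj⟩
  obtain ⟨i, y, hy, hy'⟩ := key Finset.univ V hV ⟨x, hx⟩ (by simp [hu])
  exact ⟨y, hy, Set.mem_iUnion.2 ⟨i, hy'⟩⟩

end Groth.Agent.EtModLC71
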