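import Groth.Prelude.Def_PBC
import Groth.Agent.EtModLC71.Stalk
import Groth.Agent.EtFound.PullConst
import Groth.Agent.EtFound.Detect

/-!
# Inverse images of sheaves of modules: composition, stalks, exactness
-/

universe u

open CategoryTheory CategoryTheory.Limits AlgebraicGeometry Opposite

namespace Groth.Agent.EtModLC71

set_option backward.isDefEq.respectTransparency.types false

variable {Λ : Type (u + 1)} [CommRing Λ]

instance hasProducts_moduleCat : HasProducts.{u} (ModuleCat.{u + 1} Λ) := fun J => inferInstance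

/-- `f^{-1} ⊣ f_*` -/
noncomputable abbrev pullPushMod {X Y : Scheme.{u}} (f : X ⟶ Y) :
    EtModW.pull Λ f ⊣ EtModW.push Λ f :=
  (EtCoh.bc f).sheafAdjunctionContinuous (ModuleCat.{u + 1} Λ) Y.smallEtaleTopology X.smallEtaleTopology

instance pull_isLeftAdjoint {X Y : Scheme.{u}} (f : X ⟶ Y) : (EtModW.pull Λ f).IsLeftAdjoint :=
  (pullPushMod f).isLeftAdjoint

instance push_isRightAdjoint {X Y : Scheme.{u}} (f : X ⟶ Y) : (EtModW.push Λ f).IsRightAdjoint :=
  (pullPushMod f).isRightAdjoint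

/-- direct images compose -/
noncomputable def pushCompMod {X Y Z : Scheme.{u}} (f : X ⟶ Y) (g : Z ⟶ X) :
    EtModW.push Λ g ⋙ EtModW.push Λ f ≅ EtModW.push Λ (g ≫ f) :=
  Functor.sheafPushforwardContinuousComp' (F := EtCoh.bc f) (G := EtCoh.bc g) (FG := EtCoh.bc (g ≫ f))
    ((MorphismProperty.Over.pullbackComp (P := EtCoh.etaleMP) (Q := ⊤) g f).symm :
      EtCoh.bc f ⋙ EtCoh.bc g ≅ EtCoh.bc (g ≫ f))
    (ModuleCat.{u + 1} Λ) Y.smallEtaleTopology X.smallEtaleTopology Z.smallEtaleTopology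

/-- inverse images compose -/
noncomputable def pullCompMod {X Y Z : Scheme.{u}} (h : X ⟶ Y) (f : Y ⟶ Z) :
    EtModW.pull Λ (h ≫ f) ≅ EtModW.pull Λ f ⋙ EtModW.pull Λ h :=
  Adjunction.leftAdjointUniq (pullPushMod (h ≫ f))
    (((pullPushMod f).comp (pullPushMod h)).ofNatIsoRight (pushCompMod f h))

/-- `(f^{-1} G)_ξ ≅ G_{f ξ}` -/
noncomputable def stalkPullMod {X Y : Scheme.{u}} {Ω : Type u} [Field Ω] [IsSepClosed Ω] (f : X ⟶ Y)
    (ξ : Spec (CommRingCat.of Ω) ⟶ X) : EtModW.pull Λ f ⋙ EtModW.stalk Λ ξ ≅ EtModW.stalk Λ (ξ ≫ f) :=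
  EtFound.sheafFiberPullIso (A := ModuleCat.{u + 1} Λ) f ξ

/-- inverse image is left exact -/
instance pull_preservesFiniteLimits {X Y : Scheme.{u}} (f : X ⟶ Y) :
    PreservesFiniteLimits (EtModW.pull Λ f) := by
  constructor
  intro J _ _
  constructor
  intro K
  constructor
  intro c hc
  refine ⟨IsLimit.ofPointIso (limit.isLimit _) (i := (isIso_iff_stalks _).2 fun Ω _ _ ξ => ?_)⟩
  have h1 : IsLimit ((EtModW.stalk Λ ξ).mapCone ((EtModW.pull Λ f).mapCone c)) := by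
    have : PreservesFiniteLimits (EtModW.pull Λ f ⋙ EtModW.stalk Λ ξ) :=
      preservesFiniteLimits_of_natIso (stalkPullMod f ξ).symm
    exact isLimitOfPreserves (EtModW.pull Λ f ⋙ EtModW.stalk Λ ξ) hc
  let α := (limit.isLimit (K ⋙ EtModW.pull Λ f)).lift ((EtModW.pull Λ f).mapCone c)
  let φ : (EtModW.stalk Λ ξ).mapCone ((EtModW.pull Λ f).mapCone c) ⟶
      (EtModW.stalk Λ ξ).mapCone (limit.cone (K ⋙ EtModW.pull Λ f)) :=
    { hom := (EtModW.stalk Λ ξ).map α
      w := fun j => by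
        change (EtModW.stalk Λ ξ).map α ≫ (EtModW.stalk Λ ξ).map _ = (EtModW.stalk Λ ξ).map _
        rw [← Functor.map_comp]
        exact congrArg _ (limit.lift_π _ j) }
  have : IsIso φ := IsLimit.hom_isIso h1 (isLimitOfPreserves (EtModW.stalk Λ ξ) (limit.isLimit _)) φ
  exact inferInstanceAs (IsIso ((Cone.forget _).map φ))

/-- finite type local constancy transports along isomorphisms -/
theorem isFTLocConst_of_iso {X : Scheme.{u}} {F G : EtModW.Mod Λ X} (e : F ≅ G)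
    (h : EtModW.IsFTLocConst Λ F) : EtModW.IsFTLocConst Λ G := by
  obtain ⟨ι, U, hU, hF⟩ := h
  refine ⟨ι, U, hU, fun i => ?_⟩
  obtain ⟨M, iM, iM', fM, ⟨a⟩⟩ := hF i
  exact ⟨M, iM, iM', fM,
    ⟨((X.smallEtaleTopology.overPullback (ModuleCat.{u + 1} Λ) (U i)).mapIso e).symm ≪≫ a⟩⟩

/-- inverse image preserves finite type local constancy -/
theorem isFTLocConst_pull {X Y : Scheme.{u}} (f : X ⟶ Y) {G : EtModW.Mod Λ Y}
    (h : EtModW.IsFTLocConst Λ G) : EtModW.IsFTLocConst Λ ((EtModW.pull Λ f).obj G) := by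
  obtain ⟨ι, U, hU, hG⟩ := h
  refine ⟨ι, _, EtFound.covers_bc f hU, fun i => ?_⟩
  obtain ⟨M, iM, iM', fM, e⟩ := hG i
  exact ⟨M, iM, iM', fM, EtFound.nonempty_restr_pull_iso f e⟩

end Groth.Agent.EtModLC71
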