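import Groth.Prelude.Def_EtModW
import Groth.Agent.EtModLC71.Pull

/-!
# Inverse images commute with the passage from the etale to the pro-etale site
-/

universe u

open CategoryTheory CategoryTheory.Limits AlgebraicGeometry Opposite

namespace Groth.Agent.EtModLC71

set_option backward.isDefEq.respectTransparency.types false

variable {Λ : Type (u + 1)} [CommRing Λ] {T X : Scheme.{u}} (g : T ⟶ X)

/-- `f^{-1}` on pro-etale sheaves of modules -/
noncomputable abbrev pullModP [ProEtS.PCont g] : EtModW.ModP Λ X ⥤ EtModW.ModP Λ T :=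
  (ProEtS.bcP g).sheafPullback (ModuleCat.{u + 1} Λ) (Scheme.ProEt.topology X) (Scheme.ProEt.topology T)

/-- the base changes agree on the sites -/
noncomputable def epsBcIso : EtCoh.bc g ⋙ ProEtS.eps T ≅ ProEtS.eps X ⋙ ProEtS.bcP g :=
  NatIso.ofComponents (fun U => MorphismProperty.Over.isoMk (Iso.refl _) (by exact Category.id_comp _)) fun {U V} a => by
    apply MorphismProperty.Over.Hom.ext
    exact (Category.comp_id _).trans (Category.id_comp _).symm

/-- `ε⁻¹ g⁻¹ ≅ g⁻¹ ε⁻¹` -/
noncomputable def epsPullBC [ProEtS.EpsCont T] [ProEtS.EpsCont X] [ProEtS.PCont g] :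
    EtModW.pull Λ g ⋙ EtModW.epsPullMod Λ T ≅ EtModW.epsPullMod Λ X ⋙ pullModP (Λ := Λ) g :=
  have : (ProEtS.eps X ⋙ ProEtS.bcP g).IsContinuous X.smallEtaleTopology (Scheme.ProEt.topology T) :=
    Functor.isContinuous_comp _ _ _ (Scheme.ProEt.topology X) _
  have : (EtCoh.bc g ⋙ ProEtS.eps T).IsContinuous X.smallEtaleTopology (Scheme.ProEt.topology T) :=
    Functor.isContinuous_of_iso (epsBcIso g).symm _ _
  let a₁ := (pullPushMod (Λ := Λ) g).comp
    ((ProEtS.eps T).sheafAdjunctionContinuous (ModuleCat.{u + 1} Λ) T.smallEtaleTopology (Scheme.ProEt.topology T))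
  let a₂ := ((ProEtS.eps X).sheafAdjunctionContinuous (ModuleCat.{u + 1} Λ) X.smallEtaleTopology (Scheme.ProEt.topology X)).comp
    ((ProEtS.bcP g).sheafAdjunctionContinuous (ModuleCat.{u + 1} Λ) (Scheme.ProEt.topology X) (Scheme.ProEt.topology T))
  let i1 := Functor.sheafPushforwardContinuousComp' (F := EtCoh.bc g) (G := ProEtS.eps T)
    (FG := ProEtS.eps X ⋙ ProEtS.bcP g) (epsBcIso g) (ModuleCat.{u + 1} Λ) X.smallEtaleTopology T.smallEtaleTopology
    (Scheme.ProEt.topology T)
  let i2 := Functor.sheafPushforwardContinuousComp' (F := ProEtS.eps X) (G := ProEtS.bcP g)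
    (FG := ProEtS.eps X ⋙ ProEtS.bcP g) (Iso.refl _) (ModuleCat.{u + 1} Λ) X.smallEtaleTopology (Scheme.ProEt.topology X)
    (Scheme.ProEt.topology T)
  Adjunction.leftAdjointUniq (a₁.ofNatIsoRight (i1 ≪≫ i2.symm)) a₂

end Groth.Agent.EtModLC71
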