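import Groth.Agent.EtModLC71.AdicP
import Groth.Agent.EtModLC71.AdicStrata
import Groth.Agent.EtModLC71.EpsBC

/-!
# Strata of adic pro-etale sheaves
-/

universe u

open CategoryTheory CategoryTheory.Limits AlgebraicGeometry Opposite ARSys Groth.Agent.ARLib

namespace Groth.Agent.EtModLC71

set_option backward.isDefEq.respectTransparency.types false

variable {Λ : Type (u + 1)} [CommRing Λ] {X : Scheme.{u}} [ProEtS.EpsCont X] {I : Ideal Λ}

/-- a system whose pull back is adic is adic -/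
theorem isAdic_of_eps_iso {G : PS (EtModW.Mod Λ X)} {Q : PS (EtModW.ModP Λ X)}
    (e : G ⋙ EtModW.epsPullMod Λ X ≅ Q) (hA : IsAdic I Q) : IsAdic I G := by
  refine ⟨fun n a ha => epsFF.map_injective ?_, fun n m h => isQuot_reflect ?_⟩
  · rw [Functor.map_smul, CategoryTheory.Functor.map_id, Functor.map_zero]
    exact ARLib.killedBy_of_epi (hA.1 n) (e.app (op n)).inv a ha
  · have h2 : (EtModW.epsPullMod Λ X).map (tr G h) = (e.hom.app (op m) ≫ tr Q h) ≫ e.inv.app (op n) := by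
      rw [← tr_naturality e.hom h, Category.assoc]
      simp only [Iso.hom_inv_id_app]
      exact (Category.comp_id _).symm
    rw [h2]
    refine isQuot_of_iso_tgt ⟨(hA.2 n m h).1, fun T φ hφ => ?_⟩ (e.app (op n)).symm
    obtain ⟨ψ, hψ, huniq⟩ := (hA.2 n m h).2 T (e.inv.app (op m) ≫ φ) fun a ha => by
      rw [← Linear.comp_smul, hφ a ha, comp_zero]
    refine ⟨ψ, (Category.assoc _ _ _).trans ((congrArg (e.hom.app (op m) ≫ ·) hψ).trans
      (Iso.hom_inv_id_app_assoc e (op m) φ)), fun k hk => huniq k ?_⟩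
    rw [← hk, Category.assoc, Iso.inv_hom_id_app_assoc]

/-- the tower of quotients comes from an adic system of constructible sheaves -/
theorem exists_adic_system {F : EtModW.ModP Λ X} {Q : PS (EtModW.ModP Λ X)} (p : (Functor.const ℕᵒᵖ).obj F ⟶ Q)
    (hQ : ∀ n : ℕ, IsQuot (I ^ (n + 1)) (p.app (op n)))
    (hc : ∀ n : ℕ, ∃ E : EtModW.Mod Λ X, EtModW.IsConstructible Λ E ∧
      Nonempty ((EtModW.epsPullMod Λ X).obj E ≅ Q.obj (op n))) :
    ∃ G : PS (EtModW.Mod Λ X), IsAdic I G ∧ (∀ n : ℕ, EtModW.IsConstructible Λ (G.obj (op n))) ∧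
      Nonempty (G ⋙ EtModW.epsPullMod Λ X ≅ Q) := by
  obtain ⟨G, hGc, ⟨e⟩⟩ := exists_system hc
  exact ⟨G, isAdic_of_eps_iso e (isAdic_of_quot_tower p hQ), hGc, ⟨e⟩⟩

/-- lissity transfers to the pro-etale site -/
theorem exists_lisse_of_iso {T : Scheme.{u}} (g : T ⟶ X) [ProEtS.EpsCont T] [ProEtS.PCont g]
    {G : PS (EtModW.Mod Λ X)} {Q : PS (EtModW.ModP Λ X)} (e : G ⋙ EtModW.epsPullMod Λ X ≅ Q) {n : ℕ}
    (h : EtModW.IsFTLocConst Λ ((EtModW.pull Λ g).obj (G.obj (op n)))) :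
    ∃ E : EtModW.Mod Λ T, EtModW.IsFTLocConst Λ E ∧
      Nonempty ((EtModW.epsPullMod Λ T).obj E ≅ (pullModP (Λ := Λ) g).obj (Q.obj (op n))) :=
  ⟨_, h, ⟨(epsPullBC (Λ := Λ) g).app (G.obj (op n)) ≪≫ (pullModP (Λ := Λ) g).mapIso (e.app (op n))⟩⟩

end Groth.Agent.EtModLC71
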