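import Groth.Agent.EtModLC71.RecollMod
import Groth.Agent.EtModLC71.EpsMod
import Groth.Agent.EtFound.PushImm
import Groth.Agent.EtFound.CoprodSections
import Groth.Prelude.Def_EtShriek2

/-!
# Direct images along closed immersions commute with the passage to the pro-etale site
-/

universe u

open CategoryTheory CategoryTheory.Limits AlgebraicGeometry Opposite

namespace Groth.Agent.EtModLC71

set_option backward.isDefEq.respectTransparency.types false

/-- composition with a weakly etale morphism is continuous -/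
theorem jpCont {U X : Scheme.{u}} (j : U ⟶ X) [WeaklyEtale j] : ProEtS.JPCont j := by
  have : (Scheme.ProEt.precoverage X).IsStableUnderBaseChange := by
    unfold Scheme.ProEt.precoverage; infer_instance
  have : (Scheme.ProEt.precoverage U).IsStableUnderBaseChange := by
    unfold Scheme.ProEt.precoverage; infer_instance
  have : (Scheme.ProEt.precoverage X).HasPullbacks := by
    unfold Scheme.ProEt.precoverage; infer_instance
  have : (Scheme.ProEt.precoverage U).HasPullbacks := by
    unfold Scheme.ProEt.precoverage; infer_instance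
  have : IsConnected WalkingCospan := inferInstance
  have : PreservesLimitsOfShape WalkingCospan ((ProEtS.compP j ⋙ Scheme.ProEt.forget X) ⋙ Over.forget X) :=
    preservesLimitsOfShape_of_natIso
      (NatIso.ofComponents (fun _ => Iso.refl _) (by cat_disch) :
        Scheme.ProEt.forget U ⋙ Over.forget U ≅ (ProEtS.compP j ⋙ Scheme.ProEt.forget X) ⋙ Over.forget X)
  have : PreservesLimitsOfShape WalkingCospan (ProEtS.compP j ⋙ Scheme.ProEt.forget X) :=
    preservesLimitsOfShape_of_reflects_of_preserves _ (Over.forget X)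
  have : PreservesLimitsOfShape WalkingCospan (ProEtS.compP j) :=
    preservesLimitsOfShape_of_reflects_of_preserves _ (Scheme.ProEt.forget X)
  refine Functor.isContinuous_toGrothendieck_of_pullbacksPreservedBy (F := ProEtS.compP j)
    (J := Scheme.ProEt.precoverage U) (K := Scheme.ProEt.precoverage X) ?_
  intro V R hR
  obtain ⟨ι, W, g, rfl⟩ := R.exists_eq_ofArrows
  rw [ProEtLib.ofArrows_mem_precoverage_iff] at hR
  rw [Precoverage.mem_comap_iff, Presieve.map_ofArrows, ProEtLib.ofArrows_mem_precoverage_iff]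
  exact hR

variable {Λ : Type (u + 1)} [CommRing Λ]

theorem isZero_of_subsingleton {C : Type*} [Category C] {J : GrothendieckTopology C}
    (F : Sheaf J (ModuleCat.{u + 1} Λ)) (h : ∀ V, Subsingleton (F.obj.obj V)) : IsZero F :=
  (IsZero.iff_id_eq_zero F).2 (Sheaf.hom_ext (NatTrans.ext (funext fun V =>
    ModuleCat.hom_ext (LinearMap.ext fun _ => @Subsingleton.elim _ (h V) _ _))))

/-- the sections of an etale sheaf over an empty scheme are trivial -/
theorem subsingleton_sect_of_isEmpty {X : Scheme.{u}} (E : EtModW.Mod Λ X) (T : X.Etale) [IsEmpty T.left] :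
    Subsingleton (E.obj.obj (op T)) :=
  EtFound.subsingleton_sections_of_isEmpty
    ((sheafCompose X.smallEtaleTopology (forget₂ (ModuleCat.{u + 1} Λ) AddCommGrpCat.{u + 1})).obj E) T

/-- direct images vanish on the open complement -/
theorem isZero_pull_push {U Z X : Scheme.{u}} (j : U ⟶ X) [IsOpenImmersion j] (i : Z ⟶ X)
    (h : Disjoint (Set.range j.base) (Set.range i.base)) (E : EtModW.Mod Λ Z) :
    IsZero ((EtModW.pull Λ j).obj ((EtModW.push Λ i).obj E)) := by
  let adj : EtShriek.compEtale j ⊣ EtCoh.bc j :=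
    MorphismProperty.Over.mapPullbackAdj EtCoh.etaleMP.{u} ⊤ j (inferInstance : Etale j) trivial
  have : EtShriek.JCont j := inferInstance
  let restr := (EtShriek.compEtale j).sheafPushforwardContinuous (ModuleCat.{u + 1} Λ) U.smallEtaleTopology X.smallEtaleTopology
  let e : restr ≅ EtModW.pull Λ j := Adjunction.leftAdjointUniq
    (adj.sheafPushforwardContinuous (E := ModuleCat.{u + 1} Λ) U.smallEtaleTopology X.smallEtaleTopology)
    (pullPushMod j)
  refine IsZero.of_iso ?_ (e.app _).symm
  refine isZero_of_subsingleton _ fun ⟨V⟩ => ?_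
  have : IsEmpty ((EtCoh.bc i).obj ((EtShriek.compEtale j).obj V)).left := ⟨fun z =>
    Set.disjoint_left.1 h ⟨V.hom.base ((pullback.fst (V.hom ≫ j) i).base z), rfl⟩
      ⟨(pullback.snd (V.hom ≫ j) i).base z,
        (congrArg (fun q : pullback (V.hom ≫ j) i ⟶ X => q.base z) pullback.condition).symm⟩⟩
  exact @subsingleton_sect_of_isEmpty _ _ _ E ((EtCoh.bc i).obj ((EtShriek.compEtale j).obj V)) this

variable {Z X : Scheme.{u}} (i : Z ⟶ X) [IsClosedImmersion i] [ProEtS.EpsCont Z] [ProEtS.EpsCont X] [ProEtS.PCont i]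

/-- `ε⁻¹ i_* ≅ i_* ε⁻¹` for closed immersions with retrocompact complement -/
theorem nonempty_epsPush_closed (hr : IsRetrocompact (Set.range i.base)ᶜ) (E : EtModW.Mod Λ Z) :
    Nonempty ((EtModW.epsPullMod Λ X).obj ((EtModW.push Λ i).obj E) ≅
      (pushModP (Λ := Λ) i).obj ((EtModW.epsPullMod Λ Z).obj E)) := by
  let F := (EtModW.epsPullMod Λ X).obj ((EtModW.push Λ i).obj E)
  let Xo : X.Opens := ⟨(Set.range i.base)ᶜ, i.isClosedEmbedding.isClosed_range.isOpen_compl⟩
  let j := Xo.ι
  have : ProEtS.PCont j := ProEtLib.pCont j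
  have : ProEtS.JPCont j := jpCont j
  have : ProEtS.EpsCont Xo.toScheme := ProEtLib.epsCont _
  have hrange : Set.range j.base = (Set.range i.base)ᶜ := Scheme.Opens.range_ι Xo
  have hz : IsZero ((RecollMod.restrModP (Λ := Λ) j).obj F) := by
    refine IsZero.of_iso ?_ ((RecollMod.restrIsoPull (Λ := Λ) j).app F ≪≫ ((epsPullBC (Λ := Λ) j).app _).symm)
    exact (EtModW.epsPullMod Λ Xo.toScheme).map_isZero
      (isZero_pull_push j i (Set.disjoint_left.2 fun x hx => hrange.le hx) E)
  have hF : ∀ V : X.ProEt, Set.range V.hom.base ⊆ (Set.range i.base)ᶜ →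
      Subsingleton (F.obj.obj (op V)) ∧ Nonempty (F.obj.obj (op V)) := fun V hV => by
    refine ⟨?_, ⟨0⟩⟩
    obtain ⟨V₀, ⟨e⟩⟩ := exists_compP_iso j (hV.trans hrange.ge)
    have : Subsingleton (F.obj.obj (op ((ProEtS.compP j).obj V₀))) :=
      ModuleCat.subsingleton_of_isZero
        ((sheafToPresheaf _ _ ⋙ (evaluation _ (ModuleCat.{u + 1} Λ)).obj (op V₀)).map_isZero hz)
    exact (F.obj.mapIso e.op).toLinearEquiv.injective.subsingleton
  have hu : IsIso ((RecollMod.pullPushAdjModP (Λ := Λ) i).unit.app F) := isIso_unit_of_supported _ hr F hF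
  have hc := EtFound.counit_isIso (A := ModuleCat.{u + 1} Λ) i (EtFound.liftable_of_isClosedImmersion i) E
  exact ⟨@asIso _ _ _ _ _ hu ≪≫ (pushModP (Λ := Λ) i).mapIso (((epsPullBC (Λ := Λ) i).app _).symm ≪≫
    (EtModW.epsPullMod Λ Z).mapIso (@asIso _ _ _ _ _ hc))⟩

end Groth.Agent.EtModLC71
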