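import Groth.Agent.EtModLC71.ExtZeroLimits
import Groth.Agent.EtModLC71.EpsMod
import Groth.Prelude.Def_ARSys

/-!
# Extension by zero on pro-etale sheaves of modules: quotients, comparison with the etale site
-/

universe u

open CategoryTheory CategoryTheory.Limits AlgebraicGeometry Opposite ARSys

namespace Groth.Agent.EtModLC71

set_option backward.isDefEq.respectTransparency.types false

/-- left adjoints of linear functors preserve quotient maps modulo any ideal -/
theorem isQuot_of_adjunction {A : Type*} [CommRing A] {C D : Type*} [Category C] [Category D] [Preadditive C]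
    [Preadditive D] [Linear A C] [Linear A D] {L : C ⥤ D} {R : D ⥤ C} [R.Additive] [Functor.Linear A R]
    (adj : L ⊣ R) {J : Ideal A} {F Q : C} {p : F ⟶ Q} (hp : IsQuot J p) : IsQuot J (L.map p) := by
  have hlin : ∀ (a : A) {X : C} {Y : D} (f : L.obj X ⟶ Y), adj.homEquiv X Y (a • f) = a • adj.homEquiv X Y f :=
    fun a X Y f => by
      rw [adj.homEquiv_unit, adj.homEquiv_unit, Functor.map_smul, Linear.comp_smul]
  have h0 : ∀ {X : C} {Y : D}, adj.homEquiv X Y 0 = 0 := fun {X Y} => by
    rw [adj.homEquiv_unit, Functor.map_zero, comp_zero]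
  refine ⟨fun a ha => (adj.homEquiv _ _).injective ?_, fun T φ hφ => ?_⟩
  · rw [h0, hlin, adj.homEquiv_unit, CategoryTheory.Functor.map_id]
    erw [Category.comp_id]
    have := congrArg (· ≫ adj.unit.app Q) (hp.1 a ha)
    simpa [Linear.smul_comp] using this
  · have hk : ∀ a ∈ J, a • adj.homEquiv _ _ φ = 0 := fun a ha => by rw [← hlin, hφ a ha, h0]
    obtain ⟨ψ, hψ, huniq⟩ := hp.2 _ (adj.homEquiv _ _ φ) hk
    refine ⟨(adj.homEquiv _ _).symm ψ, ?_, fun m hm => ?_⟩
    · show L.map p ≫ _ = φ
      rw [← adj.homEquiv_naturality_left_symm, hψ, Equiv.symm_apply_apply]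
    · rw [Equiv.eq_symm_apply]
      refine huniq _ ?_
      show p ≫ _ = _
      rw [← adj.homEquiv_naturality_left, hm]

variable {Λ : Type (u + 1)} [CommRing Λ] {U X : Scheme.{u}} (j : U ⟶ X)

instance restrModP_linear [WeaklyEtale j] [ProEtS.JPCont j] : Functor.Linear Λ (RecollMod.restrModP (Λ := Λ) j) where
  map_smul _ _ := rfl

/-- `ε⁻¹ j_! ≅ j_! ε⁻¹` -/
theorem nonempty_epsExtZero [hje : Etale j] [WeaklyEtale j] [ProEtS.JPCont j] [ProEtS.EpsCont U] [ProEtS.EpsCont X]
    [(MorphismProperty.Over.map (P := EtCoh.etaleMP.{u}) ⊤ (f := j) hje).IsContinuous U.smallEtaleTopology X.smallEtaleTopology]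
    [((MorphismProperty.Over.map (P := EtCoh.etaleMP.{u}) ⊤ (f := j) hje).sheafPushforwardContinuous (ModuleCat.{u + 1} Λ) U.smallEtaleTopology X.smallEtaleTopology).IsRightAdjoint]
    (E : EtModW.Mod Λ U) :
    Nonempty ((EtModW.epsPullMod Λ X).obj (((MorphismProperty.Over.map (P := EtCoh.etaleMP.{u}) ⊤ (f := j) hje).sheafPullback (ModuleCat.{u + 1} Λ) U.smallEtaleTopology X.smallEtaleTopology).obj E) ≅
      (RecollMod.extZeroModP (Λ := Λ) j).obj ((EtModW.epsPullMod Λ U).obj E)) := by
  have hc : EtShriek.JCont j :=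
    (inferInstance : (MorphismProperty.Over.map (P := EtCoh.etaleMP.{u}) ⊤ (f := j) hje).IsContinuous U.smallEtaleTopology X.smallEtaleTopology)
  have hr : ((EtShriek.compEtale j).sheafPushforwardContinuous (ModuleCat.{u + 1} Λ) U.smallEtaleTopology X.smallEtaleTopology).IsRightAdjoint :=
    (inferInstance : ((MorphismProperty.Over.map (P := EtCoh.etaleMP.{u}) ⊤ (f := j) hje).sheafPushforwardContinuous (ModuleCat.{u + 1} Λ) U.smallEtaleTopology X.smallEtaleTopology).IsRightAdjoint)
  let e : ProEtS.eps U ⋙ ProEtS.compP j ≅ (EtShriek.compEtale j) ⋙ ProEtS.eps X :=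
    NatIso.ofComponents (fun V => MorphismProperty.Over.isoMk (Iso.refl _) (Category.id_comp _))
      (fun g => MorphismProperty.Over.Hom.ext ((Category.comp_id _).trans (Category.id_comp _).symm))
  have := Functor.isContinuous_comp (ProEtS.eps U) (ProEtS.compP j) U.smallEtaleTopology
    (Scheme.ProEt.topology U) (Scheme.ProEt.topology X)
  let r := (EtShriek.compEtale j).sheafPushforwardContinuous (ModuleCat.{u + 1} Λ) U.smallEtaleTopology X.smallEtaleTopology
  let i : RecollMod.restrModP (Λ := Λ) j ⋙ (ProEtS.eps U).sheafPushforwardContinuous (ModuleCat.{u + 1} Λ) U.smallEtaleTopology (Scheme.ProEt.topology U) ≅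
      (ProEtS.eps X).sheafPushforwardContinuous (ModuleCat.{u + 1} Λ) X.smallEtaleTopology (Scheme.ProEt.topology X) ⋙ r :=
    Functor.sheafPushforwardContinuousComp _ _ (ModuleCat.{u + 1} Λ) _ _ _ ≪≫
      (Functor.sheafPushforwardContinuousComp' e.symm (ModuleCat.{u + 1} Λ) U.smallEtaleTopology
        X.smallEtaleTopology (Scheme.ProEt.topology X)).symm
  exact ⟨((Adjunction.leftAdjointUniq
    ((epsAdjMod (Λ := Λ) (X := U)).comp (RecollMod.extZeroAdjModP (Λ := Λ) j))
    ((((EtShriek.compEtale j).sheafAdjunctionContinuous (ModuleCat.{u + 1} Λ) U.smallEtaleTopology X.smallEtaleTopology).comp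
      (epsAdjMod (Λ := Λ) (X := X))).ofNatIsoRight i.symm)).app E).symm⟩

end Groth.Agent.EtModLC71
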