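import Groth.Agent.EtModLC71.RecollMod
import Groth.Agent.EtModLC71.EpsClosed
import Groth.Agent.EtModLC71.EpsOpen
import Groth.Agent.EtModLC71.Constr
import Groth.Agent.EtModLC71.AdicP
import Groth.Agent.ProEtLib.WC

/-!
# Pro-etale sheaves of modules coming from the etale site: strata and locality
-/

universe u

open CategoryTheory CategoryTheory.Limits AlgebraicGeometry Opposite

namespace Groth.Agent.EtModLC71.Classical

set_option backward.isDefEq.respectTransparency.types false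
set_option linter.unusedSectionVars false

variable {Λ : Type (u + 1)} [CommRing Λ] [∀ T : Scheme.{u}, ProEtS.EpsCont T]
  [hP : ∀ (A B : Scheme.{u}) (f : A ⟶ B), ProEtS.PCont f]

/-- in the essential image of `ε⁻¹` -/
def IsCl {X : Scheme.{u}} (F : EtModW.ModP Λ X) : Prop :=
  ∃ E : EtModW.Mod Λ X, Nonempty ((EtModW.epsPullMod Λ X).obj E ≅ F)

theorem IsCl.of_iso {X : Scheme.{u}} {F G : EtModW.ModP Λ X} (e : F ≅ G) (h : IsCl F) : IsCl G := by
  obtain ⟨E, ⟨i⟩⟩ := h
  exact ⟨E, ⟨i ≪≫ e⟩⟩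

theorem IsCl.of_shortExact {X : Scheme.{u}} {S : ShortComplex (EtModW.ModP Λ X)} (hS : S.ShortExact)
    (h₁ : IsCl S.X₁) (h₃ : IsCl S.X₃) : IsCl S.X₂ := by
  have := isWeakSerre_epsImage (Λ := Λ) (X := X) ⊤
  obtain ⟨E, hE⟩ := h₁
  obtain ⟨E', hE'⟩ := h₃
  obtain ⟨G, -, hG⟩ := ObjectProperty.prop_X₂_of_shortExact
    (fun F : EtModW.ModP Λ X => ∃ G : EtModW.Mod Λ X, (⊤ : ObjectProperty (EtModW.Mod Λ X)) G ∧
      Nonempty ((EtModW.epsPullMod Λ X).obj G ≅ F)) hS ⟨E, trivial, hE⟩ ⟨E', trivial, hE'⟩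
  exact ⟨G, hG⟩

theorem IsCl.pull {T X : Scheme.{u}} (g : T ⟶ X) {F : EtModW.ModP Λ X} (h : IsCl F) :
    IsCl ((pullModP (Λ := Λ) g).obj F) := by
  obtain ⟨E, ⟨i⟩⟩ := h
  exact ⟨_, ⟨(epsPullBC (Λ := Λ) g).app E ≪≫ (pullModP (Λ := Λ) g).mapIso i⟩⟩

/-- inverse images compose -/
noncomputable def pullCompP {A B C : Scheme.{u}} (h : A ⟶ B) (f : B ⟶ C) :
    pullModP (Λ := Λ) (h ≫ f) ≅ pullModP (Λ := Λ) f ⋙ pullModP (Λ := Λ) h :=
  Adjunction.leftAdjointUniq (RecollMod.pullPushAdjModP (Λ := Λ) (h ≫ f))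
    (((RecollMod.pullPushAdjModP (Λ := Λ) f).comp (RecollMod.pullPushAdjModP (Λ := Λ) h)).ofNatIsoRight
      (Functor.sheafPushforwardContinuousComp' (F := ProEtS.bcP f) (G := ProEtS.bcP h) (FG := ProEtS.bcP (h ≫ f))
        ((MorphismProperty.Over.pullbackComp (P := @WeaklyEtale) (Q := ⊤) h f).symm :
          ProEtS.bcP f ⋙ ProEtS.bcP h ≅ ProEtS.bcP (h ≫ f))
        (ModuleCat.{u + 1} Λ) (Scheme.ProEt.topology C) (Scheme.ProEt.topology B) (Scheme.ProEt.topology A)))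

theorem pullCongrP {A B : Scheme.{u}} {f g : A ⟶ B} (e : f = g) (F : EtModW.ModP Λ B)
    (h : IsCl ((pullModP (Λ := Λ) f).obj F)) : IsCl ((pullModP (Λ := Λ) g).obj F) := by
  subst e
  exact h

/-- a sheaf on an empty scheme -/
theorem isCl_of_isEmpty {X : Scheme.{u}} [IsEmpty X] (F : EtModW.ModP Λ X) : IsCl F := by
  have hF : IsZero F := isZero_of_subsingleton F fun ⟨V⟩ => by
    have : IsEmpty V.left := ⟨fun x => isEmptyElim (α := X) (V.hom.base x)⟩
    exact ProEtLib.subsingleton_of_isEmpty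
      ((sheafCompose (Scheme.ProEt.topology X) (forget (ModuleCat.{u + 1} Λ))).obj F) V
  obtain ⟨Z, hZ⟩ := HasZeroObject.zero (C := EtModW.Mod Λ X)
  exact ⟨Z, ⟨((EtModW.epsPullMod Λ X).map_isZero hZ).iso hF⟩⟩

/-- strata: sheaves which come from the etale site on pieces cut out by finitely many opens -/
theorem isCl_of_opens {X : Scheme.{u}} (F : EtModW.ModP Λ X) {κ : Type*} (T : κ → Scheme.{u})
    (g : ∀ k, T k ⟶ X) [∀ k, IsImmersion (g k)] (hT : ∀ k, IsCl ((pullModP (Λ := Λ) (g k)).obj F))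
    (hcov : ∀ x, ∃ k, x ∈ Set.range (g k).base) [QuasiSeparatedSpace X] :
    ∀ (L : List (Set X)), (∀ O ∈ L, IsOpen O ∧ IsCompact O) →
      ∀ (Y : Scheme.{u}) (h : Y ⟶ X) [IsImmersion h] [QuasiCompact h],
        (∀ y y' : Y, (∀ O ∈ L, (h.base y ∈ O ↔ h.base y' ∈ O)) →
          ∀ k, h.base y ∈ Set.range (g k).base → h.base y' ∈ Set.range (g k).base) →
        IsCl ((pullModP (Λ := Λ) h).obj F) := by
  intro L
  induction L with
  | nil =>
    intro _ Y h _ _ hdet
    by_cases hY : IsEmpty Y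
    · exact isCl_of_isEmpty _
    obtain ⟨y₀⟩ := not_isEmpty_iff.1 hY
    obtain ⟨k, hk⟩ := hcov (h.base y₀)
    let p := pullback.fst h (g k)
    have hp : Set.range p.base = Set.univ := by
      rw [Scheme.Pullback.range_fst]
      exact Set.eq_univ_of_forall fun y => hdet y₀ y (by simp) k hk
    have : IsClosedImmersion p := IsClosedImmersion.of_isPreimmersion p (hp ▸ isClosed_univ)
    have hr : IsRetrocompact (Set.range p.base)ᶜ := by
      rw [hp, Set.compl_univ]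
      exact fun s hs _ => by simp
    let G := (pullModP (Λ := Λ) h).obj F
    have hu : IsIso ((RecollMod.pullPushAdjModP (Λ := Λ) p).unit.app G) := isIso_unit_of_supported _ hr G fun V hV => by
      have : IsEmpty V.left := ⟨fun v => by
        have := hV ⟨v, rfl⟩
        rw [hp, Set.compl_univ] at this
        exact this⟩
      exact ⟨ProEtLib.subsingleton_of_isEmpty
        ((sheafCompose (Scheme.ProEt.topology Y) (forget (ModuleCat.{u + 1} Λ))).obj G) V, ⟨0⟩⟩
    have h1 : IsCl ((pullModP (Λ := Λ) (pullback.snd h (g k) ≫ g k)).obj F) :=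
      ((hT k).pull (pullback.snd h (g k))).of_iso ((pullCompP (Λ := Λ) _ _).app F).symm
    have h2 : IsCl ((pullModP (Λ := Λ) p).obj G) :=
      (pullCongrP pullback.condition.symm F h1).of_iso ((pullCompP (Λ := Λ) p h).app F)
    obtain ⟨E, ⟨e⟩⟩ := h2
    obtain ⟨c⟩ := nonempty_epsPush_closed p hr E
    exact ⟨_, ⟨c ≪≫ (pushModP (Λ := Λ) p).mapIso e ≪≫ (@asIso _ _ _ _ _ hu).symm⟩⟩
  | cons O L ih =>
    intro hL Y h _ _ hdet
    obtain ⟨hO, hOc⟩ := hL O (List.mem_cons_self ..)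
    let W : Y.Opens := ⟨h.base ⁻¹' O, hO.preimage h.continuous⟩
    have hWc : IsCompact (W : Set Y) := h.isCompact_preimage (U := ⟨O, hO⟩) hOc
    have hYqs : QuasiSeparatedSpace Y := quasiSeparatedSpace_of_quasiSeparated h
    let Zc : TopologicalSpace.Closeds Y := ⟨(W : Set Y)ᶜ, W.2.isClosed_compl⟩
    let i := (Scheme.IdealSheafData.vanishingIdeal Zc).subschemeι
    have hi : Set.range i.base = (W : Set Y)ᶜ := by
      erw [Scheme.IdealSheafData.range_subschemeι, Scheme.IdealSheafData.coe_support_vanishingIdeal]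
      rfl
    have hc : Set.range W.ι.base = (Set.range i.base)ᶜ := by
      rw [hi, compl_compl]; exact W.range_ι
    have hr : IsRetrocompact (Set.range i.base)ᶜ := by
      rw [hi, compl_compl]; exact hWc.isRetrocompact W.2
    have : CompactSpace W.toScheme := isCompact_iff_compactSpace.1 hWc
    have : QuasiCompact W.ι := by
      refine ⟨fun U hU hUc => ?_⟩
      refine (W.ι.isOpenEmbedding.isInducing.isCompact_iff).2 ?_
      rw [Set.image_preimage_eq_inter_range]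
      exact QuasiSeparatedSpace.inter_isCompact _ _ hU hUc W.ι.isOpenEmbedding.isOpen_range
        (by rw [show Set.range W.ι.base = (W : Set Y) from W.range_ι]; exact hWc)
    have : ProEtS.JPCont W.ι := jpCont _
    let G := (pullModP (Λ := Λ) h).obj F
    have hL' : ∀ O' ∈ L, IsOpen O' ∧ IsCompact O' := fun O' h' => hL O' (List.mem_cons_of_mem _ h')
    have h₁ : IsCl ((pullModP (Λ := Λ) W.ι).obj G) := by
      refine (ih hL' W.toScheme (W.ι ≫ h) fun y y' hy k hk => ?_).of_iso ((pullCompP (Λ := Λ) W.ι h).app F)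
      refine hdet (W.ι.base y) (W.ι.base y') (fun O' hO' => ?_) k hk
      rcases List.mem_cons.1 hO' with rfl | hO'
      · exact iff_of_true (W.range_ι.le ⟨y, rfl⟩) (W.range_ι.le ⟨y', rfl⟩)
      · exact hy O' hO'
    have h₃ : IsCl ((pullModP (Λ := Λ) i).obj G) := by
      refine (ih hL' _ (i ≫ h) fun y y' hy k hk => ?_).of_iso ((pullCompP (Λ := Λ) i h).app F)
      refine hdet (i.base y) (i.base y') (fun O' hO' => ?_) k hk
      rcases List.mem_cons.1 hO' with rfl | hO'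
      · exact iff_of_false (hi.le ⟨y, rfl⟩) (hi.le ⟨y', rfl⟩)
      · exact hy O' hO'
    refine IsCl.of_shortExact (RecollMod.shortExact (i := i) (j := W.ι) hr hc G) ?_ ?_
    · obtain ⟨E, ⟨e⟩⟩ := h₁.of_iso ((RecollMod.restrIsoPull (Λ := Λ) W.ι).app G).symm
      have hje : Etale W.ι := inferInstance
      have : (MorphismProperty.Over.map (P := EtCoh.etaleMP.{u}) ⊤ (f := W.ι) hje).IsContinuous W.toScheme.smallEtaleTopology Y.smallEtaleTopology :=
        (inferInstance : EtShriek.JCont W.ι)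
      have : ((MorphismProperty.Over.map (P := EtCoh.etaleMP.{u}) ⊤ (f := W.ι) hje).sheafPushforwardContinuous (ModuleCat.{u + 1} Λ) W.toScheme.smallEtaleTopology Y.smallEtaleTopology).IsRightAdjoint :=
        (inferInstance : ((EtShriek.compEtale W.ι).sheafPushforwardContinuous (ModuleCat.{u + 1} Λ) W.toScheme.smallEtaleTopology Y.smallEtaleTopology).IsRightAdjoint)
      obtain ⟨c⟩ := nonempty_epsExtZero (Λ := Λ) W.ι E
      exact ⟨_, ⟨c ≪≫ (RecollMod.extZeroModP (Λ := Λ) W.ι).mapIso e⟩⟩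
    · obtain ⟨E, ⟨e⟩⟩ := h₃
      obtain ⟨c⟩ := nonempty_epsPush_closed i hr E
      exact ⟨_, ⟨c ≪≫ (pushModP (Λ := Λ) i).mapIso e⟩⟩

/-- strata on quasi-compact quasi-separated schemes -/
theorem isCl_of_strata {X : Scheme.{u}} [CompactSpace X] [QuasiSeparatedSpace X] (F : EtModW.ModP Λ X)
    {κ : Type*} [Finite κ] (T : κ → Scheme.{u})
    (g : ∀ k, T k ⟶ X) [∀ k, IsImmersion (g k)] (hT : ∀ k, IsCl ((pullModP (Λ := Λ) (g k)).obj F))
    (hcov : ∀ x, ∃ k, x ∈ Set.range (g k).base)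
    (hcon : ∀ k, Topology.IsConstructible (Set.range (g k).base)) : IsCl F := by
  classical
  choose S hS hS1 hS2 using fun k => EtFound.exists_opens_determining (hcon k)
  have hfin : (⋃ k, S k).Finite := Set.finite_iUnion hS
  have h := isCl_of_opens F T g hT hcov hfin.toFinset.toList (fun O hO => by
    obtain ⟨k, hk⟩ := Set.mem_iUnion.1 (hfin.mem_toFinset.1 (Finset.mem_toList.1 hO))
    exact ⟨(hS1 k O hk).1, by simpa using (hS1 k O hk).2 isCompact_univ isOpen_univ⟩) X (𝟙 X)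
    (fun y y' hy k hk => (hS2 k y y' fun U hU => hy U (Finset.mem_toList.2 (hfin.mem_toFinset.2
      (Set.mem_iUnion.2 ⟨k, hU⟩)))).1 hk)
  have hr : IsRetrocompact (Set.range (𝟙 X : X ⟶ X).base)ᶜ := by
    simp only [Scheme.Hom.id_base, TopCat.coe_id, Set.range_id, Set.compl_univ]
    exact fun s hs _ => by simp
  have hu := isIso_unit_of_supported (A := ModuleCat.{u + 1} Λ) (RecollMod.pullPushAdjModP (Λ := Λ) (𝟙 X))
    hr F fun V hV => by
      have : IsEmpty V.left := ⟨fun v => hV ⟨v, rfl⟩ ⟨_, rfl⟩⟩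
      exact ⟨ProEtLib.subsingleton_of_isEmpty
        ((sheafCompose (Scheme.ProEt.topology X) (forget (ModuleCat.{u + 1} Λ))).obj F) V, ⟨0⟩⟩
  obtain ⟨E, ⟨e⟩⟩ := h
  obtain ⟨c⟩ := nonempty_epsPush_closed (𝟙 X) hr E
  exact ⟨_, ⟨c ≪≫ (pushModP (Λ := Λ) (𝟙 X)).mapIso e ≪≫ (@asIso _ _ _ _ _ hu).symm⟩⟩

end Groth.Agent.EtModLC71.Classical
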