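import Groth.Agent.EtModLC71.Classical

/-!
# Coming from the etale site is local
-/

universe u

open CategoryTheory CategoryTheory.Limits AlgebraicGeometry Opposite

namespace Groth.Agent.EtModLC71.Classical

set_option backward.isDefEq.respectTransparency.types false
set_option linter.unusedSectionVars false

variable {Λ : Type (u + 1)} [CommRing Λ] [∀ T : Scheme.{u}, ProEtS.EpsCont T]
  [hP : ∀ (A B : Scheme.{u}) (f : A ⟶ B), ProEtS.PCont f]

/-- the counit restricts to an isomorphism over opens where the sheaf comes from the etale site -/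
theorem isIso_restr_counit {X : Scheme.{u}} (W : X.Opens) [ProEtS.JPCont W.ι] (F : EtModW.ModP Λ X)
    (h : IsCl ((RecollMod.restrModP (Λ := Λ) W.ι).obj F)) :
    IsIso ((RecollMod.restrModP (Λ := Λ) W.ι).map ((epsAdjMod (Λ := Λ) (X := X)).counit.app F)) := by
  let c := (epsAdjMod (Λ := Λ) (X := X)).counit.app F
  let Rm := RecollMod.restrModP (Λ := Λ) W.ι
  let T := W.toScheme
  have : EtShriek.JCont W.ι := inferInstance
  let r := (EtShriek.compEtale W.ι).sheafPushforwardContinuous (ModuleCat.{u + 1} Λ) T.smallEtaleTopology X.smallEtaleTopology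
  let e : ProEtS.eps T ⋙ ProEtS.compP W.ι ≅ (EtShriek.compEtale W.ι) ⋙ ProEtS.eps X :=
    NatIso.ofComponents (fun V => MorphismProperty.Over.isoMk (Iso.refl _) (Category.id_comp _))
      (fun g => MorphismProperty.Over.Hom.ext ((Category.comp_id _).trans (Category.id_comp _).symm))
  have := Functor.isContinuous_comp (ProEtS.eps T) (ProEtS.compP W.ι) T.smallEtaleTopology
    (Scheme.ProEt.topology T) (Scheme.ProEt.topology X)
  let i : Rm ⋙ epsPushMod Λ T ≅ epsPushMod Λ X ⋙ r :=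
    Functor.sheafPushforwardContinuousComp _ _ (ModuleCat.{u + 1} Λ) _ _ _ ≪≫
      (Functor.sheafPushforwardContinuousComp' e.symm (ModuleCat.{u + 1} Λ) T.smallEtaleTopology
        X.smallEtaleTopology (Scheme.ProEt.topology X)).symm
  have h1 : IsIso ((epsPushMod Λ X).map c) := by
    have ht := (epsAdjMod (Λ := Λ) (X := X)).right_triangle_components F
    have : IsIso ((epsAdjMod (Λ := Λ) (X := X)).unit.app ((epsPushMod Λ X).obj F) ≫ (epsPushMod Λ X).map c) := by
      rw [ht]; exact IsIso.id _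
    exact IsIso.of_isIso_comp_left ((epsAdjMod (Λ := Λ) (X := X)).unit.app ((epsPushMod Λ X).obj F)) _
  have h2 : IsIso ((Rm ⋙ epsPushMod Λ T).map c) :=
    (NatIso.isIso_map_iff i c).2 (inferInstanceAs (IsIso (r.map ((epsPushMod Λ X).map c))))
  obtain ⟨B, ⟨b⟩⟩ := h
  let a : (EtModW.epsPullMod Λ T).obj ((EtModW.pull Λ W.ι).obj ((epsPushMod Λ X).obj F)) ≅
      Rm.obj ((EtModW.epsPullMod Λ X).obj ((epsPushMod Λ X).obj F)) :=
    (epsPullBC (Λ := Λ) W.ι).app _ ≪≫ ((RecollMod.restrIsoPull (Λ := Λ) W.ι).app _).symm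
  let ψ := epsFF.preimage (a.hom ≫ Rm.map c ≫ b.inv)
  have hψ : (EtModW.epsPullMod Λ T).map ψ = a.hom ≫ Rm.map c ≫ b.inv := epsFF.map_preimage _
  have : IsIso ((epsPushMod Λ T).map ((EtModW.epsPullMod Λ T).map ψ)) := by
    rw [hψ, Functor.map_comp, Functor.map_comp]
    have : IsIso ((epsPushMod Λ T).map (Rm.map c)) := h2
    infer_instance
  have : IsIso ψ := by
    have hn := (epsAdjMod (Λ := Λ) (X := T)).unit.naturality ψ
    have : IsIso (ψ ≫ (epsAdjMod (Λ := Λ) (X := T)).unit.app B) := by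
      refine (congrArg IsIso hn).mpr ?_
      exact IsIso.comp_isIso' (inferInstance : IsIso ((epsAdjMod (Λ := Λ) (X := T)).unit.app _))
        (inferInstanceAs (IsIso ((epsPushMod Λ T).map ((EtModW.epsPullMod Λ T).map ψ))))
    exact IsIso.of_isIso_comp_right ψ ((epsAdjMod (Λ := Λ) (X := T)).unit.app B)
  have e' : Rm.map c = a.inv ≫ (EtModW.epsPullMod Λ T).map ψ ≫ b.hom := by rw [hψ]; simp
  show IsIso (Rm.map c)
  rw [e']
  infer_instance

/-- locality on the Zariski topology -/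
theorem isIso_counit_of_affine {X : Scheme.{u}} (F : EtModW.ModP Λ X)
    (h : ∀ W : X.Opens, IsAffineOpen W → IsCl ((pullModP (Λ := Λ) W.ι).obj F)) :
    IsIso ((epsAdjMod (Λ := Λ) (X := X)).counit.app F) := by
  let c := (epsAdjMod (Λ := Λ) (X := X)).counit.app F
  have key : ∀ V : X.ProEt, (∃ W : X.Opens, IsAffineOpen W ∧ Set.range V.hom.base ⊆ (W : Set X)) →
      Function.Bijective (c.hom.app (op V)) := by
    rintro V ⟨W, hW, hV⟩
    have : ProEtS.JPCont W.ι := jpCont _
    have h2 := isIso_restr_counit W F ((h W hW).of_iso ((RecollMod.restrIsoPull (Λ := Λ) W.ι).app F).symm)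
    obtain ⟨V₀, ⟨e⟩⟩ := exists_compP_iso W.ι (hV.trans W.range_ι.ge)
    have h3 : IsIso (c.hom.app (op ((ProEtS.compP W.ι).obj V₀))) :=
      inferInstanceAs (IsIso (((sheafToPresheaf _ _).map ((RecollMod.restrModP (Λ := Λ) W.ι).map c)).app (op V₀)))
    have : IsIso (c.hom.app (op V)) := (NatTrans.isIso_app_iff_of_iso c.hom e.op).2 h3
    exact ConcreteCategory.bijective_of_isIso _
  have cov : ∀ V : X.ProEt, ∃ (ι : Type u) (M : ι → V.left.Opens),
      (∀ x, ∃ k, x ∈ M k) ∧ ∀ k, ∃ W : X.Opens, IsAffineOpen W ∧ Set.range (ProEtLib.opObj V (M k)).hom.base ⊆ (W : Set X) := by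
    intro V
    refine ⟨X.affineOpens, fun W => V.hom ⁻¹ᵁ W.1, fun x => ?_, fun W => ⟨W.1, W.2, ?_⟩⟩
    · obtain ⟨W, hW, hx, -⟩ := exists_isAffineOpen_mem_and_subset (show V.hom.base x ∈ (⊤ : X.Opens) from trivial)
      exact ⟨⟨W, hW⟩, hx⟩
    · rintro _ ⟨y, rfl⟩
      exact y.2
  have h1 : Sheaf.IsLocallyInjective c := ⟨fun {V} s t hst => by
    obtain ⟨ι, M, hM, hk⟩ := cov V.unop
    refine GrothendieckTopology.superset_covering _ ?_ (ProEtLib.opens_mem_topology V.unop M hM)
    rintro Y f ⟨Z, a, _, ⟨k⟩, rfl⟩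
    refine (Presheaf.equalizerSieve s t).downward_closed ?_ a
    refine (key _ (hk k)).1 ?_
    rw [NatTrans.naturality_apply, NatTrans.naturality_apply]
    exact congrArg _ hst⟩
  have h2 : Sheaf.IsLocallySurjective c := ⟨fun {V} s => by
    obtain ⟨ι, M, hM, hk⟩ := cov V
    refine GrothendieckTopology.superset_covering _ ?_ (ProEtLib.opens_mem_topology V M hM)
    rintro Y f ⟨Z, a, _, ⟨k⟩, rfl⟩
    refine (Presheaf.imageSieve c.hom s).downward_closed ?_ a
    exact (key _ (hk k)).2 _⟩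
  exact (Sheaf.isLocallyBijective_iff_isIso c).1 ⟨h1, h2⟩

end Groth.Agent.EtModLC71.Classical
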