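import Groth.Agent.EtModLC71.ClosedSite
import Groth.Agent.ProEtLib.Cover
import Mathlib.CategoryTheory.Sites.DenseSubsite.InducedTopology
import Mathlib.AlgebraicGeometry.Morphisms.QuasiCompact
import Mathlib.AlgebraicGeometry.PullbackCarrier

/-!
# Coverings detected on a closed subscheme and its open complement

A sieve which covers after restriction to a closed subscheme with retrocompact complement and
contains everything living over the complement is covering.
-/

universe u

open CategoryTheory CategoryTheory.Limits AlgebraicGeometry Opposite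

namespace Groth.Agent.EtModLC71

set_option backward.isDefEq.respectTransparency.types false

variable {Z X : Scheme.{u}} (i : Z ⟶ X) [IsClosedImmersion i]

/-- the topology induced from the closed subscheme -/
noncomputable abbrev closedTop : GrothendieckTopology X.ProEt :=
  (ProEtS.bcP i).restrictedTopology (Scheme.ProEt.topology Z)

/-- a sieve covering the closed part contains finitely many quasi-compact pieces covering it -/
theorem exists_compact_cover_closed (U : X.ProEt) [IsAffine U.left] (S : Sieve U) (hS : S ∈ closedTop i U) :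
    ∃ (n : ℕ) (V : Fin n → X.ProEt) (m : ∀ k, V k ⟶ U), (∀ k, S (m k)) ∧ (∀ k, CompactSpace (V k).left) ∧
      Set.range (pullback.fst U.hom i).base ⊆ ⋃ k, Set.range (m k).left.base := by
  have := isCoverDense_bcP i
  have := isLocallyFull_bcP i
  have := isLocallyFaithful_bcP i
  rw [closedTop, Functor.mem_restrictedTopology_iff] at hS
  obtain ⟨T₀, hT₀, hle⟩ := (ProEtLib.mem_topology_iff _).1 hS
  obtain ⟨ι, W, g, rfl⟩ := T₀.exists_eq_ofArrows
  rw [ProEtLib.ofArrows_mem_precoverage_iff, ProEtLib.mem_proetalePrecoverage_iff] at hT₀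
  obtain ⟨hqc, -, -⟩ := hT₀
  have hcl : IsClosedImmersion (pullback.fst U.hom i) := MorphismProperty.pullback_fst _ _ inferInstance
  have : IsAffine ((ProEtS.bcP i).obj U).left :=
    @isAffine_of_isAffineHom _ _ (pullback.fst U.hom i) (@IsClosedImmersion.instIsAffineHom _ _ _ hcl) ‹IsAffine U.left›
  have : CompactSpace ((ProEtS.bcP i).obj U).left := inferInstance
  obtain ⟨n, f, O, hO, hun⟩ := QuasiCompactCover.exists_isAffineOpen_of_isCompact
    (PreZeroHypercover.mk ι (fun k => (W k).left) fun k => (g k).left)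
    (U := (⊤ : ((ProEtS.bcP i).obj U).left.Opens)) isCompact_univ
  have hd : ∀ k : Fin n, ∃ (V : X.ProEt) (c : V ⟶ U) (M : V.left.Opens), S c ∧ IsCompact (M : Set V.left) ∧
      (pullback.fst U.hom i).base '' ((g (f k)).left.base '' (O k : Set (W (f k)).left)) ⊆
        c.left.base '' (M : Set V.left) := fun k => by
    obtain ⟨V, c, a, hc, hg⟩ := hle _ _ ⟨f k⟩
    let μ : (W (f k)).left ⟶ V.left := a.left ≫ pullback.fst V.hom i
    obtain ⟨t, ht⟩ := ((hO k).isCompact.image μ.continuous).elim_finite_subcover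
      (fun M : V.left.affineOpens => (M.1 : Set V.left)) (fun M => M.1.2) fun x _ => by
        obtain ⟨M, hM, hx, -⟩ :=
          exists_isAffineOpen_mem_and_subset (show x ∈ (⊤ : V.left.Opens) from trivial)
        exact Set.mem_iUnion.2 ⟨⟨M, hM⟩, hx⟩
    refine ⟨V, c, ⟨⋃ M ∈ t, (M.1 : Set V.left), isOpen_biUnion fun M _ => M.1.2⟩, hc,
      t.isCompact_biUnion fun M _ => M.2.isCompact, ?_⟩
    rintro _ ⟨_, ⟨o, ho, rfl⟩, rfl⟩
    refine ⟨μ.base o, ht ⟨o, ho, rfl⟩, ?_⟩
    have h1 : μ ≫ c.left = (g (f k)).left ≫ pullback.fst U.hom i :=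
      (Category.assoc _ _ _).trans ((congrArg (a.left ≫ ·) (pullback.lift_fst _ _ _).symm).trans
        ((Category.assoc _ _ _).symm.trans (congrArg (· ≫ pullback.fst U.hom i) (congrArg (fun q => q.left) hg).symm)))
    exact congrArg (fun q : (W (f k)).left ⟶ U.left => q.base o) h1
  choose V c M hc hM hsub using hd
  refine ⟨n, fun k => ProEtLib.opObj (V k) (M k), fun k => ProEtLib.opHom (V k) (M k) ≫ c k,
    fun k => S.downward_closed (hc k) _, fun k => isCompact_iff_compactSpace.1 (hM k), ?_⟩
  rintro _ ⟨z, rfl⟩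
  obtain ⟨k, hk⟩ := Set.mem_iUnion.1 (show z ∈ ⋃ k, (g (f k)).left.base '' (O k : Set (W (f k)).left) by
    rw [show (⋃ k, (g (f k)).left.base '' (O k : Set (W (f k)).left)) = Set.univ from hun]; trivial)
  obtain ⟨y, hy, hyz⟩ := hsub k ⟨z, hk, rfl⟩
  exact Set.mem_iUnion.2 ⟨k, ⟨y, hy⟩, hyz⟩

/-- finitely many quasi-compact objects covering an affine object -/
theorem mem_topology_of_finite_compact {U : X.ProEt} [IsAffine U.left] (S : Sieve U) {κ : Type} [Finite κ]
    (obj : κ → X.ProEt) (m : ∀ k, obj k ⟶ U) (hSm : ∀ k, S (m k)) (hcp : ∀ k, CompactSpace (obj k).left)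
    (hsurj : ∀ x, ∃ k, x ∈ Set.range (m k).left.base) :
    S ∈ Scheme.ProEt.topology X U := by
  let d : ULift.{u} κ → Scheme.{u} := fun k => (obj k.down).left
  have : ∀ k, CompactSpace (d k) := fun k => hcp k.down
  let q : ∀ k, d k ⟶ U.left := fun k => (m k.down).left
  have : WeaklyEtale (Sigma.desc q) := IsZariskiLocalAtSource.sigmaDesc fun k => ProEtLib.weaklyEtale_left (m k.down)
  have : WeaklyEtale U.hom := U.prop
  let P : X.ProEt := Scheme.ProEt.mk (Sigma.desc q ≫ U.hom)
  let p : P ⟶ U := MorphismProperty.Over.homMk (Sigma.desc q)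
  let j : ∀ k : ULift.{u} κ, obj k.down ⟶ P := fun k => MorphismProperty.Over.homMk (Sigma.ι d k) (by
    change Sigma.ι d k ≫ Sigma.desc q ≫ U.hom = _
    rw [Sigma.ι_desc_assoc]
    exact MorphismProperty.Over.w (m k.down))
  have hj : ∀ k, j k ≫ p = m k.down := fun k => MorphismProperty.Over.Hom.ext (Sigma.ι_desc (f := d) q k)
  have : CompactSpace P.left := (sigmaMk d).compactSpace
  have : QuasiCompact p.left := (HasAffineProperty.iff_of_isAffine (P := @QuasiCompact)).2 this
  have : Surjective p.left := ⟨fun x => by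
    obtain ⟨k, y, rfl⟩ := hsurj x
    exact ⟨(j ⟨k⟩).left.base y, congrArg (fun r : obj k ⟶ U => r.left.base y) (hj ⟨k⟩)⟩⟩
  refine ProEtLib.mem_topology_of_family S (fun _ : Unit => P) (fun _ => p)
    (GrothendieckTopology.superset_covering _ ?_ (ProEtLib.singleton_mem_topology p)) fun _ => ?_
  · rintro Y h ⟨_, a, _, ⟨⟩, rfl⟩
    exact ⟨_, a, _, ⟨()⟩, rfl⟩
  · refine ProEtLib.mem_topology_of_etale (fun k : ULift.{u} κ => obj k.down) j (fun k => inferInstanceAs (Etale (Sigma.ι d k)))
      (fun x => ?_) fun k => ?_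
    · obtain ⟨⟨k, y⟩, hy⟩ := (sigmaMk d).surjective x
      exact ⟨k, y, by rw [← hy]; exact (sigmaMk_mk d k y).symm⟩
    · show S (j k ≫ p)
      rw [hj]
      exact hSm k.down

/-- the same, for affine objects all whose points specialize to the closed subscheme -/
theorem closedCover_of_specializes (U : X.ProEt) [IsAffine U.left] (S : Sieve U) (hS : S ∈ closedTop i U)
    (hU : ∀ x : U.left, ∃ z : U.left, U.hom.base z ∈ Set.range i.base ∧ x ⤳ z) :
    S ∈ Scheme.ProEt.topology X U := by
  obtain ⟨n, V, m, hm, hc, hcov⟩ := exists_compact_cover_closed i U S hS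
  refine mem_topology_of_finite_compact S V m hm hc fun x => ?_
  obtain ⟨z, hz, hxz⟩ := hU x
  obtain ⟨k, y, hy⟩ := Set.mem_iUnion.1 (hcov (show z ∈ Set.range (pullback.fst U.hom i).base by
    rw [Scheme.Pullback.range_fst]; exact hz))
  have := ProEtLib.weaklyEtale_left (m k)
  obtain ⟨w, -, hw⟩ := Flat.generalizingMap (m k).left (hy.symm ▸ hxz)
  exact ⟨k, w, hw⟩

theorem closedCover_affine (hr : IsRetrocompact (Set.range i.base)ᶜ) (U : X.ProEt)
    [IsAffine U.left] (S : Sieve U) (hS : S ∈ closedTop i U)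
    (ho : ∀ (V : X.ProEt) (c : V ⟶ U), Set.range V.hom.base ⊆ (Set.range i.base)ᶜ → S c) :
    S ∈ Scheme.ProEt.topology X U := by
  obtain ⟨n, V, m, hm, hc, hcov⟩ := exists_compact_cover_closed i U S hS
  let Xo : X.Opens := ⟨(Set.range i.base)ᶜ, i.isClosedEmbedding.isClosed_range.isOpen_compl⟩
  let Uo : U.left.Opens := U.hom ⁻¹ᵁ Xo
  have hUo : IsCompact (Uo : Set U.left) := by
    have h1 : IsRetrocompact (Uo : Set U.left) :=
      IsRetrocompact_iff_isSpectralMap_subtypeVal.mpr (quasiCompact_iff_isSpectralMap.mp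
        (MorphismProperty.of_isPullback (P := @QuasiCompact) (isPullback_morphismRestrict U.hom Xo)
          (quasiCompact_iff_isSpectralMap.mpr (IsRetrocompact_iff_isSpectralMap_subtypeVal.mp hr))))
    have h2 := h1 isCompact_univ isOpen_univ
    rwa [Set.inter_univ] at h2
  refine mem_topology_of_finite_compact S
    (fun k : Option (Fin n) => k.elim (ProEtLib.opObj U Uo) V)
    (fun k => match k with
      | none => ProEtLib.opHom U Uo
      | some k => m k)
    (fun k => match k with
      | none => ho _ _ (by rintro _ ⟨y, rfl⟩; exact y.2)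
      | some k => hm k)
    (fun k => match k with
      | none => isCompact_iff_compactSpace.1 hUo
      | some k => hc k) fun x => ?_
  by_cases hx : x ∈ Uo
  · exact ⟨none, ⟨x, hx⟩, rfl⟩
  · obtain ⟨k, hk⟩ := Set.mem_iUnion.1 (hcov (show x ∈ Set.range (pullback.fst U.hom i).base by
      rw [Scheme.Pullback.range_fst]; exact not_not.1 hx))
    exact ⟨some k, hk⟩

/-- a sieve covering the closed part and containing everything over the complement is covering -/
theorem closedCover (hr : IsRetrocompact (Set.range i.base)ᶜ) (U : X.ProEt)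
    (S : Sieve U) (hS : S ∈ closedTop i U)
    (ho : ∀ (V : X.ProEt) (c : V ⟶ U), Set.range V.hom.base ⊆ (Set.range i.base)ᶜ → S c) :
    S ∈ Scheme.ProEt.topology X U := by
  obtain ⟨ι, V, g, hg, h⟩ := ProEtLib.exists_wc_cover_family U
  refine ProEtLib.mem_topology_of_family S V g hg fun k => ?_
  have := (h k).1
  exact closedCover_affine i hr (V k) _ ((closedTop i).pullback_stable (g k) hS) fun W c hW => ho W _ hW

end Groth.Agent.EtModLC71
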