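import Groth.Prelude.Def_EtModW
import Groth.Agent.ProEtLib.LanSheaf
import Groth.Agent.WStrictLib.WEtaleCover
import Groth.Agent.S0755
import Mathlib.CategoryTheory.Sites.DenseSubsite.Basic
import Mathlib.RingTheory.TensorProduct.Quotient
import Mathlib.AlgebraicGeometry.Morphisms.ClosedImmersion

/-!
# The pro-etale site of a closed subscheme

Base change along a closed immersion is cover dense, locally full and locally faithful, so that the
direct image is fully faithful.
-/

universe u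

open CategoryTheory CategoryTheory.Limits AlgebraicGeometry Opposite

namespace Groth.Agent.EtModLC71

set_option backward.isDefEq.respectTransparency.types false

/-- weakly etale algebras over a quotient are covered by reductions -/
theorem exists_cover_quotient {A : CommRingCat.{u}} (I : Ideal A) {T : Scheme.{u}} [IsAffine T]
    (t : T ⟶ Spec (CommRingCat.of (A ⧸ I))) [WeaklyEtale t] :
    ∃ (V T' : Scheme.{u}) (q : V ⟶ Spec A) (a : T' ⟶ V) (b : T' ⟶ Spec (CommRingCat.of (A ⧸ I)))
      (π : T' ⟶ T), WeaklyEtale q ∧ QuasiCompact π ∧ Surjective π ∧ π ≫ t = b ∧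
      IsPullback a b q (Spec.map (CommRingCat.ofHom (Ideal.Quotient.mk I))) := by
  let B := Γ(T, ⊤)
  let φ : CommRingCat.of (A ⧸ I) ⟶ B := Spec.preimage (T.isoSpec.inv ≫ t)
  have hφ : Spec.map φ = T.isoSpec.inv ≫ t := Spec.map_preimage _
  let := φ.hom.toAlgebra
  have hwe : Algebra.WeaklyEtale (A ⧸ I) B := by
    refine (ProEtLib.weaklyEtale_spec_iff φ).1 ?_
    rw [hφ]
    infer_instance
  obtain ⟨B', _, _, _, _, hff, -, hie⟩ := WStrictLib.exists_indEtale_cover (A := A ⧸ I) (B := B)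
  obtain ⟨C, _, _, hC, ⟨e⟩⟩ := S0755.result A I B' hie
  have : Algebra.WeaklyEtale A C := S0736.result _ _ hC
  let p : CommRingCat.of C ⟶ CommRingCat.of B' :=
    CommRingCat.ofHom (e.toRingEquiv.toRingHom.comp (Ideal.Quotient.mk (I.map (algebraMap A C))))
  have hpo : IsPushout (CommRingCat.ofHom (algebraMap A (A ⧸ I))) (CommRingCat.ofHom (algebraMap A C))
      (CommRingCat.ofHom (algebraMap (A ⧸ I) B')) p :=
    (CommRingCat.isPushout_tensorProduct A (A ⧸ I) C).of_iso (Iso.refl _) (Iso.refl _) (Iso.refl _)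
      (((Algebra.TensorProduct.quotIdealMapEquivQuotTensor C I).symm.trans e).toRingEquiv.toCommRingCatIso)
      (by simp) (by simp) (CommRingCat.hom_ext (RingHom.ext fun x => by
        exact ((Algebra.TensorProduct.quotIdealMapEquivQuotTensor C I).symm.trans e).commutes x))
      (CommRingCat.hom_ext (RingHom.ext fun c => by
        show e ((Algebra.TensorProduct.quotIdealMapEquivQuotTensor C I).symm _) = e _
        congr 1
        rw [AlgEquiv.symm_apply_eq]
        exact (Algebra.TensorProduct.quotIdealMapEquivQuotTensor_mk _ _ _).symm))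
  let π : Spec (CommRingCat.of B') ⟶ T := Spec.map (CommRingCat.ofHom (algebraMap B B')) ≫ T.isoSpec.inv
  have : Surjective (Spec.map (CommRingCat.ofHom (algebraMap B B'))) :=
    ⟨PrimeSpectrum.comap_surjective_of_faithfullyFlat⟩
  refine ⟨Spec (CommRingCat.of C), Spec (CommRingCat.of B'), Spec.map (CommRingCat.ofHom (algebraMap A C)),
    Spec.map p, Spec.map (CommRingCat.ofHom (algebraMap (A ⧸ I) B')), π, ProEtLib.weaklyEtale_spec A C,
    inferInstanceAs (QuasiCompact (_ ≫ _)), inferInstanceAs (Surjective (_ ≫ _)), ?_,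
    (isPullback_SpecMap_of_isPushout _ _ _ _ hpo).flip⟩
  rw [Category.assoc, ← hφ, ← Spec.map_comp]
  refine congrArg Spec.map (CommRingCat.hom_ext (RingHom.ext fun x => ?_))
  exact (IsScalarTower.algebraMap_apply (A ⧸ I) B B' x).symm

variable {Z X : Scheme.{u}} (i : Z ⟶ X) [IsClosedImmersion i]

/-- base change along a closed immersion is cover dense -/
theorem isCoverDense_bcP : (ProEtS.bcP i).IsCoverDense (Scheme.ProEt.topology Z) := by
  refine ⟨fun T => ?_⟩
  have key : ∀ x : T.left, ∃ (O : T.left.Opens), x ∈ O ∧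
      ∃ (W : Z.ProEt) (g : W ⟶ ProEtLib.opObj T O), QuasiCompact g.left ∧ Surjective g.left ∧
        Sieve.coverByImage (ProEtS.bcP i) T (g ≫ ProEtLib.opHom T O) := by
    intro x
    obtain ⟨Xb, hXb, hx, -⟩ := exists_isAffineOpen_mem_and_subset
      (show i.base (T.hom.base x) ∈ (⊤ : X.Opens) from trivial)
    obtain ⟨O, hO, hxO, hOle⟩ := exists_isAffineOpen_mem_and_subset
      (show x ∈ T.hom ⁻¹ᵁ (i ⁻¹ᵁ Xb) from hx)
    have : IsAffine O.toScheme := hO
    have : IsAffine Xb.toScheme := hXb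
    have : IsClosedImmersion (i ∣_ Xb) := inferInstance
    obtain ⟨hZb, hs⟩ := IsClosedImmersion.isAffine_surjective_of_isAffine (f := i ∣_ Xb)
    let ψ : Γ(Xb.toScheme, ⊤) ⟶ Γ((i ⁻¹ᵁ Xb).toScheme, ⊤) := (i ∣_ Xb).appTop
    let I : Ideal Γ(Xb.toScheme, ⊤) := RingHom.ker ψ.hom
    let eq : CommRingCat.of (Γ(Xb.toScheme, ⊤) ⧸ I) ≅ Γ((i ⁻¹ᵁ Xb).toScheme, ⊤) :=
      (RingHom.quotientKerEquivOfSurjective hs).toCommRingCatIso
    let eZ : (i ⁻¹ᵁ Xb).toScheme ≅ Spec (CommRingCat.of (Γ(Xb.toScheme, ⊤) ⧸ I)) :=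
      (i ⁻¹ᵁ Xb).toScheme.isoSpec ≪≫ Scheme.Spec.mapIso eq.op
    have hsq : IsPullback (i ∣_ Xb) eZ.hom Xb.toScheme.isoSpec.hom (Spec.map (CommRingCat.ofHom (Ideal.Quotient.mk I))) := by
      refine IsPullback.of_vert_isIso ⟨?_⟩
      rw [← Scheme.isoSpec_hom_naturality (i ∣_ Xb)]
      show _ = ((i ⁻¹ᵁ Xb).toScheme.isoSpec.hom ≫ Spec.map eq.hom) ≫ _
      rw [Category.assoc, ← Spec.map_comp]
      rfl
    let jO : O.toScheme ⟶ (i ⁻¹ᵁ Xb).toScheme := IsOpenImmersion.lift (i ⁻¹ᵁ Xb).ι (O.ι ≫ T.hom) (by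
      rintro _ ⟨y, rfl⟩
      rw [Scheme.Opens.range_ι]
      exact hOle y.2)
    have hjO : jO ≫ (i ⁻¹ᵁ Xb).ι = O.ι ≫ T.hom := IsOpenImmersion.lift_fac _ _ _
    have : WeaklyEtale T.hom := T.prop
    have : WeaklyEtale (jO ≫ (i ⁻¹ᵁ Xb).ι) := by rw [hjO]; infer_instance
    have : WeaklyEtale jO := MorphismProperty.of_postcomp (W := @WeaklyEtale) (W' := @WeaklyEtale) jO
      (i ⁻¹ᵁ Xb).ι inferInstance inferInstance
    obtain ⟨V, T', q, a, b, π, hq, hπ, hπs, hb, hp⟩ := exists_cover_quotient I (jO ≫ eZ.hom)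
    have hp' : IsPullback a (π ≫ O.ι ≫ T.hom) (q ≫ Xb.toScheme.isoSpec.inv ≫ Xb.ι) i := by
      have h2 : IsPullback a (π ≫ jO) (q ≫ Xb.toScheme.isoSpec.inv) (i ∣_ Xb) :=
        hp.of_iso (Iso.refl _) (Iso.refl _) eZ.symm Xb.toScheme.isoSpec.symm (by simp)
          (by simp [← hb]) (by simp) (by
            rw [Iso.symm_hom, Iso.symm_hom, ← cancel_epi eZ.hom, eZ.hom_inv_id_assoc, ← Category.assoc]
            exact (Iso.comp_inv_eq _).2 hsq.w.symm)
      have h3 := h2.paste_vert (isPullback_morphismRestrict i Xb)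
      rwa [Category.assoc, Category.assoc, hjO] at h3
    have : WeaklyEtale (π ≫ O.ι ≫ T.hom) :=
      MorphismProperty.of_isPullback (P := @WeaklyEtale) hp' inferInstance
    let V' : X.ProEt := Scheme.ProEt.mk (q ≫ Xb.toScheme.isoSpec.inv ≫ Xb.ι)
    let W : Z.ProEt := Scheme.ProEt.mk (π ≫ O.ι ≫ T.hom)
    let g : W ⟶ ProEtLib.opObj T O := MorphismProperty.Over.homMk π
    let iW : W ≅ (ProEtS.bcP i).obj V' := MorphismProperty.Over.isoMk hp'.isoPullback hp'.isoPullback_hom_snd
    exact ⟨O, hxO, W, g, inferInstanceAs (QuasiCompact π), inferInstanceAs (Surjective π),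
      ⟨⟨V', iW.hom, iW.inv ≫ g ≫ ProEtLib.opHom T O, iW.hom_inv_id_assoc _⟩⟩⟩
  choose O hxO W g hq hs hc using key
  refine (Scheme.ProEt.topology Z).transitive
    (ProEtLib.opens_mem_topology T O fun x => ⟨x, hxO x⟩) _ ?_
  rintro Y f ⟨Y', a, _, ⟨x⟩, rfl⟩
  rw [Sieve.pullback_comp]
  refine (Scheme.ProEt.topology Z).pullback_stable a
    (GrothendieckTopology.superset_covering _ ?_ (ProEtLib.singleton_mem_topology (g x)))
  rintro W' h ⟨W'', b, _, ⟨⟩, rfl⟩
  rw [Sieve.pullback_apply, Category.assoc]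
  exact (Sieve.coverByImage _ T).downward_closed (hc x) b

/-- composition with a structure map preserves coverings -/
theorem exists_family {Y : Scheme.{u}} {T : Y.ProEt} {R : Sieve T}
    (hR : R ∈ Scheme.ProEt.topology Y T) (y : Y ⟶ Z) [WeaklyEtale y] :
    (R.functorPushforward (ProEtS.compP y)) ∈ Scheme.ProEt.topology Z ((ProEtS.compP y).obj T) := by
  obtain ⟨T₀, hT₀, hle⟩ := (ProEtLib.mem_topology_iff R).1 hR
  obtain ⟨ι, W, g, rfl⟩ := T₀.exists_eq_ofArrows
  rw [ProEtLib.ofArrows_mem_precoverage_iff] at hT₀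
  refine (ProEtLib.mem_topology_iff _).2 ⟨Presieve.ofArrows (fun k => (ProEtS.compP y).obj (W k))
    (fun k => (ProEtS.compP y).map (g k)), (ProEtLib.ofArrows_mem_precoverage_iff _ _).2 hT₀, ?_⟩
  rintro _ _ ⟨k⟩
  exact Sieve.image_mem_functorPushforward _ _ (hle _ _ ⟨k⟩)

omit [IsClosedImmersion i] in
/-- base change along a closed immersion is locally faithful -/
theorem isLocallyFaithful_bcP : (ProEtS.bcP i).IsLocallyFaithful (Scheme.ProEt.topology Z) := by
  refine ⟨fun {U V} f₁ f₂ e => ?_⟩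
  have : IsIso ((ProEtS.bcP i).map (equalizer.ι f₁ f₂)) :=
    isIso_limit_cone_parallelPair_of_eq e
      (isLimitForkMapOfIsLimit (ProEtS.bcP i) (equalizer.condition f₁ f₂) (equalizerIsEqualizer f₁ f₂))
  refine GrothendieckTopology.superset_covering _ ?_ ((Scheme.ProEt.topology Z).top_mem _)
  intro W r _
  exact ⟨_, equalizer.ι f₁ f₂, r ≫ inv ((ProEtS.bcP i).map (equalizer.ι f₁ f₂)),
    equalizer.condition f₁ f₂, by simp⟩

/-- base change along a closed immersion is locally full -/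
theorem isLocallyFull_bcP : (ProEtS.bcP i).IsLocallyFull (Scheme.ProEt.topology Z) := by
  refine ⟨fun {U U'} f => ?_⟩
  let G := ProEtS.bcP i
  let s : G.obj U ⟶ G.obj (U ⨯ U') :=
    prod.lift (𝟙 (G.obj U)) f ≫ inv (prodComparison G U U')
  have hs1 : s ≫ G.map prod.fst = 𝟙 _ := by
    rw [Category.assoc, inv_prodComparison_map_fst, prod.lift_fst]
  have hs2 : s ≫ G.map prod.snd = f := by
    rw [Category.assoc, inv_prodComparison_map_snd, prod.lift_snd]
  let P := U ⨯ U'
  have : WeaklyEtale P.hom := P.prop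
  have : WeaklyEtale (pullback.snd P.hom i) := inferInstance
  have := ProEtLib.weaklyEtale_left s
  let T : (pullback P.hom i).ProEt := @Scheme.ProEt.mk _ _ s.left this
  have := isCoverDense_bcP (pullback.fst P.hom i)
  let eT : G.obj U ≅ (ProEtS.compP (pullback.snd P.hom i)).obj T :=
    MorphismProperty.Over.isoMk (Iso.refl _) ((Category.id_comp _).trans (MorphismProperty.Over.w s))
  have hT := exists_family ((ProEtS.bcP (pullback.fst P.hom i)).is_cover_of_isCoverDense
    (Scheme.ProEt.topology _) T) (pullback.snd P.hom i)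
  refine GrothendieckTopology.superset_covering _ ?_ ((Scheme.ProEt.topology Z).pullback_stable eT.hom hT)
  rintro W a ⟨T₁, r, t, ⟨⟨V, l, m, hlm⟩⟩, hrt⟩
  have hw : a.left = t.left ≫ l.left ≫ m.left := by
    have h1 := congrArg (fun q => q.left) hrt
    have h2 : r.left = l.left ≫ m.left := (congrArg (fun q => q.left) hlm).symm
    exact (Category.comp_id _).symm.trans (h1.trans (congrArg (t.left ≫ ·) h2))
  have : WeaklyEtale V.hom := V.prop
  let V' : X.ProEt := Scheme.ProEt.mk (V.hom ≫ P.hom)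
  let c : V' ⟶ P := MorphismProperty.Over.homMk V.hom
  let φ : pullback V.hom (pullback.fst P.hom i) ≅ pullback (V.hom ≫ P.hom) i :=
    pullbackRightPullbackFstIso P.hom i V.hom
  have hsnd : φ.hom ≫ pullback.snd (V.hom ≫ P.hom) i = pullback.snd _ _ ≫ pullback.snd P.hom i :=
    pullbackRightPullbackFstIso_hom_snd _ _ _
  have hc : φ.hom ≫ (G.map c).left = pullback.snd _ _ := by
    apply pullback.hom_ext
    · exact (Category.assoc _ _ _).trans ((congrArg (φ.hom ≫ ·) (pullback.lift_fst _ _ _)).trans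
        ((Category.assoc _ _ _).symm.trans ((congrArg (· ≫ V.hom) (pullbackRightPullbackFstIso_hom_fst _ _ _)).trans
          pullback.condition)))
    · exact (Category.assoc _ _ _).trans ((congrArg (φ.hom ≫ ·) (MorphismProperty.Over.w (G.map c))).trans hsnd)
  have key : ∀ {Q : X.ProEt} (p : P ⟶ Q), φ.hom ≫ (G.map (c ≫ p)).left = m.left ≫ (s ≫ G.map p).left :=
    fun p => (congrArg (fun q => φ.hom ≫ q.left) (G.map_comp c p)).trans ((Category.assoc _ _ _).symm.trans
      ((congrArg (· ≫ (G.map p).left) (hc.trans (MorphismProperty.Over.w m).symm)).trans (Category.assoc _ _ _)))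
  have h1 : φ.hom ≫ (G.map (c ≫ prod.fst)).left = m.left :=
    (key prod.fst).trans ((congrArg (fun q => m.left ≫ q.left) hs1).trans (Category.comp_id _))
  refine ⟨V', c ≫ prod.fst, MorphismProperty.Over.homMk (t.left ≫ l.left ≫ φ.hom) ?_, ⟨c ≫ prod.snd, ?_⟩, ?_⟩
  · refine (Category.assoc _ _ _).trans (Eq.trans ?_ (MorphismProperty.Over.w t))
    exact congrArg (t.left ≫ ·) ((Category.assoc _ _ _).trans ((congrArg (l.left ≫ ·) hsnd).trans
      ((Category.assoc _ _ _).symm.trans (congrArg (· ≫ pullback.snd P.hom i) (MorphismProperty.Over.w l)))))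
  · apply MorphismProperty.Over.Hom.ext
    refine (cancel_epi φ.hom).1 ((key prod.snd).trans ((congrArg (fun q => m.left ≫ q.left) hs2).trans ?_))
    exact (congrArg (· ≫ f.left) h1).symm.trans (Category.assoc _ _ _)
  · apply MorphismProperty.Over.Hom.ext
    refine hw.trans (((congrArg (fun q => t.left ≫ l.left ≫ q) h1).symm).trans ?_)
    exact ((Category.assoc _ _ _).trans (congrArg (t.left ≫ ·) (Category.assoc _ _ _))).symm

/-- the direct image along a closed immersion is fully faithful, in any coefficient category -/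
theorem isIso_counit_closed {A : Type*} [Category A] [ProEtS.PCont i] {L : Sheaf (Scheme.ProEt.topology X) A ⥤ Sheaf (Scheme.ProEt.topology Z) A}
    (adj : L ⊣ (ProEtS.bcP i).sheafPushforwardContinuous A (Scheme.ProEt.topology X) (Scheme.ProEt.topology Z))
    (F : Sheaf (Scheme.ProEt.topology Z) A) : IsIso (adj.counit.app F) := by
  have := isCoverDense_bcP i
  have := isLocallyFull_bcP i
  have := isLocallyFaithful_bcP i
  have := adj.counit_isIso_of_R_fully_faithful
  exact inferInstance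

end Groth.Agent.EtModLC71
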