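import Groth.Agent.EtModLC71.Constr
import Groth.Agent.EtModLC71.ConstrSerre
import Groth.Agent.EtFound.NoethConstr

/-!
# Subobjects of constructible sheaves of modules on locally noetherian schemes
-/

universe u

open CategoryTheory CategoryTheory.Limits AlgebraicGeometry Opposite Topology TopologicalSpace

namespace Groth.Agent.EtModLC71

set_option backward.isDefEq.respectTransparency.types false

variable {Λ : Type (u + 1)} [CommRing Λ] {X : Scheme.{u}}

/-- a piece near every point along its closure gives constructibility -/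
theorem isConstructible_of_generic [IsLocallyNoetherian X] {F : EtModW.Mod Λ X}
    (h : ∀ x : X, ∃ V : X.Opens, x ∈ V ∧ IsPiece F ((V : Set X) ∩ closure {x})) : EtModW.IsConstructible Λ F := by
  intro U hU
  haveI : NoetherianSpace ↥(U : Set X) := by
    have : IsNoetherianRing Γ(X, U) := IsLocallyNoetherian.component_noetherian ⟨U, hU⟩
    exact noetherianSpace_of_isAffineOpen U hU
  have key : ∃ (n : ℕ) (E : Fin n → Set X), (∀ k, IsPiece F (E k) ∧ E k ⊆ U) ∧
      (Set.univ : Set ↥(U : Set X)) ⊆ Subtype.val ⁻¹' ⋃ k, E k := by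
    refine SpecLib.irred_induction (P := fun C : Set ↥(U : Set X) => ∃ (n : ℕ) (E : Fin n → Set X),
      (∀ k, IsPiece F (E k) ∧ E k ⊆ U) ∧ C ⊆ Subtype.val ⁻¹' ⋃ k, E k) ⟨0, Fin.elim0, fun k => k.elim0, by simp⟩
      (fun A B _ _ => ?_) (fun Y hY hirr ih => ?_) isClosed_univ
    · rintro ⟨n, E, hE, hA⟩ ⟨m, E', hE', hB⟩
      refine ⟨n + m, Fin.append E E', fun k => ?_, Set.union_subset (hA.trans ?_) (hB.trans ?_)⟩
      · refine Fin.addCases (fun i => ?_) (fun i => ?_) k
        · rw [Fin.append_left]; exact hE i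
        · rw [Fin.append_right]; exact hE' i
      · exact Set.preimage_mono (Set.iUnion_subset fun i => Set.subset_iUnion_of_subset (Fin.castAdd m i)
          (Fin.append_left E E' i).ge)
      · exact Set.preimage_mono (Set.iUnion_subset fun i => Set.subset_iUnion_of_subset (Fin.natAdd n i)
          (Fin.append_right E E' i).ge)
    · haveI : QuasiSober ↥(U : Set X) := U.isOpenEmbedding'.quasiSober
      have hx : IsGenericPoint hirr.genericPoint Y := by
        simpa [hY.closure_eq] using hirr.isGenericPoint_genericPoint_closure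
      obtain ⟨V, hxV, hV⟩ := h hirr.genericPoint.1
      let S := (V : Set X) ∩ (U : Set X) ∩ closure {hirr.genericPoint.1}
      have hS : IsPiece F S := hV.mono (fun y hy => ⟨hy.1.1, hy.2⟩)
        ((V.2.inter U.2).isLocallyClosed.inter isClosed_closure.isLocallyClosed)
      obtain ⟨n, E, hE, hEc⟩ := ih (Y ∩ (Subtype.val ⁻¹' (V : Set X))ᶜ)
        (hY.inter (V.2.preimage continuous_subtype_val).isClosed_compl)
        (Set.inter_subset_left.ssubset_of_ne fun e => (e.ge hx.mem).2 hxV)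
      refine ⟨n + 1, Fin.cons S E, fun k => ?_, fun y hy => ?_⟩
      · cases k using Fin.cases with
        | zero => exact ⟨hS, fun y hy => hy.1.2⟩
        | succ i => simpa using hE i
      · by_cases hyV : (y : X) ∈ V
        · refine Set.mem_iUnion.2 ⟨0, ⟨hyV, y.2⟩, ?_⟩
          exact ((hx.specializes hy).map continuous_subtype_val).mem_closure
        · obtain ⟨i, hi⟩ := Set.mem_iUnion.1 (hEc ⟨hy, hyV⟩)
          exact Set.mem_iUnion.2 ⟨i.succ, by simpa using hi⟩
  obtain ⟨n, E, hE, hcov⟩ := key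
  refine adaptedStrata_of_cover U.2.isLocallyClosed E (fun k => (hE k).1) (fun k => ?_)
    fun x hx => hcov (Set.mem_univ ⟨x, hx⟩)
  obtain ⟨O, C, hO, hC, e⟩ := (hE k).1.isLocallyClosed
  rw [e, Set.preimage_inter]
  exact (SpecLib.isConstructible_of_isOpen (hO.preimage continuous_subtype_val)).inter
    (SpecLib.isConstructible_of_isClosed (hC.preimage continuous_subtype_val))

/-- a constructible sheaf has a piece near every point along its closure -/
theorem exists_generic_piece {F : EtModW.Mod Λ X} (hF : EtModW.IsConstructible Λ F) (x : X) :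
    ∃ V : X.Opens, x ∈ V ∧ IsPiece F ((V : Set X) ∩ closure {x}) := by
  obtain ⟨U, hU, hxU, -⟩ := exists_isAffineOpen_mem_and_subset (U := (⊤ : X.Opens)) (x := x) trivial
  obtain ⟨n, E, hE, -, hu⟩ := exists_pieces (hF U hU)
  obtain ⟨k, hk⟩ := Set.mem_iUnion.1 (hu.ge hxU)
  obtain ⟨O, C, hO, hC, e⟩ := (hE k).isLocallyClosed
  rw [e] at hk
  exact ⟨⟨O, hO⟩, hk.1, (hE k).mono (fun y hy => e ▸ ⟨hy.1, closure_minimal (by simpa using hk.2) hC hy.2⟩)
    (hO.isLocallyClosed.inter isClosed_closure.isLocallyClosed)⟩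

/-- a subsheaf meets a constant family in germs closed under generisation -/
theorem mem_range_of_specializes {F G : EtModW.Mod Λ X} (i : G ⟶ F) {U : X.Etale}
    {Ω : Type u} [Field Ω] [IsSepClosed Ω] {ξ : Spec (CommRingCat.of Ω) ⟶ X}
    (z : (Scheme.pointSmallEtale ξ).fiber.obj U)
    {k : Type u} [Field k] [IsAlgClosed k] {η : Spec (CommRingCat.of k) ⟶ X}
    (u' : (Scheme.pointSmallEtale η).fiber.obj U) (h : EtFound.ptOf u' ⤳ EtFound.ptOf z) (s : F.obj.obj (op U))
    (hs : ∃ x, (EtModW.stalk Λ ξ).map i x = (Scheme.pointSmallEtale ξ).toPresheafFiber U z F.obj s) :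
    ∃ x, (EtModW.stalk Λ η).map i x = (Scheme.pointSmallEtale η).toPresheafFiber U u' F.obj s := by
  obtain ⟨φ, rfl⟩ := EtFound.exists_pointHom ξ η z u' h
  obtain ⟨x, hx⟩ := hs
  refine ⟨(GrothendieckTopology.Point.Hom.sheafFiber (A := ModuleCat.{u + 1} Λ) φ).app G x, ?_⟩
  refine (ConcreteCategory.congr_hom
    ((GrothendieckTopology.Point.Hom.sheafFiber (A := ModuleCat.{u + 1} Λ) φ).naturality i) x).symm.trans ?_
  exact (congrArg ((GrothendieckTopology.Point.Hom.sheafFiber (A := ModuleCat.{u + 1} Λ) φ).app F) hx).trans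
    (stalk_pointHom_germ φ F z s)

/-- near a generic point a subsheaf of a locally constant sheaf is constant -/
theorem exists_constBy_sub [IsNoetherianRing Λ] [IsLocallyNoetherian X] {t : X} (ht : ∀ y, t ⤳ y)
    {F G : EtModW.Mod Λ X} (i : G ⟶ F) [Mono i] (hF : EtModW.IsFTLocConst Λ F) :
    ∃ (U : X.Etale) (p : U.left) (M : ModuleCat.{u + 1} Λ) (_ : Module.Finite Λ M) (χ : M ⟶ G.obj.obj (op U)),
      U.hom.base p = t ∧ EtFound.ConstBy G χ := by
  obtain ⟨Ω, _, _, ξ, hξ⟩ := exists_point t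
  obtain ⟨U, u₀, M, hM, φ, hφ⟩ := exists_constBy_at hF ξ
  let N : Submodule Λ M := Submodule.comap (φ ≫ (Scheme.pointSmallEtale ξ).toPresheafFiber U u₀ F.obj).hom
    (LinearMap.range ((EtModW.stalk Λ ξ).map i).hom)
  obtain ⟨k, s, hs⟩ := Module.Finite.exists_fin (R := Λ) (M := N)
  -- lifts of the generators of `N` on one neighbourhood
  have hl : ∀ (n : ℕ) (m : Fin n → M), (∀ j, m j ∈ N) → ∃ (V : X.Etale) (g : V ⟶ U)
      (v : (Scheme.pointSmallEtale ξ).fiber.obj V) (e : Fin n → G.obj.obj (op V)),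
      (Scheme.pointSmallEtale ξ).fiber.map g v = u₀ ∧
        ∀ j, i.hom.app (op V) (e j) = F.obj.map g.op (φ (m j)) := by
    intro n
    induction n with
    | zero => exact fun m _ => ⟨U, 𝟙 U, u₀, Fin.elim0, by simp, fun j => j.elim0⟩
    | succ n ih =>
      intro m hm
      obtain ⟨V, g, v, e, hv, he⟩ := ih (m ∘ Fin.succ) (fun j => hm _)
      obtain ⟨x, hx⟩ := hm 0
      let Φ := Scheme.pointSmallEtale ξ
      obtain ⟨W₀, w₀, r, rfl⟩ := Φ.toPresheafFiber_jointly_surjective x
      have hx' : Φ.toPresheafFiber W₀ w₀ F.obj (i.hom.app (op W₀) r) = Φ.toPresheafFiber U u₀ F.obj (φ (m 0)) :=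
        (Φ.toPresheafFiber_naturality_apply i.hom W₀ w₀ r).symm.trans hx
      obtain ⟨⟨T, t'⟩, ⟨a, ha⟩, ⟨b, hb⟩, -⟩ := IsCofilteredOrEmpty.cone_objs
        (Φ.fiber.elementsMk W₀ w₀) (Φ.fiber.elementsMk V v)
      obtain ⟨a', ha'⟩ : ∃ a' : T ⟶ W₀, Φ.fiber.map a' t' = w₀ := ⟨a, ha⟩
      obtain ⟨b', hb'⟩ : ∃ b' : T ⟶ V, Φ.fiber.map b' t' = v := ⟨b, hb⟩
      have hu : Φ.fiber.map (b' ≫ g) t' = u₀ := by rw [Functor.map_comp_apply, hb', hv]
      rw [← ha', ← hu, ← Φ.toPresheafFiber_w_apply, ← Φ.toPresheafFiber_w_apply] at hx'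
      obtain ⟨T', c, t'', ht'', hc⟩ := (Φ.toPresheafFiber_eq_iff' T t' _ _).1 hx'
      refine ⟨T', c ≫ b' ≫ g, t'', Fin.cons (G.obj.map (c ≫ a').op r) (fun j => G.obj.map (c ≫ b').op (e j)),
        by rw [Functor.map_comp_apply, ht'', hu], Fin.cases ?_ fun j => ?_⟩
      · rw [Fin.cons_zero, NatTrans.naturality_apply i.hom (c ≫ a').op r, op_comp, op_comp,
          Functor.map_comp_apply, Functor.map_comp_apply]
        exact hc
      · rw [Fin.cons_succ, NatTrans.naturality_apply i.hom (c ≫ b').op, he, ← ConcreteCategory.comp_apply,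
          ← Functor.map_comp, ← op_comp, Category.assoc]
        rfl
  obtain ⟨V, g, v, e, hv, he⟩ := hl k (fun j => (s j).1) fun j => (s j).2
  -- shrink to where every point is a specialisation of the generic one
  obtain ⟨W, hpW, hW⟩ := EtFound.exists_generic_open ht V ((EtFound.hom_ptOf v).trans hξ)
  let j : W.toScheme ⟶ V.left := W.ι
  have : AlgebraicGeometry.Etale (W.ι ≫ V.hom) :=
    have : AlgebraicGeometry.Etale V.hom := V.prop
    inferInstance
  let V' : X.Etale := Scheme.Etale.mk (W.ι ≫ V.hom)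
  let r : V' ⟶ V := MorphismProperty.Over.homMk W.ι rfl
  obtain ⟨q, hq⟩ := EtFound.exists_lift_open (v.left : Spec (CommRingCat.of Ω) ⟶ V.left) W fun z => by
    rw [Subsingleton.elim (α := Spec (CommRingCat.of Ω)) z default]
    exact hpW
  let v' : (Scheme.pointSmallEtale ξ).fiber.obj V' := CategoryTheory.Over.homMk q
    ((Category.assoc _ _ _).symm.trans ((congrArg (· ≫ V.hom) hq).trans (CategoryTheory.Over.w v)))
  have hv' : (Scheme.pointSmallEtale ξ).fiber.map (r ≫ g) v' = u₀ := by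
    rw [Functor.map_comp_apply, show (Scheme.pointSmallEtale ξ).fiber.map r v' = v from
      CategoryTheory.Over.OverMorphism.ext hq, hv]
  let ψ : M ⟶ F.obj.obj (op V') := φ ≫ F.obj.map (r ≫ g).op
  have hψ : EtFound.ConstBy F ψ := hφ.restrict (r ≫ g)
  have hN : ∀ m : M, m ∈ N → ψ m ∈ LinearMap.range (i.hom.app (op V')).hom := by
    intro m hm
    have : (⟨m, hm⟩ : N) ∈ Submodule.comap (ψ.hom.comp N.subtype) (LinearMap.range (i.hom.app (op V')).hom) := by
      have h : (⟨m, hm⟩ : N) ∈ Submodule.span Λ (Set.range s) := by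
        rw [hs]; exact Submodule.mem_top
      refine Submodule.span_le.2 ?_ h
      rintro _ ⟨l, rfl⟩
      refine ⟨G.obj.map r.op (e l), ?_⟩
      refine (NatTrans.naturality_apply i.hom r.op (e l)).trans ?_
      rw [he]
      show F.obj.map r.op (F.obj.map g.op (φ (s l).1)) = F.obj.map (r ≫ g).op (φ (s l).1)
      rw [op_comp, Functor.map_comp_apply]
    exact this
  choose lift hlift using fun m : N => hN m.1 m.2
  let χ : ModuleCat.of Λ N ⟶ G.obj.obj (op V') := ModuleCat.ofHom
    { toFun := lift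
      map_add' := fun a b => sect_injective i V' (by
        rw [map_add]; refine (hlift _).trans ?_; rw [hlift, hlift]; exact map_add ψ.hom a.1 b.1)
      map_smul' := fun c a => sect_injective i V' (by
        rw [RingHom.id_apply, map_smul]; refine (hlift _).trans ?_; rw [hlift]; exact map_smul ψ.hom c a.1) }
  refine ⟨V', EtFound.ptOf v', ModuleCat.of Λ N, inferInstance, χ, (EtFound.hom_ptOf v').trans hξ, fun K _ _ ζ z => ?_⟩
  have hmono := (mono_iff_stalks i).1 inferInstance K ζ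
  have hc : ∀ m : N, (EtModW.stalk Λ ζ).map i ((χ ≫ (Scheme.pointSmallEtale ζ).toPresheafFiber V' z G.obj) m) =
      (ψ ≫ (Scheme.pointSmallEtale ζ).toPresheafFiber V' z F.obj) m.1 := fun m =>
    (germ_naturality i z (lift m)).trans (congrArg ((Scheme.pointSmallEtale ζ).toPresheafFiber V' z F.obj) (hlift m))
  refine ⟨fun a b h => Subtype.ext ((hψ K ζ z).1 ((hc a).symm.trans ((congrArg _ h).trans (hc b)))), fun x => ?_⟩
  obtain ⟨m, hm⟩ := (hψ K ζ z).2 ((EtModW.stalk Λ ζ).map i x)
  have hp : EtFound.ptOf v' ⤳ EtFound.ptOf z := by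
    refine W.ι.isEmbedding.isInducing.specializes_iff.1 ?_
    refine (specializes_of_eq ?_).trans (hW _ (EtFound.ptOf z).2)
    exact (Scheme.Hom.comp_apply _ _ _).symm.trans (congrArg (fun k : Spec (CommRingCat.of Ω) ⟶ V.left =>
      k.base (default : Spec (CommRingCat.of Ω))) hq)
  have hmN : m ∈ N := by
    obtain ⟨y, hy⟩ := mem_range_of_specializes i z v' hp (ψ m) ⟨x, hm.symm⟩
    refine ⟨y, hy.trans ?_⟩
    show (Scheme.pointSmallEtale ξ).toPresheafFiber V' v' F.obj (F.obj.map (r ≫ g).op (φ m)) = _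
    rw [(Scheme.pointSmallEtale ξ).toPresheafFiber_w_apply, hv']
    rfl
  exact ⟨⟨m, hmN⟩, hmono ((hc ⟨m, hmN⟩).trans hm)⟩

/-- a constant family gives local constancy on the image -/
theorem isFTLocConst_pull_of_constBy {F : EtModW.Mod Λ X} {U : X.Etale} {M : ModuleCat.{u + 1} Λ} [Module.Finite Λ M]
    {φ : M ⟶ F.obj.obj (op U)} (h : EtFound.ConstBy F φ) (O : X.Opens)
    (hO : (O : Set X) ⊆ Set.range U.hom.base) : EtModW.IsFTLocConst Λ ((EtModW.pull Λ O.ι).obj F) := by
  refine isFTLocConst_of_constBy fun y => ?_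
  obtain ⟨z, hz⟩ : O.ι.base y ∈ Set.range U.hom.base := hO y.2
  obtain ⟨w, -, hw⟩ := Scheme.Pullback.exists_preimage_pullback (f := U.hom) (g := O.ι) z y hz
  exact ⟨_, w, M, inferInstance, _, hw, EtFound.constBy_pull O.ι h⟩

/-- subsheaves of constructible sheaves are constructible -/
theorem isConstructible_of_mono [IsNoetherianRing Λ] [IsLocallyNoetherian X] {F G : EtModW.Mod Λ X} (i : G ⟶ F)
    [Mono i] (hF : EtModW.IsConstructible Λ F) : EtModW.IsConstructible Λ G := by
  refine isConstructible_of_generic fun x => ?_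
  obtain ⟨V, hxV, T, g, hg, hr, hT⟩ := exists_generic_piece hF x
  obtain ⟨t, ht⟩ : x ∈ Set.range g.base := hr.ge ⟨hxV, subset_closure rfl⟩
  have : IsLocallyNoetherian T := LocallyOfFiniteType.isLocallyNoetherian g
  have htg : ∀ y, t ⤳ y := fun y => g.isEmbedding.isInducing.specializes_iff.1
    ((specializes_of_eq ht).trans (specializes_iff_mem_closure.2 ((hr.le ⟨y, rfl⟩).2)))
  obtain ⟨U, p, M, hM, χ, hp, hχ⟩ := exists_constBy_sub htg ((EtModW.pull Λ g).map i) hT
  have : AlgebraicGeometry.Etale U.hom := U.prop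
  let O : T.Opens := ⟨Set.range U.hom.base, U.hom.isOpenMap.isOpen_range⟩
  have h := isFTLocConst_pull_of_constBy hχ O subset_rfl
  obtain ⟨O', hO', hOe⟩ := g.isEmbedding.isInducing.isOpen_iff.1 O.2
  refine ⟨V ⊓ ⟨O', hO'⟩, ⟨hxV, ht ▸ hOe.ge (show t ∈ O from ⟨p, hp⟩)⟩, _, O.ι ≫ g, inferInstance, ?_,
    isFTLocConst_of_iso ((pullCompMod O.ι g).app G).symm h⟩
  rw [Scheme.Hom.comp_base, TopCat.coe_comp, Set.range_comp, O.range_ι, show (O : Set T) = g.base ⁻¹' O' from hOe.symm,
    Set.image_preimage_eq_inter_range, hr]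
  ext y
  exact ⟨fun ⟨h1, h2, h3⟩ => ⟨⟨h2, h1⟩, h3⟩, fun ⟨⟨h1, h2⟩, h3⟩ => ⟨h2, h1, h3⟩⟩

/-- quotients of constructible sheaves are constructible -/
theorem isConstructible_of_epi [IsNoetherianRing Λ] [IsLocallyNoetherian X] {F Q : EtModW.Mod Λ X} (π : F ⟶ Q)
    [Epi π] (hF : EtModW.IsConstructible Λ F) : EtModW.IsConstructible Λ Q :=
  isConstructible_of_iso
    ((cokernelIsCokernel (kernel.ι π)).coconePointUniqueUpToIso
      (Abelian.epiIsCokernelOfKernel (KernelFork.ofι _ (kernel.condition π)) (kernelIsKernel π)))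
    (isConstructible_cokernel (kernel.ι π) (isConstructible_of_mono (kernel.ι π) hF) hF)

end Groth.Agent.EtModLC71
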