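import Groth.Agent.EtModLC71.AR
import Groth.Agent.EtModLC71.ConstrSerre
import Groth.Agent.EtModLC71.Generic
import Groth.Agent.EtModLC71.Noeth
import Groth.Agent.EtModLC71.Adic
import Groth.Agent.ARLib.Invariance

/-!
# Detecting systems adic up to translation by a finite family of functors
-/

universe w v v' u u'

open CategoryTheory CategoryTheory.Limits Opposite ARSys Groth.Agent.ARLib

namespace Groth.Agent.EtModLC71

set_option backward.isDefEq.respectTransparency.types false

section general

variable {C : Type u} [Category.{v} C] [Abelian C] {A : Type w} [CommRing A] [Linear A C] {J : Ideal A}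

/-- a system adic up to translation is so through quotients of the members of the target -/
theorem prop_of_arIso {P : C → Prop} (hP : ∀ {E Q : C} (q : E ⟶ Q), Epi q → P E → P Q) {Y X : PS C} (u : Y ⟶ X)
    (hY : IsAdic J Y) (hu : IsARIso u) (hX : ∀ n : ℕ, P (X.obj (op n))) (n : ℕ) : P (Y.obj (op n)) := by
  obtain ⟨r, ⟨I⟩⟩ := exists_inv hu
  exact hP _ (epi_ψ_of_strict (isStrict_of_isAdic hY) I n) (hX (n + r))

theorem isMLAR_of_detect {ι : Type*} [Finite ι] {D : ι → Type u'} [∀ i, Category.{v'} (D i)] [∀ i, Abelian (D i)]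
    (G : ∀ i, C ⥤ D i) [∀ i, (G i).Additive] {X : PS C}
    (h0 : ∀ {E E' : C} (f : E ⟶ E'), (∀ i, (G i).map f = 0) → f = 0) (h : ∀ i, IsMLAR (X ⋙ G i)) : IsMLAR X := by
  choose r hr using h
  obtain ⟨R, hR⟩ := Finite.exists_le r
  refine ⟨R, fun s hs n => le_antisymm ((imageSubobject_le_iff (sm X s n) (sm X R n)).2
    ⟨_, 𝟙 _, inferInstance, tr X (Nat.add_le_add_left hs n), (Category.id_comp _).trans (tr_tr X _ _).symm⟩) ?_⟩
  have h0' : sm X R n ≫ cokernel.π (sm X s n) = 0 := h0 _ fun i => by
    obtain ⟨T, π, hπ, z, hz⟩ := (imageSubobject_le_iff (sm (X ⋙ G i) R n) (sm (X ⋙ G i) s n)).1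
      (le_of_eq ((hr i R (hR i) n).trans (hr i s ((hR i).trans hs) n).symm))
    rw [← cancel_epi π, comp_zero, Functor.map_comp, ← Category.assoc]
    change (π ≫ sm (X ⋙ G i) R n) ≫ _ = 0
    rw [hz, Category.assoc]
    change z ≫ (G i).map (sm X s n) ≫ _ = 0
    rw [← Functor.map_comp, cokernel.condition, Functor.map_zero, comp_zero]
  obtain ⟨T, π, hπ, z, hz⟩ := surjective_up_to_refinements_of_epi (Abelian.factorThruImage (sm X s n))
    (Abelian.monoLift (Abelian.image.ι (sm X s n)) (sm X R n)
      (by rw [show cokernel.π (Abelian.image.ι (sm X s n)) =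
            cokernel.π (sm X s n) ≫ cokernel.desc _ (cokernel.π _) (by
              conv => enter [1, 1]; rw [← Abelian.image.fac (sm X s n)]
              rw [Category.assoc, cokernel.condition, comp_zero]) by rw [cokernel.π_desc],
          ← Category.assoc, h0', zero_comp]))
  refine (imageSubobject_le_iff (sm X R n) (sm X s n)).2 ⟨T, π, hπ, z, ?_⟩
  have := congrArg (· ≫ Abelian.image.ι (sm X s n)) hz
  simpa using this

/-- being adic up to translation is detected by a family of functors which detects zero morphisms -/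
theorem isARAdic_of_detect (hJ : J.FG) {ι : Type*} [Finite ι] {D : ι → Type u'} [∀ i, Category.{v'} (D i)]
    [∀ i, Abelian (D i)] [∀ i, Linear A (D i)]
    (G : ∀ i, C ⥤ D i) [∀ i, (G i).Additive] [∀ i, Functor.Linear A (G i)] [∀ i, (G i).PreservesEpimorphisms]
    {X : PS C} (kX : TermKilled J X)
    (h0 : ∀ {E E' : C} (f : E ⟶ E'), (∀ i, (G i).map f = 0) → f = 0)
    (h : ∀ i, IsARAdic J (X ⋙ G i)) : IsARAdic J X := by
  obtain ⟨X', u, hX', hu, _⟩ := exists_strict_arIso X (isMLAR_of_detect G h0 fun i => isMLAR_of_isARAdic (h i))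
  have kX' : TermKilled J X' := termKilled_of_mono u kX
  have hfac : ∀ i, ∃ r, Factors J (X' ⋙ G i) r := fun i => by
    obtain ⟨r, hr⟩ := factors_of_isARAdic (h i)
    exact factors_transfer (Functor.whiskerRight u (G i)) (isARIso_map (G i) hu) hr
  choose r hr using hfac
  obtain ⟨R, hR⟩ := Finite.exists_le r
  refine isARAdic_of_arIso (isARAdic_of_factors (Or.inl hJ) kX' (isMLAR_of_isStrict hX') (r := R)
    fun k m a hkm ha hma hka T φ hφ => ?_) u hu kX
  by_cases hm : m ≤ k + R
  · exact ⟨tr X' hm ≫ φ, (tr_tr_assoc X' _ _ _).symm⟩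
  have hk : k + R ≤ m := le_of_not_ge hm
  have : Epi (tr X' hk) := hX' _ _ hk
  have hker : kernel.ι (tr X' hk) ≫ φ = 0 := h0 _ fun i => by
    have hG : IsStrict (X' ⋙ G i) := fun n m' h' =>
      have : Epi (tr X' h') := hX' n m' h'
      inferInstanceAs (Epi ((G i).map (tr X' h')))
    obtain ⟨θ, hθ⟩ := exists_fac_of_strict hG (hr i) (show k + r i ≤ m by have := hR i; omega) ((G i).map φ)
      (fun b hb => by rw [← Functor.map_smul, hφ b hb, Functor.map_zero])
    rw [Functor.map_comp, ← hθ]
    change (G i).map (kernel.ι (tr X' hk)) ≫ (G i).map (tr X' _) ≫ θ = 0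
    rw [← tr_tr X' (show k + r i ≤ k + R by have := hR i; omega) hk, Functor.map_comp, Category.assoc,
      ← Functor.map_comp_assoc, kernel.condition, Functor.map_zero, zero_comp]
  refine ⟨Abelian.epiDesc (tr X' hk) φ hker, ?_⟩
  rw [← tr_tr_assoc X' hk hma, Abelian.comp_epiDesc]

end general

end Groth.Agent.EtModLC71
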