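import Groth.Agent.EtModLC71.Detect

/-!
# Systems of constructible sheaves adic up to translation: locality, lisse case
-/

universe u

open CategoryTheory CategoryTheory.Limits AlgebraicGeometry Opposite ARSys

namespace Groth.Agent.EtModLC71

set_option backward.isDefEq.respectTransparency.types false

variable (Λ : Type (u + 1)) [CommRing Λ] (X : Scheme.{u})

/-- the property of being locally constant of finite type -/
def lcProp : ObjectProperty (EtModW.Mod Λ X) := fun E => EtModW.IsFTLocConst Λ E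

instance isWeakSerre_lcProp [IsNoetherianRing Λ] : WSerre.IsWeakSerre (lcProp Λ X) :=
  have z : (lcProp Λ X).ContainsZero := by
    obtain ⟨Z, hZ⟩ := HasZeroObject.zero (C := EtModW.Mod Λ X)
    exact ⟨Z, hZ, isFTLocConst_of_isZero hZ⟩
  have k : (lcProp Λ X).IsClosedUnderKernels := ⟨fun _ h => by
    obtain @⟨E, B, f, c, hc, hE, hB⟩ := h
    exact isFTLocConst_of_iso ((kernelIsKernel f).conePointUniqueUpToIso hc)
      (isFTLocConst_of_kernel (S := ShortComplex.mk (kernel.ι f) f (kernel.condition f))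
        (ShortComplex.exact_of_f_is_kernel _ (kernelIsKernel f)) hE hB)⟩
  have c : (lcProp Λ X).IsClosedUnderCokernels := ⟨fun _ h => by
    obtain @⟨E, B, f, c, hc, hE, hB⟩ := h
    exact isFTLocConst_of_iso ((cokernelIsCokernel f).coconePointUniqueUpToIso hc)
      (isFTLocConst_of_cokernel (S := ShortComplex.mk f (cokernel.π f) (cokernel.condition f))
        (ShortComplex.exact_of_g_is_cokernel _ (cokernelIsCokernel f)) hE hB)⟩
  have e : (lcProp Λ X).IsClosedUnderExtensions := ⟨fun hS h₁ h₃ => isFTLocConst_of_extension hS h₁ h₃⟩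
  { toContainsZero := z, toIsClosedUnderKernels := k, toIsClosedUnderCokernels := c, toIsClosedUnderExtensions := e }

variable {Λ X}

/-- systems adic up to translation with constructible members -/
theorem exists_constructible_of_isARAdic [IsNoetherianRing Λ] [IsLocallyNoetherian X] {I : Ideal Λ}
    {F : PS (EtModW.Mod Λ X)} (hc : ∀ n : ℕ, EtModW.IsConstructible Λ (F.obj (op n))) (h : IsARAdic I F) :
    TermKilled I F ∧ ∃ (Y : PS (EtModW.Mod Λ X)) (v : Y ⟶ F),
      IsAdic I Y ∧ (∀ n : ℕ, EtModW.IsConstructible Λ (Y.obj (op n))) ∧ IsARIso v := by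
  obtain ⟨hk, Y, v, hY, hv⟩ := h
  exact ⟨hk, Y, v, hY, prop_of_arIso (P := fun E => EtModW.IsConstructible Λ E)
    (fun q hq hE => @isConstructible_of_epi _ _ _ _ _ _ _ q hq hE) v hY hv hc, hv⟩

/-- inverse images of systems adic up to translation -/
theorem isARAdic_pull [IsNoetherianRing Λ] {Y : Scheme.{u}} (f : Y ⟶ X) {I : Ideal Λ} {F : PS (EtModW.Mod Λ X)}
    (h : IsARAdic I F) : IsARAdic I (F ⋙ EtModW.pull Λ f) := by
  obtain ⟨hk, Z, v, hZ, hv⟩ := h
  exact ⟨termKilled_map _ hk, _, Functor.whiskerRight v (EtModW.pull Λ f),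
    isAdic_map _ (IsNoetherian.noetherian I) hZ, isARIso_map _ hv⟩

/-- jointly surjective inverse images detect zero morphisms -/
theorem eq_zero_of_pull {ι : Type*} {T : ι → Scheme.{u}} (g : ∀ i, T i ⟶ X)
    (hg : (⋃ i, Set.range (g i).base) = Set.univ) {E E' : EtModW.Mod Λ X} (f : E ⟶ E')
    (h : ∀ i, (EtModW.pull Λ (g i)).map f = 0) : f = 0 := by
  refine EtFound.eq_of_stalks _ _ fun k _ _ ζ => Eq.trans ?_ ((EtModW.stalk Λ ζ).map_zero _ _).symm
  obtain ⟨i, t, ht⟩ := Set.mem_iUnion.1 (hg.ge (Set.mem_univ (ζ.base (default : Spec (CommRingCat.of k)))))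
  obtain ⟨L, _, _, θ, hθ⟩ := exists_point t
  obtain ⟨e⟩ := nonempty_stalk_iso (Λ := Λ) ζ (θ ≫ g i) (by rw [Scheme.Hom.comp_apply, hθ, ht])
  refine (map_eq_zero_iff_of_natIso e f).2 ((map_eq_zero_iff_of_natIso (stalkPullMod (Λ := Λ) (g i) θ) f).1 ?_)
  show (EtModW.stalk Λ θ).map ((EtModW.pull Λ (g i)).map f) = 0
  rw [h i, Functor.map_zero]

/-- adicity up to translation is local for jointly surjective families -/
theorem isARAdic_of_pull [IsNoetherianRing Λ] {ι : Type*} [Finite ι] {T : ι → Scheme.{u}} (g : ∀ i, T i ⟶ X)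
    (hg : (⋃ i, Set.range (g i).base) = Set.univ) {I : Ideal Λ} {F : PS (EtModW.Mod Λ X)} (hk : TermKilled I F)
    (h : ∀ i, IsARAdic I (F ⋙ EtModW.pull Λ (g i))) : IsARAdic I F :=
  isARAdic_of_detect (IsNoetherian.noetherian I) (fun i => EtModW.pull Λ (g i)) hk
    (fun f hf => eq_zero_of_pull g hg f hf) h

/-- on a connected scheme one stalk detects zero morphisms between lisse sheaves -/
theorem eq_zero_of_stalk [IsNoetherian X] [ConnectedSpace X] {E E' : EtModW.Mod Λ X}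
    (hE' : EtModW.IsFTLocConst Λ E') (f : E ⟶ E') (hE : EtModW.IsFTLocConst Λ E) {Ω : Type u} [Field Ω]
    [IsSepClosed Ω] (ξ : Spec (CommRingCat.of Ω) ⟶ X) (h : (EtModW.stalk Λ ξ).map f = 0) : f = 0 := by
  let S : Set X := {x | ∀ (k : Type u) [Field k] [IsSepClosed k] (ζ : Spec (CommRingCat.of k) ⟶ X),
    ζ.base (default : Spec (CommRingCat.of k)) = x → (EtModW.stalk Λ ζ).map f = 0}
  have hcongr : ∀ {k k' : Type u} [Field k] [IsSepClosed k] [Field k'] [IsSepClosed k']
      (ζ : Spec (CommRingCat.of k) ⟶ X) (ζ' : Spec (CommRingCat.of k') ⟶ X),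
      ζ.base (default : Spec (CommRingCat.of k)) = ζ'.base (default : Spec (CommRingCat.of k')) →
        (EtModW.stalk Λ ζ).map f = 0 → (EtModW.stalk Λ ζ').map f = 0 := by
    intro k k' _ _ _ _ ζ ζ' e h0
    obtain ⟨i⟩ := nonempty_stalk_iso (Λ := Λ) ζ ζ' e
    exact (map_eq_zero_iff_of_natIso i f).1 h0
  have hS : S = Set.univ := by
    refine eq_univ_of_stable S ⟨_, fun k _ _ ζ hζ => hcongr ξ ζ hζ.symm h⟩ fun x y hxy => ?_
    obtain ⟨K, _, _, η, hη⟩ := exists_point x
    obtain ⟨L, _, _, θ, hθ⟩ := exists_point y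
    let T₀ : X.Etale := Scheme.Etale.mk (𝟙 X)
    let u : (Scheme.pointSmallEtale θ).fiber.obj T₀ := CategoryTheory.Over.homMk θ (Category.comp_id _)
    let v : (Scheme.pointSmallEtale η).fiber.obj T₀ := CategoryTheory.Over.homMk η (Category.comp_id _)
    obtain ⟨a, -⟩ := EtFound.exists_pointHom θ η u v
      ((specializes_of_eq hη).trans (hxy.trans (specializes_of_eq hθ.symm)))
    let α : EtModW.stalk Λ θ ⟶ EtModW.stalk Λ η := GrothendieckTopology.Point.Hom.sheafFiber a
    have n : (EtModW.stalk Λ θ).map f ≫ α.app E' = α.app E ≫ (EtModW.stalk Λ η).map f := α.naturality f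
    have i1 : IsIso (α.app E) := isIso_pointHom hE a
    have i2 : IsIso (α.app E') := isIso_pointHom hE' a
    refine ⟨fun hx k _ _ ζ hζ => hcongr θ ζ (hθ.trans hζ.symm) ?_, fun hy k _ _ ζ hζ => hcongr η ζ (hη.trans hζ.symm) ?_⟩
    · refine (@cancel_mono _ _ _ _ _ (α.app E') (@IsIso.mono_of_iso _ _ _ _ _ i2) _ _).1 ?_
      exact n.trans ((congrArg (α.app E ≫ ·) (hx K η hη)).trans (comp_zero.trans zero_comp.symm))
    · refine (@cancel_epi _ _ _ _ _ (α.app E) (@IsIso.epi_of_iso _ _ _ _ _ i1) _ _).1 ?_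
      exact n.symm.trans ((congrArg (· ≫ α.app E') (hy L θ hθ)).trans (zero_comp.trans comp_zero.symm))
  refine EtFound.eq_of_stalks _ _ fun k _ _ ζ => Eq.trans ?_ ((EtModW.stalk Λ ζ).map_zero _ _).symm
  exact (hS.ge (Set.mem_univ _) : ζ.base (default : Spec (CommRingCat.of k)) ∈ S) k ζ rfl

/-- a lisse system on a connected scheme is adic up to translation when one of its stalk systems is -/
theorem isARAdic_of_stalk [IsNoetherianRing Λ] [IsNoetherian X] [ConnectedSpace X] {I : Ideal Λ}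
    {F : PS (EtModW.Mod Λ X)} (hl : ∀ n : ℕ, EtModW.IsFTLocConst Λ (F.obj (op n))) (hk : TermKilled I F)
    {Ω : Type u} [Field Ω] [IsSepClosed Ω] (ξ : Spec (CommRingCat.of Ω) ⟶ X)
    (h : IsARAdic I (F ⋙ EtModW.stalk Λ ξ)) : IsARAdic I F := by
  let P := lcProp Λ X
  let G : P.FullSubcategory ⥤ ModuleCat.{u + 1} Λ := P.ι ⋙ EtModW.stalk Λ ξ
  have : G.PreservesEpimorphisms := inferInstanceAs ((P.ι ⋙ EtModW.stalk Λ ξ).PreservesEpimorphisms)
  have h' : IsARAdic I (liftPS P F hl) := isARAdic_of_detect (IsNoetherian.noetherian I) (fun _ : Unit => G)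
    (termKilled_liftPS P hl hk)
    (fun {E E'} f hf => P.ι.map_injective ((eq_zero_of_stalk E'.2 (P.ι.map f) E.2 ξ (hf ())).trans
      (P.ι.map_zero _ _).symm))
    (fun _ => h)
  obtain ⟨hk', Y, v, hY, -, hv⟩ := isARAdic_of_sub P h' (Z := F) (Iso.refl _)
  exact ⟨hk', Y, v, hY, hv⟩

/-- stalk systems of systems adic up to translation of constructible sheaves -/
theorem exists_finite_of_isARAdic [IsNoetherianRing Λ] {I : Ideal Λ} {F Y : PS (EtModW.Mod Λ X)} (v : Y ⟶ F)
    (hk : TermKilled I F) (hY : IsAdic I Y) (hYc : ∀ n : ℕ, EtModW.IsConstructible Λ (Y.obj (op n))) (hv : IsARIso v)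
    {Ω : Type u} [Field Ω] [IsSepClosed Ω] (ξ : Spec (CommRingCat.of Ω) ⟶ X) :
    TermKilled I (F ⋙ EtModW.stalk Λ ξ) ∧ ∃ (Z : PS (ModuleCat.{u + 1} Λ)) (w : Z ⟶ F ⋙ EtModW.stalk Λ ξ),
      IsAdic I Z ∧ (∀ n : ℕ, Module.Finite Λ (Z.obj (op n))) ∧ IsARIso w :=
  ⟨termKilled_map _ hk, _, Functor.whiskerRight v (EtModW.stalk Λ ξ),
    isAdic_map _ (IsNoetherian.noetherian I) hY, fun n => finite_stalk (hYc n) ξ, isARIso_map _ hv⟩

end Groth.Agent.EtModLC71
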