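import Groth.Agent.EtModLC71.WcLift
import Groth.Agent.EtModLC71.ClosedSite
import Groth.Agent.ProEtLib.Cover

/-!
# Good objects for a closed immersion

Affine w-contractible objects all whose points specialize to the closed subscheme; their reductions
cover the pro-etale site of the closed subscheme.
-/

universe u

open CategoryTheory CategoryTheory.Limits AlgebraicGeometry Opposite

namespace Groth.Agent.EtModLC71

set_option backward.isDefEq.respectTransparency.types false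

/-- affine w-contractible objects all whose points specialize to the closed subscheme -/
structure IsGood {Z X : Scheme.{u}} (i : Z ⟶ X) (V : X.ProEt) : Prop where
  affine : IsAffine V.left
  wc : EtPBC.IsWContractible Γ(V.left, ⊤)
  spec : ∀ v : V.left, ∃ z : V.left, V.hom.base z ∈ Set.range i.base ∧ v ⤳ z

/-- weakly etale algebras over a quotient are covered by reductions of good algebras -/
theorem exists_good_cover_quotient {A : CommRingCat.{u}} (I : Ideal A) {T : Scheme.{u}} [IsAffine T]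
    (t : T ⟶ Spec (CommRingCat.of (A ⧸ I))) [WeaklyEtale t] :
    ∃ (V T' : Scheme.{u}) (q : V ⟶ Spec A) (a : T' ⟶ V) (b : T' ⟶ Spec (CommRingCat.of (A ⧸ I)))
      (π : T' ⟶ T), WeaklyEtale q ∧ QuasiCompact π ∧ Surjective π ∧ IsAffine V ∧ EtPBC.IsWContractible Γ(V, ⊤) ∧
      (∀ v : V, ∃ y : T', v ⤳ a.base y) ∧ π ≫ t = b ∧
      IsPullback a b q (Spec.map (CommRingCat.ofHom (Ideal.Quotient.mk I))) := by
  let B := Γ(T, ⊤)
  let φ : CommRingCat.of (A ⧸ I) ⟶ B := Spec.preimage (T.isoSpec.inv ≫ t)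
  have hφ : Spec.map φ = T.isoSpec.inv ≫ t := Spec.map_preimage _
  let := φ.hom.toAlgebra
  have hwe : Algebra.WeaklyEtale (A ⧸ I) B := by
    refine (ProEtLib.weaklyEtale_spec_iff φ).1 ?_
    rw [hφ]
    infer_instance
  obtain ⟨B', _, _, _, _, C, _, _, hff, hC, hh, hwc, ⟨e⟩⟩ := exists_wc_cover_quotient I B
  have := hC
  let p : CommRingCat.of C ⟶ CommRingCat.of B' :=
    CommRingCat.ofHom (e.toRingEquiv.toRingHom.comp (Ideal.Quotient.mk (I.map (algebraMap A C))))
  have hpo : IsPushout (CommRingCat.ofHom (algebraMap A (A ⧸ I))) (CommRingCat.ofHom (algebraMap A C))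
      (CommRingCat.ofHom (algebraMap (A ⧸ I) B')) p :=
    (CommRingCat.isPushout_tensorProduct A (A ⧸ I) C).of_iso (Iso.refl _) (Iso.refl _) (Iso.refl _)
      (((Algebra.TensorProduct.quotIdealMapEquivQuotTensor C I).symm.trans e).toRingEquiv.toCommRingCatIso)
      (by simp) (by simp) (CommRingCat.hom_ext (RingHom.ext fun x => by
        exact ((Algebra.TensorProduct.quotIdealMapEquivQuotTensor C I).symm.trans e).commutes x))
      (CommRingCat.hom_ext (RingHom.ext fun c => by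
        show e ((Algebra.TensorProduct.quotIdealMapEquivQuotTensor C I).symm _) = e _
        congr 1
        rw [AlgEquiv.symm_apply_eq]
        exact (Algebra.TensorProduct.quotIdealMapEquivQuotTensor_mk _ _ _).symm))
  let π : Spec (CommRingCat.of B') ⟶ T := Spec.map (CommRingCat.ofHom (algebraMap B B')) ≫ T.isoSpec.inv
  have : Surjective (Spec.map (CommRingCat.ofHom (algebraMap B B'))) :=
    ⟨PrimeSpectrum.comap_surjective_of_faithfullyFlat⟩
  refine ⟨Spec (CommRingCat.of C), Spec (CommRingCat.of B'), Spec.map (CommRingCat.ofHom (algebraMap A C)),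
    Spec.map p, Spec.map (CommRingCat.ofHom (algebraMap (A ⧸ I) B')), π, ProEtLib.weaklyEtale_spec A C,
    inferInstanceAs (QuasiCompact (_ ≫ _)), inferInstanceAs (Surjective (_ ≫ _)), inferInstance,
    ProEtLib.wContractible_of_ringEquiv (Scheme.ΓSpecIso (CommRingCat.of C)).symm.commRingCatIsoToRingEquiv hwc,
    fun v => ?_, ?_, (isPullback_SpecMap_of_isPushout _ _ _ _ hpo).flip⟩
  · obtain ⟨M, hM, hle⟩ := Ideal.exists_le_maximal (v : PrimeSpectrum C).asIdeal (v : PrimeSpectrum C).isPrime.ne_top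
    have hJM : I.map (algebraMap A C) ≤ M :=
      (HenselianRing.jac (I := I.map (algebraMap A C))).trans (sInf_le ⟨bot_le, hM⟩)
    have hsur : Function.Surjective p.hom := e.surjective.comp Ideal.Quotient.mk_surjective
    have hMr : (⟨M, hM.isPrime⟩ : PrimeSpectrum C) ∈ Set.range (PrimeSpectrum.comap p.hom) := by
      rw [range_comap_of_surjective _ _ hsur, PrimeSpectrum.mem_zeroLocus]
      intro z hz
      have h0 : e (Ideal.Quotient.mk (I.map (algebraMap A C)) z) = 0 := hz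
      exact hJM (Ideal.Quotient.eq_zero_iff_mem.1 (e.injective (h0.trans (map_zero e).symm)))
    obtain ⟨y, hy⟩ := hMr
    refine ⟨y, ?_⟩
    show (v : PrimeSpectrum C) ⤳ PrimeSpectrum.comap p.hom y
    rw [hy]
    exact (PrimeSpectrum.le_iff_specializes (v : PrimeSpectrum C) ⟨M, hM.isPrime⟩).1 hle
  rw [Category.assoc, ← hφ, ← Spec.map_comp]
  refine congrArg Spec.map (CommRingCat.hom_ext (RingHom.ext fun x => ?_))
  exact (IsScalarTower.algebraMap_apply (A ⧸ I) B B' x).symm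

variable {Z X : Scheme.{u}} (i : Z ⟶ X) [IsClosedImmersion i]

/-- every object over the closed subscheme is covered by restrictions of good objects -/
theorem exists_good_cover (T : Z.ProEt) :
    ∃ (ι : Type u) (V : ι → X.ProEt) (g : ∀ k, (ProEtS.bcP i).obj (V k) ⟶ T),
      Sieve.generate (Presieve.ofArrows (fun k => (ProEtS.bcP i).obj (V k)) g) ∈ Scheme.ProEt.topology Z T ∧
      ∀ k, IsGood i (V k) := by
  have key : ∀ x : T.left, ∃ (O : T.left.Opens), x ∈ O ∧
      ∃ (V : X.ProEt) (g : (ProEtS.bcP i).obj V ⟶ ProEtLib.opObj T O), QuasiCompact g.left ∧ Surjective g.left ∧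
        IsGood i V := by
    intro x
    obtain ⟨Xb, hXb, hx, -⟩ := exists_isAffineOpen_mem_and_subset
      (show i.base (T.hom.base x) ∈ (⊤ : X.Opens) from trivial)
    obtain ⟨O, hO, hxO, hOle⟩ := exists_isAffineOpen_mem_and_subset
      (show x ∈ T.hom ⁻¹ᵁ (i ⁻¹ᵁ Xb) from hx)
    have : IsAffine O.toScheme := hO
    have : IsAffine Xb.toScheme := hXb
    have : IsClosedImmersion (i ∣_ Xb) := inferInstance
    obtain ⟨hZb, hs⟩ := IsClosedImmersion.isAffine_surjective_of_isAffine (f := i ∣_ Xb)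
    let ψ : Γ(Xb.toScheme, ⊤) ⟶ Γ((i ⁻¹ᵁ Xb).toScheme, ⊤) := (i ∣_ Xb).appTop
    let I : Ideal Γ(Xb.toScheme, ⊤) := RingHom.ker ψ.hom
    let eq : CommRingCat.of (Γ(Xb.toScheme, ⊤) ⧸ I) ≅ Γ((i ⁻¹ᵁ Xb).toScheme, ⊤) :=
      (RingHom.quotientKerEquivOfSurjective hs).toCommRingCatIso
    let eZ : (i ⁻¹ᵁ Xb).toScheme ≅ Spec (CommRingCat.of (Γ(Xb.toScheme, ⊤) ⧸ I)) :=
      (i ⁻¹ᵁ Xb).toScheme.isoSpec ≪≫ Scheme.Spec.mapIso eq.op
    have hsq : IsPullback (i ∣_ Xb) eZ.hom Xb.toScheme.isoSpec.hom (Spec.map (CommRingCat.ofHom (Ideal.Quotient.mk I))) := by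
      refine IsPullback.of_vert_isIso ⟨?_⟩
      rw [← Scheme.isoSpec_hom_naturality (i ∣_ Xb)]
      show _ = ((i ⁻¹ᵁ Xb).toScheme.isoSpec.hom ≫ Spec.map eq.hom) ≫ _
      rw [Category.assoc, ← Spec.map_comp]
      rfl
    let jO : O.toScheme ⟶ (i ⁻¹ᵁ Xb).toScheme := IsOpenImmersion.lift (i ⁻¹ᵁ Xb).ι (O.ι ≫ T.hom) (by
      rintro _ ⟨y, rfl⟩
      rw [Scheme.Opens.range_ι]
      exact hOle y.2)
    have hjO : jO ≫ (i ⁻¹ᵁ Xb).ι = O.ι ≫ T.hom := IsOpenImmersion.lift_fac _ _ _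
    have : WeaklyEtale T.hom := T.prop
    have : WeaklyEtale (jO ≫ (i ⁻¹ᵁ Xb).ι) := by rw [hjO]; infer_instance
    have : WeaklyEtale jO := MorphismProperty.of_postcomp (W := @WeaklyEtale) (W' := @WeaklyEtale) jO
      (i ⁻¹ᵁ Xb).ι inferInstance inferInstance
    obtain ⟨V, T', q, a, b, π, hq, hπ, hπs, hVa, hwc, hsp, hb, hp⟩ := exists_good_cover_quotient I (jO ≫ eZ.hom)
    have hp' : IsPullback a (π ≫ O.ι ≫ T.hom) (q ≫ Xb.toScheme.isoSpec.inv ≫ Xb.ι) i := by
      have h2 : IsPullback a (π ≫ jO) (q ≫ Xb.toScheme.isoSpec.inv) (i ∣_ Xb) :=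
        hp.of_iso (Iso.refl _) (Iso.refl _) eZ.symm Xb.toScheme.isoSpec.symm (by simp)
          (by simp [← hb]) (by simp) (by
            rw [Iso.symm_hom, Iso.symm_hom, ← cancel_epi eZ.hom, eZ.hom_inv_id_assoc, ← Category.assoc]
            exact (Iso.comp_inv_eq _).2 hsq.w.symm)
      have h3 := h2.paste_vert (isPullback_morphismRestrict i Xb)
      rwa [Category.assoc, Category.assoc, hjO] at h3
    have : WeaklyEtale (π ≫ O.ι ≫ T.hom) :=
      MorphismProperty.of_isPullback (P := @WeaklyEtale) hp' inferInstance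
    let V' : X.ProEt := Scheme.ProEt.mk (q ≫ Xb.toScheme.isoSpec.inv ≫ Xb.ι)
    let W : Z.ProEt := Scheme.ProEt.mk (π ≫ O.ι ≫ T.hom)
    let g : W ⟶ ProEtLib.opObj T O := MorphismProperty.Over.homMk π
    let iW : W ≅ (ProEtS.bcP i).obj V' := MorphismProperty.Over.isoMk hp'.isoPullback hp'.isoPullback_hom_snd
    have : QuasiCompact π := hπ
    have : Surjective π := hπs
    let e' := hp'.isoPullback
    refine ⟨O, hxO, V', iW.inv ≫ g, inferInstanceAs (QuasiCompact (hp'.isoPullback.inv ≫ π)),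
      inferInstanceAs (Surjective (hp'.isoPullback.inv ≫ π)), ⟨hVa, hwc, fun v => ?_⟩⟩
    obtain ⟨y, hy⟩ := hsp v
    exact ⟨a.base y, ⟨(π ≫ O.ι ≫ T.hom).base y, (congrArg (fun r : T' ⟶ X => r.base y) hp'.w).symm⟩, hy⟩
  choose O hxO V g hq hs hgood using key
  refine ⟨T.left, V, fun x => g x ≫ ProEtLib.opHom T (O x), ?_, hgood⟩
  refine (Scheme.ProEt.topology Z).transitive
    (ProEtLib.opens_mem_topology T O fun x => ⟨x, hxO x⟩) _ ?_
  rintro Y f ⟨Y', a, _, ⟨x⟩, rfl⟩
  rw [Sieve.pullback_comp]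
  refine (Scheme.ProEt.topology Z).pullback_stable a
    (GrothendieckTopology.superset_covering _ ?_ (ProEtLib.singleton_mem_topology (g x)))
  rintro W' h ⟨W'', b, _, ⟨⟩, rfl⟩
  exact ⟨_, b, _, ⟨x⟩, (Category.assoc _ _ _).symm⟩

end Groth.Agent.EtModLC71
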