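import Groth.Agent.EtModLC71.Recoll
import Groth.Agent.EtModLC71.GoodCover
import Mathlib.CategoryTheory.Limits.Preserves.Limits
import Mathlib.CategoryTheory.Sites.LocallyBijective

/-!
# Sections of inverse images along closed immersions

On good objects the unit is bijective, so inverse images along closed immersions preserve all
limits which exist in the coefficient category.
-/

universe u v w

open CategoryTheory CategoryTheory.Limits AlgebraicGeometry Opposite

namespace Groth.Agent.EtModLC71

set_option backward.isDefEq.respectTransparency.types false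
set_option linter.unusedSectionVars false

variable {A : Type (u + 2)} [Category.{u + 1} A] {FA : A → A → Type (u + 1)} {CA : A → Type (u + 1)}
  [∀ P Q, FunLike (FA P Q) (CA P) (CA Q)] [ConcreteCategory.{u + 1} A FA]

variable {Z X : Scheme.{u}} {i : Z ⟶ X} [IsClosedImmersion i] [ProEtS.PCont i]
variable {L : Sheaf (Scheme.ProEt.topology X) A ⥤ Sheaf (Scheme.ProEt.topology Z) A}
variable [HasSheafify (closedTop i) A] [(closedTop i).WEqualsLocallyBijective A]
  [∀ (T : Z.ProEtᵒᵖ), HasLimitsOfShape (StructuredArrow T (ProEtS.bcP i).op) A]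
  [(Scheme.ProEt.topology X).HasSheafCompose (forget A)] [(Scheme.ProEt.topology Z).HasSheafCompose (forget A)]
  [(forget A).ReflectsIsomorphisms]

/-- on good objects, inverse images have the same sections -/
theorem bijective_unit_of_isGood (adj : L ⊣ pushS A i) (F : Sheaf (Scheme.ProEt.topology X) A) {V : X.ProEt}
    (hV : IsGood i V) : Function.Bijective ((adj.unit.app F).hom.app (op V)) := by
  have := hV.affine
  refine ⟨fun s t h => ?_, fun s => ?_⟩
  · have hsep : Presieve.IsSeparated (Scheme.ProEt.topology X) (F.obj ⋙ forget A) :=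
      (((isSheaf_iff_isSheaf_of_type _ _).1 (GrothendieckTopology.HasSheafCompose.isSheaf _ F.2))).isSeparated
    exact (hsep _ (closedCover_of_specializes i V _ (equalizerSieve_mem_closedTop adj F s t h) hV.spec)).ext
      fun _ _ hf => hf
  · have := isLocallySurjective_unit adj F
    obtain ⟨n, W, -, hd, hc, hW⟩ := ProEtLib.criterion_of_wContractible hV.wc _
      (closedCover_of_specializes i V _ (Presheaf.imageSieve_mem (closedTop i) (adj.unit.app F).hom s) hV.spec)
    exact ProEtLib.exists_lift_of_disjoint ((sheafCompose (Scheme.ProEt.topology X) (forget A)).map (adj.unit.app F))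
      V (fun k : ULift.{u} (Fin n) => W k.down) (fun a b hab => hd fun h => hab (ULift.ext _ _ h))
      (fun x => by
        obtain ⟨k, hk⟩ := Set.mem_iUnion.1 (hc.symm ▸ Set.mem_univ x)
        exact ⟨⟨k⟩, hk⟩) s fun k => hW k.down

/-- evaluation of inverse images on good objects -/
noncomputable def evalPullIso (adj : L ⊣ pushS A i) {V : X.ProEt} (hV : IsGood i V) :
    sheafToPresheaf (Scheme.ProEt.topology X) A ⋙ (evaluation _ A).obj (op V) ≅
      L ⋙ sheafToPresheaf (Scheme.ProEt.topology Z) A ⋙ (evaluation _ A).obj (op ((ProEtS.bcP i).obj V)) :=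
  NatIso.ofComponents (fun F =>
    @asIso _ _ _ _ ((adj.unit.app F).hom.app (op V))
      ((ConcreteCategory.isIso_iff_bijective _).2 (bijective_unit_of_isGood adj F hV)))
    fun {F F'} g => congrArg (fun q => q.hom.app (op V)) (adj.unit.naturality g)

/-- a morphism of sheaves on the closed subscheme which is bijective on reductions of good objects
is an isomorphism -/
theorem isIso_of_bijective_good {P Q : Sheaf (Scheme.ProEt.topology Z) A} (m : P ⟶ Q)
    (h : ∀ V : X.ProEt, IsGood i V → Function.Bijective (m.hom.app (op ((ProEtS.bcP i).obj V)))) : IsIso m := by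
  refine (Sheaf.isLocallyBijective_iff_isIso m).1 ⟨⟨fun {T} s t hst => ?_⟩, ⟨fun {T} s => ?_⟩⟩
  · obtain ⟨ι, V, g, hg, hV⟩ := exists_good_cover i T.unop
    refine GrothendieckTopology.superset_covering _ ?_ hg
    rintro W f ⟨_, a, _, ⟨k⟩, rfl⟩
    refine (Presheaf.equalizerSieve s t).downward_closed ?_ a
    refine (h _ (hV k)).1 ?_
    rw [NatTrans.naturality_apply, NatTrans.naturality_apply]
    exact congrArg (Q.obj.map (g k).op) hst
  · obtain ⟨ι, V, g, hg, hV⟩ := exists_good_cover i T
    refine GrothendieckTopology.superset_covering _ ?_ hg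
    rintro W f ⟨_, a, _, ⟨k⟩, rfl⟩
    exact (Presheaf.imageSieve m.hom s).downward_closed ((h _ (hV k)).2 _) a

include FA CA in
/-- inverse images along closed immersions preserve limits -/
theorem preservesLimitsOfShape_pull (adj : L ⊣ pushS A i) (J : Type v) [Category.{w} J] [HasLimitsOfShape J A] :
    PreservesLimitsOfShape J L where
  preservesLimit {K} := by
    have : IsIso (limit.post K L) := isIso_of_bijective_good _ fun V hV => by
      let ev := sheafToPresheaf (Scheme.ProEt.topology Z) A ⋙ (evaluation _ A).obj (op ((ProEtS.bcP i).obj V))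
      have : PreservesLimitsOfShape J (L ⋙ ev) :=
        preservesLimitsOfShape_of_natIso (evalPullIso adj hV)
      have h1 : IsIso (limit.post K (L ⋙ ev)) := inferInstance
      have h2 : IsIso (limit.post (K ⋙ L) ev) := inferInstance
      rw [← limit.post_post] at h1
      have : IsIso (ev.map (limit.post K L)) :=
        @IsIso.of_isIso_comp_right _ _ _ _ _ (ev.map (limit.post K L)) (limit.post (K ⋙ L) ev) h2 h1
      exact ConcreteCategory.bijective_of_isIso (ev.map (limit.post K L))
    exact preservesLimit_of_isIso_post L K

end Groth.Agent.EtModLC71
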