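import Groth.Agent.S0677
import Groth.Agent.S0679
import Groth.Agent.WLocalLib.Homeo
import Groth.Agent.WLocalLib.PiZero

/-!
# Quotients of w-contractible rings by ideals with retrocompact open complement
-/

universe u

open Topology

namespace Groth.Agent.EtModLC71

/-- a surjection with nil kernel preserves w-contractibility -/
theorem isWContractible_of_nil {A B : Type u} [CommRing A] [CommRing B] [Algebra A B]
    (hs : Function.Surjective (algebraMap A B)) (hn : RingHom.ker (algebraMap A B) ≤ nilradical A)
    (h : EtPBC.IsWContractible A) : EtPBC.IsWContractible B := by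
  obtain ⟨hW, hE, hH⟩ := (S0677.result A).1 h
  refine (S0677.result B).2 ?_
  have hint : Algebra.IsIntegral A B :=
    Algebra.isIntegral_def.2 (RingHom.isIntegral_of_surjective _ hs)
  have hce := PrimeSpectrum.isClosedEmbedding_comap_of_surjective B (algebraMap A B) hs
  have hsurj : Function.Surjective (PrimeSpectrum.comap (algebraMap A B)) := by
    intro p
    have : p ∈ Set.range (PrimeSpectrum.comap (algebraMap A B)) := by
      rw [range_comap_of_surjective _ _ hs, PrimeSpectrum.mem_zeroLocus]
      exact fun z hz => nilradical_le_prime p.asIdeal (hn hz)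
    exact this
  let e : PrimeSpectrum B ≃ₜ PrimeSpectrum A := hce.isEmbedding.toHomeomorphOfSurjective hsurj
  have hWB := WLocalLib.isWLocal_homeo e hW
  have hset : {x : PrimeSpectrum B | IsClosed ({x} : Set _)} = e ⁻¹' {x : PrimeSpectrum A | IsClosed ({x} : Set _)} :=
    Set.ext fun x => (WLocalLib.isClosed_singleton_homeo e x).symm
  refine ⟨hWB, ?_, fun Q hQ => ?_⟩
  · exact extremallyDisconnected_of_homeo
      (((WLocalLib.componentsHomeo hW).trans (e.sets hset).symm).trans (WLocalLib.componentsHomeo hWB).symm)
  · let m := Q.comap (algebraMap A B)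
    have hm : m.IsMaximal := Ideal.comap_isMaximal_of_surjective _ hs
    obtain ⟨_, _⟩ := hH m
    let : Algebra (Localization.AtPrime m) (Localization.AtPrime Q) :=
      (Localization.localRingHom m Q (algebraMap A B) rfl).toAlgebra
    have hs' : Function.Surjective (algebraMap (Localization.AtPrime m) (Localization.AtPrime Q)) :=
      RingHom.surjectiveOnStalks_of_surjective hs Q inferInstance
    have : Algebra.IsIntegral (Localization.AtPrime m) (Localization.AtPrime Q) :=
      Algebra.isIntegral_def.2 (RingHom.isIntegral_of_surjective _ hs')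
    have := Hensel.isLocalHom_of_isIntegral_local (Localization.AtPrime m) (Localization.AtPrime Q)
    exact ⟨Hensel.henselianLocalRing_of_isIntegral_local (Localization.AtPrime m) _,
      (Hensel.residueField_of_isIntegral (Localization.AtPrime m) _).1⟩

/-- quotients by ideals with quasi-compact open complement -/
theorem isWContractible_of_surjective {A B : Type u} [CommRing A] [CommRing B] [Algebra A B]
    (hs : Function.Surjective (algebraMap A B))
    (hc : IsCompact (Set.range (PrimeSpectrum.comap (algebraMap A B)))ᶜ)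
    (h : EtPBC.IsWContractible A) : EtPBC.IsWContractible B := by
  let I := RingHom.ker (algebraMap A B)
  rw [range_comap_of_surjective _ _ hs] at hc
  obtain ⟨t, ht⟩ := hc.elim_finite_subcover (fun a : I => (PrimeSpectrum.basicOpen (a : A) : Set (PrimeSpectrum A)))
    (fun a => (PrimeSpectrum.basicOpen (a : A)).isOpen) fun p hp => by
      rw [Set.mem_compl_iff, PrimeSpectrum.mem_zeroLocus, Set.not_subset] at hp
      obtain ⟨a, ha, hap⟩ := hp
      exact Set.mem_iUnion.2 ⟨⟨a, ha⟩, hap⟩
  let J := Ideal.span ((fun a : I => (a : A)) '' (t : Set I))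
  have hJI : J ≤ I := Ideal.span_le.2 (by rintro _ ⟨a, -, rfl⟩; exact a.2)
  have hfg : J.FG := Submodule.fg_span (t.finite_toSet.image _)
  have := Algebra.FinitePresentation.quotient (R := A) (A := A) hfg
  have hJ := S0679.result A (A ⧸ J) h
  let φ : A ⧸ J →+* B := Ideal.Quotient.lift J (algebraMap A B) fun a ha => hJI ha
  let := φ.toAlgebra
  refine isWContractible_of_nil (A := A ⧸ J) (fun b => ?_) (fun x hx => ?_) hJ
  · obtain ⟨a, ha⟩ := hs b
    exact ⟨Ideal.Quotient.mk J a, ha⟩
  · obtain ⟨a, rfl⟩ := Ideal.Quotient.mk_surjective x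
    have ha : algebraMap A B a = 0 := hx
    rw [mem_nilradical, nilpotent_iff_mem_prime]
    intro P hP
    by_contra hPa
    let p : PrimeSpectrum A := PrimeSpectrum.comap (Ideal.Quotient.mk J) ⟨P, hP⟩
    have hp : p ∈ (PrimeSpectrum.zeroLocus (I : Set A))ᶜ := by
      rw [Set.mem_compl_iff, PrimeSpectrum.mem_zeroLocus, Set.not_subset]
      exact ⟨a, ha, hPa⟩
    obtain ⟨i, hi, hpi⟩ := Set.mem_iUnion₂.1 (ht hp)
    refine hpi ?_
    show Ideal.Quotient.mk J (i : A) ∈ P
    rw [Ideal.Quotient.eq_zero_iff_mem.2 (show (i : A) ∈ J from Ideal.subset_span ⟨i, hi, rfl⟩)]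
    exact zero_mem _

end Groth.Agent.EtModLC71
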