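import Groth.Agent.EtModLC71.SectP
import Groth.Agent.EtModLC71.WcQuot
import Mathlib.AlgebraicGeometry.Morphisms.Finite
import Mathlib.AlgebraicGeometry.Morphisms.FinitePresentation
import Mathlib.AlgebraicGeometry.PullbackCarrier

/-!
# Direct images on pro-etale sites along affine morphisms preserving w-contractibility are exact
-/

universe u

open CategoryTheory CategoryTheory.Limits AlgebraicGeometry Opposite

namespace Groth.Agent.EtModLC71

set_option backward.isDefEq.respectTransparency.types false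

variable {Z X : Scheme.{u}}

/-- base change along `f` sends w-contractible affine objects to weakly contractible objects -/
def PreservesWC (f : Z ⟶ X) : Prop :=
  ∀ U : X.ProEt, IsAffine U.left → EtPBC.IsWContractible Γ(U.left, ⊤) →
    ProEtS.IsWC ((ProEtS.bcP f).obj U)

theorem isWContractible_of_finite_hom {P Y : Scheme.{u}} [IsAffine Y] (g : P ⟶ Y) [IsFinite g]
    [LocallyOfFinitePresentation g] (h : EtPBC.IsWContractible Γ(Y, ⊤)) :
    IsAffine P ∧ EtPBC.IsWContractible Γ(P, ⊤) := by
  have hP' : IsAffine P := isAffine_of_isAffineHom g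
  let := g.appTop.hom.toAlgebra
  have : Module.Finite Γ(Y, ⊤) Γ(P, ⊤) := g.finite_appTop
  have : Algebra.FinitePresentation Γ(Y, ⊤) Γ(P, ⊤) :=
    HasRingHomProperty.appTop @LocallyOfFinitePresentation g inferInstance
  exact ⟨hP', S0679.result Γ(Y, ⊤) Γ(P, ⊤) h⟩

theorem isWContractible_of_closed {P Y : Scheme.{u}} [IsAffine Y] (g : P ⟶ Y) [IsClosedImmersion g]
    (hc : IsCompact (Set.range g.base)ᶜ) (h : EtPBC.IsWContractible Γ(Y, ⊤)) :
    IsAffine P ∧ EtPBC.IsWContractible Γ(P, ⊤) := by
  obtain ⟨hP, hs⟩ := IsClosedImmersion.isAffine_surjective_of_isAffine (f := g)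
  let := g.appTop.hom.toAlgebra
  refine ⟨hP, isWContractible_of_surjective hs ?_ h⟩
  let e := Scheme.homeoOfIso Y.isoSpec
  have he : Set.range (Spec.map g.appTop).base = e '' Set.range g.base := by
    rw [← Set.range_comp, ← (Scheme.homeoOfIso P.isoSpec).surjective.range_comp (Spec.map g.appTop).base]
    exact congrArg Set.range (congrArg (fun k : P ⟶ _ => (k.base : P → _)) (Scheme.isoSpec_hom_naturality g))
  show IsCompact (Set.range (Spec.map g.appTop).base)ᶜ
  rw [he, ← Set.image_compl_eq e.bijective]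
  exact hc.image e.continuous

theorem preservesWC_of_finite (f : Z ⟶ X) [IsFinite f] [LocallyOfFinitePresentation f] :
    PreservesWC f := by
  intro U hA hU
  obtain ⟨hP, h⟩ := @isWContractible_of_finite_hom _ _ hA (pullback.fst U.hom f)
    (inferInstanceAs (IsFinite (pullback.fst U.hom f)))
    (inferInstanceAs (LocallyOfFinitePresentation (pullback.fst U.hom f))) hU
  have : IsAffine ((ProEtS.bcP f).obj U).left := hP
  exact ProEtLib.isWC_of_criterion (ProEtLib.criterion_of_wContractible h)

theorem preservesWC_of_isClosedImmersion (i : Z ⟶ X) [IsClosedImmersion i]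
    (hr : IsRetrocompact (Set.range i.base)ᶜ) : PreservesWC i := by
  intro U hA hU
  let Xo : X.Opens := ⟨(Set.range i.base)ᶜ, i.isClosedEmbedding.isClosed_range.isOpen_compl⟩
  have hq : QuasiCompact Xo.ι :=
    quasiCompact_iff_isSpectralMap.mpr (IsRetrocompact_iff_isSpectralMap_subtypeVal.mp hr)
  have hW : IsRetrocompact ((U.hom ⁻¹ᵁ Xo : U.left.Opens) : Set U.left) :=
    IsRetrocompact_iff_isSpectralMap_subtypeVal.mpr (quasiCompact_iff_isSpectralMap.mp
      (MorphismProperty.of_isPullback (P := @QuasiCompact) (isPullback_morphismRestrict U.hom Xo) hq))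
  have h1 := hW isCompact_univ isOpen_univ
  rw [Set.inter_univ] at h1
  obtain ⟨hP, h⟩ := @isWContractible_of_closed _ _ hA (pullback.fst U.hom i)
    (inferInstanceAs (IsClosedImmersion (pullback.fst U.hom i))) (by
      refine (congrArg IsCompact ?_).mpr h1
      exact congrArg compl (Scheme.Pullback.range_fst U.hom i)) hU
  have : IsAffine ((ProEtS.bcP i).obj U).left := hP
  exact ProEtLib.isWC_of_criterion (ProEtLib.criterion_of_wContractible h)

/-- the direct image preserves local surjectivity -/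
theorem exists_cover_isWC_bcP {f : Z ⟶ X} (hf : PreservesWC f) (U : X.ProEt) :
    ∃ (ι : Type u) (V : ι → X.ProEt) (g : ∀ k, V k ⟶ U),
      Sieve.generate (Presieve.ofArrows V g) ∈ Scheme.ProEt.topology X U ∧
        ∀ k, ProEtS.IsWC ((ProEtS.bcP f).obj (V k)) := by
  obtain ⟨ι, V, g, hg, h⟩ := ProEtLib.exists_wc_cover_family U
  exact ⟨ι, V, g, hg, fun k => hf _ (h k).1 (h k).2⟩

variable {A : Type*} [Category A] {FA : A → A → Type*} {CA : A → Type (u + 1)}
  [∀ P Q, FunLike (FA P Q) (CA P) (CA Q)] [ConcreteCategory.{u + 1} A FA]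

theorem surjective_of_isLocallySurjective {Y : Scheme.{u}}
    [(Scheme.ProEt.topology Y).HasSheafCompose (forget A)] {U : Y.ProEt} (hU : ProEtS.IsWC U)
    {E E' : Sheaf (Scheme.ProEt.topology Y) A} (φ : E ⟶ E') [h : Sheaf.IsLocallySurjective φ] :
    Function.Surjective (φ.hom.app (op U)) := by
  let ψ := (sheafCompose (Scheme.ProEt.topology Y) (forget A)).map φ
  have : Sheaf.IsLocallySurjective ψ :=
    (Presheaf.isLocallySurjective_iff_whisker_forget (Scheme.ProEt.topology Y) φ.hom).1 h
  exact hU _ _ ψ (Sheaf.epi_of_isLocallySurjective _)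

theorem isLocallySurjective_push {f : Z ⟶ X} [ProEtS.PCont f]
    [(Scheme.ProEt.topology Z).HasSheafCompose (forget A)] (hf : PreservesWC f)
    {E E' : Sheaf (Scheme.ProEt.topology Z) A} (φ : E ⟶ E') [Sheaf.IsLocallySurjective φ] :
    Sheaf.IsLocallySurjective (((ProEtS.bcP f).sheafPushforwardContinuous A
      (Scheme.ProEt.topology X) (Scheme.ProEt.topology Z)).map φ) := by
  refine ⟨fun {U} s => ?_⟩
  obtain ⟨ι, V, g, hg, hV⟩ := exists_cover_isWC_bcP hf U
  refine GrothendieckTopology.superset_covering _ ?_ hg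
  rintro W a ⟨T, b, _, ⟨k⟩, rfl⟩
  obtain ⟨t, ht⟩ := surjective_of_isLocallySurjective (hV k) φ (E'.obj.map ((ProEtS.bcP f).map (g k)).op s)
  refine ⟨E.obj.map ((ProEtS.bcP f).map b).op t, ?_⟩
  show φ.hom.app (op ((ProEtS.bcP f).obj W)) (E.obj.map ((ProEtS.bcP f).map b).op t) =
    E'.obj.map ((ProEtS.bcP f).map (b ≫ g k)).op s
  rw [NatTrans.naturality_apply φ.hom ((ProEtS.bcP f).map b).op t, Functor.map_comp, op_comp, Functor.map_comp_apply]
  exact congrArg (E'.obj.map ((ProEtS.bcP f).map b).op) ht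

theorem preservesFiniteColimits_pushAbP {f : Z ⟶ X} [ProEtS.PCont f] (hf : PreservesWC f) :
    PreservesFiniteLimits (ProEtS.pushP f) ∧ PreservesFiniteColimits (ProEtS.pushP f) := by
  have : PreservesLimitsOfSize.{0, 0} (ProEtS.pushP f) := (ProEtS.pullPushAdjP f).rightAdjoint_preservesLimits
  have h1 : PreservesFiniteLimits (ProEtS.pushP f) := inferInstance
  have : (ProEtS.pushP f).PreservesEpimorphisms := ⟨fun φ _ => by
    have := (Sheaf.isLocallySurjective_iff_epi' _ φ).2 inferInstance
    have := isLocallySurjective_push (A := AddCommGrpCat.{u + 1}) hf φ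
    exact Sheaf.epi_of_isLocallySurjective _⟩
  exact ⟨h1, SiteBase.preservesFiniteColimits_of_preservesEpis _⟩

/-- direct image on pro-etale sheaves of modules -/
noncomputable abbrev pushModP {Λ : Type (u + 1)} [CommRing Λ] (f : Z ⟶ X) [ProEtS.PCont f] :
    EtModW.ModP Λ Z ⥤ EtModW.ModP Λ X :=
  (ProEtS.bcP f).sheafPushforwardContinuous (ModuleCat.{u + 1} Λ) (Scheme.ProEt.topology X) (Scheme.ProEt.topology Z)

theorem preservesFiniteColimits_pushModP {Λ : Type (u + 1)} [CommRing Λ] {f : Z ⟶ X} [ProEtS.PCont f]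
    (hf : PreservesWC f) : PreservesFiniteColimits (pushModP (Λ := Λ) f) := by
  have : PreservesLimitsOfSize.{0, 0} (pushModP (Λ := Λ) f) :=
    ((ProEtS.bcP f).sheafAdjunctionContinuous (ModuleCat.{u + 1} Λ) (Scheme.ProEt.topology X) (Scheme.ProEt.topology Z)).rightAdjoint_preservesLimits
  have : (pushModP (Λ := Λ) f).Additive := Functor.additive_of_preserves_binary_products _
  have : (pushModP (Λ := Λ) f).PreservesEpimorphisms := ⟨fun φ _ => by
    have := (Sheaf.isLocallySurjective_iff_epi' _ φ).2 inferInstance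
    have := isLocallySurjective_push (A := ModuleCat.{u + 1} Λ) hf φ
    exact Sheaf.epi_of_isLocallySurjective _⟩
  exact SiteBase.preservesFiniteColimits_of_preservesEpis _

end Groth.Agent.EtModLC71
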