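import Groth.Agent.EtModLC71.Recoll
import Groth.Agent.EtModLC71.EpsBC
import Groth.Agent.EtModLC71.ProPush
import Groth.Agent.ProEtLib.Basic
import Mathlib.CategoryTheory.Adjunction.Triple
import Mathlib.CategoryTheory.Sites.EpiMono

/-!
# Recollement for pro-etale sheaves of modules
-/

universe u

open CategoryTheory CategoryTheory.Limits AlgebraicGeometry Opposite

namespace Groth.Agent.EtModLC71.RecollMod

set_option backward.isDefEq.respectTransparency.types false
set_option linter.unusedSectionVars false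

variable {Λ : Type (u + 1)} [CommRing Λ]

/-- `j_!` -/
noncomputable abbrev extZeroModP {U X : Scheme.{u}} (j : U ⟶ X) [WeaklyEtale j] [ProEtS.JPCont j] :
    EtModW.ModP Λ U ⥤ EtModW.ModP Λ X :=
  (ProEtS.compP j).sheafPullback (ModuleCat.{u + 1} Λ) (Scheme.ProEt.topology U) (Scheme.ProEt.topology X)

/-- `j^{-1}` by restriction -/
noncomputable abbrev restrModP {U X : Scheme.{u}} (j : U ⟶ X) [WeaklyEtale j] [ProEtS.JPCont j] :
    EtModW.ModP Λ X ⥤ EtModW.ModP Λ U :=
  (ProEtS.compP j).sheafPushforwardContinuous (ModuleCat.{u + 1} Λ) (Scheme.ProEt.topology U) (Scheme.ProEt.topology X)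

/-- `j_! ⊣ j^{-1}` -/
noncomputable abbrev extZeroAdjModP {U X : Scheme.{u}} (j : U ⟶ X) [WeaklyEtale j] [ProEtS.JPCont j] :
    extZeroModP (Λ := Λ) j ⊣ restrModP (Λ := Λ) j :=
  (ProEtS.compP j).sheafAdjunctionContinuous (ModuleCat.{u + 1} Λ) (Scheme.ProEt.topology U) (Scheme.ProEt.topology X)

/-- `f^{-1} ⊣ f_*` -/
noncomputable abbrev pullPushAdjModP {Z X : Scheme.{u}} (i : Z ⟶ X) [ProEtS.PCont i] :
    pullModP (Λ := Λ) i ⊣ pushModP (Λ := Λ) i :=
  (ProEtS.bcP i).sheafAdjunctionContinuous (ModuleCat.{u + 1} Λ) (Scheme.ProEt.topology X) (Scheme.ProEt.topology Z)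

instance pushModP_additive {Z X : Scheme.{u}} (i : Z ⟶ X) [ProEtS.PCont i] :
    (pushModP (Λ := Λ) i).Additive where

instance restrModP_additive {U X : Scheme.{u}} (j : U ⟶ X) [WeaklyEtale j] [ProEtS.JPCont j] :
    (restrModP (Λ := Λ) j).Additive where

/-- restriction to an open subscheme is the inverse image -/
noncomputable def restrIsoPull {U X : Scheme.{u}} (j : U ⟶ X) [WeaklyEtale j] [ProEtS.JPCont j] [ProEtS.PCont j] :
    restrModP (Λ := Λ) j ≅ pullModP (Λ := Λ) j :=
  let adj : ProEtS.compP j ⊣ ProEtS.bcP j :=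
    MorphismProperty.Over.mapPullbackAdj (@WeaklyEtale) ⊤ j inferInstance trivial
  Adjunction.leftAdjointUniq
    (adj.sheafPushforwardContinuous (E := ModuleCat.{u + 1} Λ) (Scheme.ProEt.topology U) (Scheme.ProEt.topology X))
    (pullPushAdjModP (Λ := Λ) j)

/-- `j_!` is fully faithful -/
theorem isIso_unit_extZero {U X : Scheme.{u}} (j : U ⟶ X) [IsOpenImmersion j] [ProEtS.JPCont j]
    (F : EtModW.ModP Λ U) : IsIso ((extZeroAdjModP (Λ := Λ) j).unit.app F) := by
  have : ProEtS.PCont j := ProEtLib.pCont j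
  let adj : ProEtS.compP j ⊣ ProEtS.bcP j :=
    MorphismProperty.Over.mapPullbackAdj (@WeaklyEtale) ⊤ j inferInstance trivial
  let adjP : restrModP (Λ := Λ) j ⊣ pushModP (Λ := Λ) j :=
    adj.sheafPushforwardContinuous (E := ModuleCat.{u + 1} Λ) (Scheme.ProEt.topology U) (Scheme.ProEt.topology X)
  have hu : ∀ V : U.ProEt, IsIso (adj.unit.app V) := fun V => by
    have hw : pullback.fst (V.hom ≫ j) j ≫ V.hom = pullback.snd (V.hom ≫ j) j := by
      rw [← cancel_mono j, Category.assoc]; exact pullback.condition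
    refine ⟨⟨MorphismProperty.Over.homMk (pullback.fst (V.hom ≫ j) j) hw,
      MorphismProperty.Over.Hom.ext ?_, MorphismProperty.Over.Hom.ext ?_⟩⟩
    · exact pullback.lift_fst _ _ _
    · change pullback.fst (V.hom ≫ j) j ≫ pullback.lift (𝟙 _) V.hom _ = 𝟙 _
      apply pullback.hom_ext
      · rw [Category.assoc, pullback.lift_fst, Category.id_comp]; exact Category.comp_id _
      · rw [Category.assoc, pullback.lift_snd, Category.id_comp]; exact hw
  have : IsIso adj.unit := NatIso.isIso_of_isIso_app adj.unit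
  let e : ProEtS.compP j ⋙ ProEtS.bcP j ≅ 𝟭 _ := (asIso adj.unit).symm
  have := Functor.isContinuous_comp (ProEtS.compP j) (ProEtS.bcP j) (Scheme.ProEt.topology U)
    (Scheme.ProEt.topology X) (Scheme.ProEt.topology U)
  let i : pushModP (Λ := Λ) j ⋙ restrModP (Λ := Λ) j ≅ 𝟭 _ :=
    Functor.sheafPushforwardContinuousComp' e (ModuleCat.{u + 1} Λ) (Scheme.ProEt.topology U)
      (Scheme.ProEt.topology X) (Scheme.ProEt.topology U) ≪≫
        Functor.sheafPushforwardContinuousId _ _
  let hH := adjP.fullyFaithfulROfCompIsoId i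
  let t : Adjunction.Triple (extZeroModP (Λ := Λ) j) (restrModP (Λ := Λ) j) (pushModP (Λ := Λ) j) :=
    ⟨extZeroAdjModP (Λ := Λ) j, adjP⟩
  have := (t.fullyFaithfulEquiv.symm hH).full
  have := (t.fullyFaithfulEquiv.symm hH).faithful
  exact inferInstance

variable {U X Z : Scheme.{u}} {i : Z ⟶ X} [IsClosedImmersion i] [ProEtS.PCont i]
  {j : U ⟶ X} [IsOpenImmersion j] [ProEtS.JPCont j]

/-- there are no morphisms from extensions by zero to direct images -/
theorem hom_ext (hc : Set.range j.base = (Set.range i.base)ᶜ) {G : EtModW.ModP Λ U} {Q : EtModW.ModP Λ Z}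
    (φ ψ : (extZeroModP (Λ := Λ) j).obj G ⟶ (pushModP (Λ := Λ) i).obj Q) : φ = ψ := by
  refine ((extZeroAdjModP (Λ := Λ) j).homEquiv _ _).injective (Sheaf.hom_ext (NatTrans.ext (funext fun V =>
    ConcreteCategory.hom_ext _ _ fun x => ?_)))
  refine @Subsingleton.elim _ (subsingleton_push Q ((ProEtS.compP j).obj V.unop) ?_) _ _
  rintro _ ⟨v, rfl⟩
  exact hc.le ⟨(V.unop.hom).base v, rfl⟩

/-- the counit is bijective on sections over the open subscheme -/
theorem bijective_counit (F : EtModW.ModP Λ X) {V : X.ProEt} (hV : Set.range V.hom.base ⊆ Set.range j.base) :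
    Function.Bijective (((extZeroAdjModP (Λ := Λ) j).counit.app F).hom.app (op V)) := by
  have : ProEtS.PCont j := ProEtLib.pCont j
  obtain ⟨V₀, ⟨e⟩⟩ := exists_compP_iso j hV
  have hu := isIso_unit_extZero (Λ := Λ) j ((restrModP (Λ := Λ) j).obj F)
  have : IsIso ((restrModP (Λ := Λ) j).map ((extZeroAdjModP (Λ := Λ) j).counit.app F)) := by
    have h := (extZeroAdjModP (Λ := Λ) j).right_triangle_components F
    have : IsIso ((extZeroAdjModP (Λ := Λ) j).unit.app ((restrModP (Λ := Λ) j).obj F) ≫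
        (restrModP (Λ := Λ) j).map ((extZeroAdjModP (Λ := Λ) j).counit.app F)) := by rw [h]; exact IsIso.id _
    exact IsIso.of_isIso_comp_left ((extZeroAdjModP (Λ := Λ) j).unit.app ((restrModP (Λ := Λ) j).obj F)) _
  have h1 : IsIso (((extZeroAdjModP (Λ := Λ) j).counit.app F).hom.app (op ((ProEtS.compP j).obj V₀))) :=
    inferInstanceAs (IsIso (((sheafToPresheaf _ _).map
      ((restrModP (Λ := Λ) j).map ((extZeroAdjModP (Λ := Λ) j).counit.app F))).app (op V₀)))
  have hiso : IsIso (((extZeroAdjModP (Λ := Λ) j).counit.app F).hom.app (op V)) :=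
    (NatTrans.isIso_app_iff_of_iso ((extZeroAdjModP (Λ := Λ) j).counit.app F).hom e.op).2 h1
  exact ConcreteCategory.bijective_of_isIso _

variable (hr : IsRetrocompact (Set.range i.base)ᶜ) (hc : Set.range j.base = (Set.range i.base)ᶜ)
include hr hc

theorem zero (F : EtModW.ModP Λ X) :
    (extZeroAdjModP (Λ := Λ) j).counit.app F ≫ (pullPushAdjModP (Λ := Λ) i).unit.app F = 0 :=
  hom_ext hc _ _

theorem mono_counit (F : EtModW.ModP Λ X) : Mono ((extZeroAdjModP (Λ := Λ) j).counit.app F) := by
  refine Sheaf.mono_of_injective _ fun V s t hst => ?_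
  refine eq_of_closed_open (pullPushAdjModP (Λ := Λ) i) hr _ s t ?_ fun W c hW => ?_
  · have h0 : (pullPushAdjModP (Λ := Λ) i).unit.app ((extZeroModP (Λ := Λ) j).obj ((restrModP (Λ := Λ) j).obj F)) = 0 := hom_ext hc _ _
    have h0' : ∀ x, ((pullPushAdjModP (Λ := Λ) i).unit.app ((extZeroModP (Λ := Λ) j).obj ((restrModP (Λ := Λ) j).obj F))).hom.app V x = 0 :=
      fun x => by rw [h0]; rfl
    exact (h0' s).trans (h0' t).symm
  · refine (bijective_counit F (hW.trans hc.ge)).1 ?_
    rw [NatTrans.naturality_apply, NatTrans.naturality_apply]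
    exact congrArg (F.obj.map c.op) hst

theorem epi_unit (F : EtModW.ModP Λ X) : Epi ((pullPushAdjModP (Λ := Λ) i).unit.app F) := by
  refine Preadditive.epi_of_cancel_zero _ fun {T} (h : (pushModP (Λ := Λ) i).obj ((pullModP (Λ := Λ) i).obj F) ⟶ T) hh => ?_
  refine Sheaf.hom_ext (NatTrans.ext (funext fun V => ConcreteCategory.hom_ext _ _ fun x => ?_))
  show h.hom.app V x = 0
  refine eq_of_closed_open (pullPushAdjModP (Λ := Λ) i) hr T (h.hom.app V x) 0 ?_ fun W c hW => ?_
  · have h1 : h ≫ (pullPushAdjModP (Λ := Λ) i).unit.app T = 0 := by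
      have hnat := (pullPushAdjModP (Λ := Λ) i).unit.naturality h
      have : (pullModP (Λ := Λ) i).map h = 0 := by
        have hc1 : (pullModP (Λ := Λ) i).map ((pullPushAdjModP (Λ := Λ) i).unit.app F) ≫ (pullModP (Λ := Λ) i).map h = 0 := by
          rw [← Functor.map_comp, hh]
          have : (pullModP (Λ := Λ) i).Additive := (pullPushAdjModP (Λ := Λ) i).left_adjoint_additive
          exact Functor.map_zero _ _ _
        have := isIso_counit_closed i (pullPushAdjModP (Λ := Λ) i) ((pullModP (Λ := Λ) i).obj F)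
        have : IsIso ((pullModP (Λ := Λ) i).map ((pullPushAdjModP (Λ := Λ) i).unit.app F)) := by
          have ht := (pullPushAdjModP (Λ := Λ) i).left_triangle_components F
          have : IsIso ((pullModP (Λ := Λ) i).map ((pullPushAdjModP (Λ := Λ) i).unit.app F) ≫
              (pullPushAdjModP (Λ := Λ) i).counit.app ((pullModP (Λ := Λ) i).obj F)) := by rw [ht]; exact IsIso.id _
          exact IsIso.of_isIso_comp_right _ ((pullPushAdjModP (Λ := Λ) i).counit.app ((pullModP (Λ := Λ) i).obj F))
        rwa [← cancel_epi ((pullModP (Λ := Λ) i).map ((pullPushAdjModP (Λ := Λ) i).unit.app F)), comp_zero]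
      refine hnat.trans ?_
      rw [Functor.comp_map, this, Functor.map_zero, comp_zero]
    rw [map_zero, ← ConcreteCategory.comp_apply]
    exact congrArg (fun q : (pushModP (Λ := Λ) i).obj ((pullModP (Λ := Λ) i).obj F) ⟶ _ => q.hom.app V x) h1
  · rw [map_zero, ← NatTrans.naturality_apply, @Subsingleton.elim _ (subsingleton_push _ W hW)
      (((pushModP (Λ := Λ) i).obj ((pullModP (Λ := Λ) i).obj F)).obj.map c.op x) 0, map_zero]

theorem shortExact (F : EtModW.ModP Λ X) :
    (ShortComplex.mk _ _ (zero hr hc F)).ShortExact := by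
  have := mono_counit hr hc F
  have := epi_unit hr hc F
  refine { exact := (ShortComplex.exact_iff_epi_kernel_lift _).2 ?_, mono_f := inferInstance, epi_g := inferInstance }
  have : Sheaf.IsLocallySurjective (kernel.lift ((pullPushAdjModP (Λ := Λ) i).unit.app F)
      ((extZeroAdjModP (Λ := Λ) j).counit.app F) (zero hr hc F)) := ⟨fun {V} x => by
    let y := (kernel.ι ((pullPushAdjModP (Λ := Λ) i).unit.app F)).hom.app (op V) x
    have hy : ((pullPushAdjModP (Λ := Λ) i).unit.app F).hom.app (op V) y =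
        ((pullPushAdjModP (Λ := Λ) i).unit.app F).hom.app (op V) 0 := by
      rw [map_zero, ← ConcreteCategory.comp_apply]
      exact congrArg (fun q : kernel ((pullPushAdjModP (Λ := Λ) i).unit.app F) ⟶ _ => q.hom.app (op V) x) (kernel.condition _)
    have hinj : ∀ W, Function.Injective ((kernel.ι ((pullPushAdjModP (Λ := Λ) i).unit.app F)).hom.app W) := fun W =>
      (ModuleCat.mono_iff_injective _).1 inferInstance
    have key : ∀ (W : X.ProEt) (c : W ⟶ V) e,
        ((extZeroAdjModP (Λ := Λ) j).counit.app F).hom.app (op W) e = F.obj.map c.op y →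
        (kernel.lift _ _ (zero hr hc F)).hom.app (op W) e =
          (kernel ((pullPushAdjModP (Λ := Λ) i).unit.app F)).obj.map c.op x := fun W c e he => by
      refine hinj _ ?_
      rw [NatTrans.naturality_apply, ← ConcreteCategory.comp_apply]
      exact (congrArg (fun q : (extZeroModP (Λ := Λ) j).obj ((restrModP (Λ := Λ) j).obj F) ⟶ F => q.hom.app (op W) e)
        (kernel.lift_ι _ _ (zero hr hc F))).trans he
    refine closedCover i hr V _ ((closedTop i).superset_covering ?_
      (equalizerSieve_mem_closedTop (pullPushAdjModP (Λ := Λ) i) F y 0 hy)) fun W c hW => ?_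
    · intro W c hW
      exact ⟨0, key W c 0 ((map_zero _).trans ((map_zero (F.obj.map c.op).hom).symm.trans hW.symm))⟩
    · obtain ⟨e, he⟩ := (bijective_counit F (hW.trans hc.ge)).2 (F.obj.map c.op y)
      exact ⟨e, key W c e he⟩⟩
  exact Sheaf.epi_of_isLocallySurjective _

end Groth.Agent.EtModLC71.RecollMod
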