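import Groth.Agent.EtModLC71.RecollAb
import Groth.Agent.EtModLC71.RecollMod
import Groth.Agent.EtModLC71.PullSections
import Groth.Agent.EtModLC71.EpsClosed
import Mathlib.AlgebraicGeometry.IdealSheaf.Subscheme
import Mathlib.CategoryTheory.Limits.FunctorCategory.Basic
import Mathlib.Algebra.Homology.ShortComplex.ShortExact

/-!
# Extension by zero along quasi-compact open immersions preserves limits
-/

universe u v w

open CategoryTheory CategoryTheory.Limits AlgebraicGeometry Opposite

namespace Groth.Agent.EtModLC71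

set_option backward.isDefEq.respectTransparency.types false

/-- a functor which is the kernel of a transformation between limit preserving functors preserves limits -/
theorem preservesLimitsOfShape_of_kernel {B : Type*} [Category B] {C : Type*} [Category C] [Abelian C]
    {T P R : B ⥤ C} (θ : T ⟶ P) (α : P ⟶ R) (hz : ∀ G, θ.app G ≫ α.app G = 0)
    (hse : ∀ G, (ShortComplex.mk _ _ (hz G)).ShortExact)
    (J : Type v) [Category.{w} J] [HasLimitsOfShape J C] [PreservesLimitsOfShape J P] [PreservesLimitsOfShape J R] :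
    PreservesLimitsOfShape J T := by
  let Φ : B ⥤ WalkingParallelPair ⥤ C := (parallelPair α 0).flip
  have : PreservesLimitsOfShape J Φ := preservesLimitsOfShape_of_evaluation Φ J fun k => by
    cases k
    · exact preservesLimitsOfShape_of_natIso (NatIso.ofComponents (fun _ => Iso.refl _) (by cat_disch) : P ≅ Φ ⋙ (evaluation _ _).obj .zero)
    · exact preservesLimitsOfShape_of_natIso (NatIso.ofComponents (fun _ => Iso.refl _) (by cat_disch) : R ≅ Φ ⋙ (evaluation _ _).obj .one)
  have : PreservesLimitsOfShape J (lim : (WalkingParallelPair ⥤ C) ⥤ C) := by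
    have : (lim : (WalkingParallelPair ⥤ C) ⥤ C).IsRightAdjoint := (constLimAdj (J := WalkingParallelPair) (C := C)).isRightAdjoint
    infer_instance
  have hk : ∀ G, IsLimit (Fork.ofι (θ.app G) (show θ.app G ≫ (parallelPair (α.app G) 0).map .left =
      θ.app G ≫ (parallelPair (α.app G) 0).map .right by simpa using hz G)) := fun G =>
    (hse G).fIsKernel
  let c : ∀ G, Cone (Φ.obj G) := fun G =>
    { pt := T.obj G
      π :=
        { app := fun k => match k with
            | .zero => θ.app G
            | .one => θ.app G ≫ α.app G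
          naturality := by
            rintro a b (_ | _ | _)
            · exact Category.id_comp _
            · refine (Category.id_comp _).trans ?_
              show θ.app G ≫ α.app G = θ.app G ≫ (0 : P ⟶ R).app G
              rw [hz G, NatTrans.app_zero, comp_zero]
            · refine (Category.id_comp _).trans ?_
              erw [CategoryTheory.Functor.map_id]
              exact (Category.comp_id _).symm } }
  have hc : ∀ G, IsLimit (c G) := fun G => by
    refine (IsLimit.equivOfNatIsoOfIso
      (NatIso.ofComponents (fun k => match k with | .zero => Iso.refl _ | .one => Iso.refl _)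
        (by rintro _ _ (_ | _ | k) <;> simp [Φ]) : parallelPair (α.app G) 0 ≅ Φ.obj G) _ _ ?_) (hk G)
    refine Cone.ext (Iso.refl _) fun k => ?_
    cases k
    · simp [c]
    · simp [c]
  refine preservesLimitsOfShape_of_natIso
    (NatIso.ofComponents (fun G => (hc G).conePointUniqueUpToIso (limit.isLimit (Φ.obj G))) (fun {G G'} g => ?_)).symm
      (F := Φ ⋙ lim)
  refine limit.hom_ext fun k => ?_
  simp only [Category.assoc]
  erw [limit.lift_π, limMap_π, limit.lift_π_assoc]
  cases k
  · exact θ.naturality g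
  · show T.map g ≫ θ.app G' ≫ α.app G' = (θ.app G ≫ α.app G) ≫ R.map g
    rw [θ.naturality_assoc, α.naturality, Category.assoc]

variable {U X : Scheme.{u}} (j : U ⟶ X) [IsOpenImmersion j] [QuasiCompact j]

omit [IsOpenImmersion j] in
/-- a closed subscheme with support the complement -/
theorem exists_complement [IsOpenImmersion j] :
    ∃ (Z : Scheme.{u}) (i : Z ⟶ X) (_ : IsClosedImmersion i),
      Set.range j.base = (Set.range i.base)ᶜ ∧ IsRetrocompact (Set.range i.base)ᶜ := by
  let I := Scheme.IdealSheafData.vanishingIdeal ⟨(Set.range j.base)ᶜ, j.isOpenEmbedding.isOpen_range.isClosed_compl⟩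
  have hc : Set.range j.base = (Set.range I.subschemeι.base)ᶜ := by
    rw [Scheme.IdealSheafData.range_subschemeι, Scheme.IdealSheafData.coe_support_vanishingIdeal]
    exact (compl_compl _).symm
  refine ⟨_, I.subschemeι, inferInstance, hc, fun W hWc hWo => ?_⟩
  rw [← hc, Set.inter_comm, ← Set.image_preimage_eq_inter_range]
  exact (QuasiCompact.isCompact_preimage (f := j) W hWo hWc).image j.continuous

variable [ProEtS.JPCont j]

/-- `j_!` preserves limits, abelian sheaves -/
theorem preservesLimitsOfShape_extZeroP (J : Type v) [Category.{w} J] [HasLimitsOfShape J AddCommGrpCat.{u + 1}] :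
    PreservesLimitsOfShape J (ProEtS.extZeroP j) := by
  have : ProEtS.PCont j := ProEtLib.pCont j
  obtain ⟨Z, i, _, hc, hr⟩ := exists_complement j
  have : ProEtS.PCont i := ProEtLib.pCont i
  let adj : ProEtS.compP j ⊣ ProEtS.bcP j :=
    MorphismProperty.Over.mapPullbackAdj (@WeaklyEtale) ⊤ j inferInstance trivial
  let adjP : ProEtS.restrP j ⊣ ProEtS.pushP j :=
    adj.sheafPushforwardContinuous (E := AddCommGrpCat.{u + 1}) (Scheme.ProEt.topology U) (Scheme.ProEt.topology X)
  have hcou : ∀ G, IsIso (adjP.counit.app G) := fun G => by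
    have h := (Groth.Agent.S0742.result j G G).2
    have e := Adjunction.leftAdjointUniq_hom_app_counit adjP (ProEtS.pullPushAdjP j) G
    rw [← e]
    exact IsIso.comp_isIso
  have : IsIso adjP.counit := @NatIso.isIso_of_isIso_app _ _ _ _ _ _ adjP.counit hcou
  let e0 : ProEtS.pushP j ⋙ ProEtS.restrP j ≅ 𝟭 _ := asIso adjP.counit
  let θ : (ProEtS.pushP j ⋙ ProEtS.restrP j) ⋙ ProEtS.extZeroP j ⟶ ProEtS.pushP j :=
    Functor.whiskerLeft (ProEtS.pushP j) (ProEtS.extZeroPAdj j).counit
  let α : ProEtS.pushP j ⟶ ProEtS.pushP j ⋙ ProEtS.pullP i ⋙ ProEtS.pushP i :=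
    Functor.whiskerLeft (ProEtS.pushP j) (ProEtS.pullPushAdjP i).unit
  have : (ProEtS.pushP j).IsRightAdjoint := (ProEtS.pullPushAdjP j).isRightAdjoint
  have : (ProEtS.pushP i).IsRightAdjoint := (ProEtS.pullPushAdjP i).isRightAdjoint
  have : PreservesLimitsOfShape J (ProEtS.pullP i) :=
    preservesLimitsOfShape_pull (A := AddCommGrpCat.{u + 1}) (ProEtS.pullPushAdjP i) J
  have : PreservesLimitsOfShape J ((ProEtS.pushP j ⋙ ProEtS.restrP j) ⋙ ProEtS.extZeroP j) :=
    preservesLimitsOfShape_of_kernel θ α (fun G => RecollAb.zero hr hc _)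
      (fun G => RecollAb.shortExact hr hc _) J
  exact preservesLimitsOfShape_of_natIso (Functor.isoWhiskerRight e0 (ProEtS.extZeroP j) ≪≫ Functor.leftUnitor _)

variable {Λ : Type (u + 1)} [CommRing Λ]

/-- `j_!` preserves limits, sheaves of modules -/
theorem preservesLimitsOfShape_extZeroModP (J : Type v) [Category.{w} J] [HasLimitsOfShape J (ModuleCat.{u + 1} Λ)] :
    PreservesLimitsOfShape J (RecollMod.extZeroModP (Λ := Λ) j) := by
  have : ProEtS.PCont j := ProEtLib.pCont j
  obtain ⟨Z, i, _, hc, hr⟩ := exists_complement j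
  have : ProEtS.PCont i := ProEtLib.pCont i
  let adj : ProEtS.compP j ⊣ ProEtS.bcP j :=
    MorphismProperty.Over.mapPullbackAdj (@WeaklyEtale) ⊤ j inferInstance trivial
  let adjP : RecollMod.restrModP (Λ := Λ) j ⊣ pushModP (Λ := Λ) j :=
    adj.sheafPushforwardContinuous (E := ModuleCat.{u + 1} Λ) (Scheme.ProEt.topology U) (Scheme.ProEt.topology X)
  let t : Adjunction.Triple (RecollMod.extZeroModP (Λ := Λ) j) (RecollMod.restrModP (Λ := Λ) j) (pushModP (Λ := Λ) j) :=
    ⟨RecollMod.extZeroAdjModP (Λ := Λ) j, adjP⟩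
  have := fun F => RecollMod.isIso_unit_extZero (Λ := Λ) j F
  have hu : IsIso (RecollMod.extZeroAdjModP (Λ := Λ) j).unit := NatIso.isIso_of_isIso_app _
  let hH := t.fullyFaithfulEquiv ((RecollMod.extZeroAdjModP (Λ := Λ) j).fullyFaithfulLOfIsIsoUnit)
  have := hH.full
  have := hH.faithful
  let e0 : pushModP (Λ := Λ) j ⋙ RecollMod.restrModP (Λ := Λ) j ≅ 𝟭 _ := asIso adjP.counit
  let θ : (pushModP (Λ := Λ) j ⋙ RecollMod.restrModP (Λ := Λ) j) ⋙ RecollMod.extZeroModP (Λ := Λ) j ⟶ pushModP (Λ := Λ) j :=
    Functor.whiskerLeft (pushModP (Λ := Λ) j) (RecollMod.extZeroAdjModP (Λ := Λ) j).counit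
  let α : pushModP (Λ := Λ) j ⟶ pushModP (Λ := Λ) j ⋙ pullModP (Λ := Λ) i ⋙ pushModP (Λ := Λ) i :=
    Functor.whiskerLeft (pushModP (Λ := Λ) j) (RecollMod.pullPushAdjModP (Λ := Λ) i).unit
  have : (pushModP (Λ := Λ) j).IsRightAdjoint := (RecollMod.pullPushAdjModP (Λ := Λ) j).isRightAdjoint
  have : (pushModP (Λ := Λ) i).IsRightAdjoint := (RecollMod.pullPushAdjModP (Λ := Λ) i).isRightAdjoint
  have : PreservesLimitsOfShape J (pullModP (Λ := Λ) i) :=
    preservesLimitsOfShape_pull (A := ModuleCat.{u + 1} Λ) (RecollMod.pullPushAdjModP (Λ := Λ) i) J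
  have : PreservesLimitsOfShape J ((pushModP (Λ := Λ) j ⋙ RecollMod.restrModP (Λ := Λ) j) ⋙ RecollMod.extZeroModP (Λ := Λ) j) :=
    preservesLimitsOfShape_of_kernel θ α (fun G => RecollMod.zero hr hc _)
      (fun G => RecollMod.shortExact hr hc _) J
  exact preservesLimitsOfShape_of_natIso (Functor.isoWhiskerRight e0 (RecollMod.extZeroModP (Λ := Λ) j) ≪≫ Functor.leftUnitor _)

end Groth.Agent.EtModLC71
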