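import Groth.Agent.EtModLC71.PullSections
import Mathlib.CategoryTheory.Adjunction.PartialAdjoint
import Mathlib.CategoryTheory.Sites.RegularEpi
import Mathlib.CategoryTheory.Sites.Subcanonical
import Mathlib.CategoryTheory.Limits.Shapes.KernelPair

/-!
# Inverse images of sheaves of sets along closed immersions have left adjoints
-/

universe u

open CategoryTheory CategoryTheory.Limits AlgebraicGeometry Opposite

namespace Groth.Agent.EtModLC71

set_option backward.isDefEq.respectTransparency.types false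

variable {Z X : Scheme.{u}} {i : Z ⟶ X} [IsClosedImmersion i] [ProEtS.PCont i]
variable {L : Sheaf (Scheme.ProEt.topology X) (Type (u + 1)) ⥤ Sheaf (Scheme.ProEt.topology Z) (Type (u + 1))}

/-- the representable sheaf of an object, one universe up -/
noncomputable abbrev yP {Y : Scheme.{u}} (T : Y.ProEt) : Sheaf (Scheme.ProEt.topology Y) (Type (u + 1)) :=
  (GrothendieckTopology.uliftYoneda.{u + 1} (Scheme.ProEt.topology Y)).obj T

/-- representables of good objects corepresent sections of inverse images -/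
theorem leftAdjointObjIsDefined_good (adj : L ⊣ pushS (Type (u + 1)) i) {V : X.ProEt} (hV : IsGood i V) :
    L.leftAdjointObjIsDefined (yP ((ProEtS.bcP i).obj V)) := by
  let e : ∀ F : Sheaf (Scheme.ProEt.topology X) (Type (u + 1)), (yP V ⟶ F) ≃ (yP ((ProEtS.bcP i).obj V) ⟶ L.obj F) :=
    fun F => (GrothendieckTopology.uliftYonedaEquiv.{u + 1} (Scheme.ProEt.topology X)).trans
      ((Equiv.ofBijective _ (bijective_unit_of_isGood adj F hV)).trans
        (GrothendieckTopology.uliftYonedaEquiv.{u + 1} (Scheme.ProEt.topology Z)).symm)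
  refine Functor.CorepresentableBy.isCorepresentable (X := yP V) ⟨fun {F} => e F, fun {F F'} g f => ?_⟩
  show e F' (f ≫ g) = e F f ≫ L.map g
  apply (GrothendieckTopology.uliftYonedaEquiv.{u + 1} (Scheme.ProEt.topology Z)).injective
  let EX := fun {F} => GrothendieckTopology.uliftYonedaEquiv.{u + 1} (Scheme.ProEt.topology X) (X := V) (F := F)
  let EZ := fun {F} => GrothendieckTopology.uliftYonedaEquiv.{u + 1} (Scheme.ProEt.topology Z) (X := (ProEtS.bcP i).obj V) (F := F)
  have h1 : EX (f ≫ g) = g.hom.app (op V) (EX f) := rfl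
  have h2 : EZ (e F f ≫ L.map g) = (L.map g).hom.app _ (EZ (e F f)) := rfl
  have he : ∀ (F₀ : Sheaf (Scheme.ProEt.topology X) (Type (u + 1))) (f₀ : yP V ⟶ F₀),
      EZ (e F₀ f₀) = (adj.unit.app F₀).hom.app (op V) (EX f₀) := fun F₀ f₀ => Equiv.apply_symm_apply _ _
  exact (he F' (f ≫ g)).trans ((congrArg _ h1).trans
    ((congrArg (fun q => q.hom.app (op V) (EX f)) (adj.unit.naturality g)).trans
      ((congrArg _ (he F f).symm).trans h2.symm)))

/-- every sheaf is covered by a coproduct of good representables -/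
theorem exists_epi_good (i : Z ⟶ X) [IsClosedImmersion i] (P : Sheaf (Scheme.ProEt.topology Z) (Type (u + 1))) :
    ∃ (κ : Type (u + 1)) (V : κ → X.ProEt), (∀ k, IsGood i (V k)) ∧
      ∃ p : (∐ fun k => yP ((ProEtS.bcP i).obj (V k))) ⟶ P, Epi p := by
  let κ := Σ V : {V : X.ProEt // IsGood i V}, P.obj.obj (op ((ProEtS.bcP i).obj V.1))
  let S : κ → Sheaf (Scheme.ProEt.topology Z) (Type (u + 1)) := fun k => yP ((ProEtS.bcP i).obj k.1.1)
  let f : ∀ k, S k ⟶ P := fun k =>
    (GrothendieckTopology.uliftYonedaEquiv.{u + 1} (Scheme.ProEt.topology Z)).symm k.2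
  refine ⟨κ, fun k => k.1.1, fun k => k.1.2, Sigma.desc f, ?_⟩
  have : Sheaf.IsLocallySurjective (Sigma.desc f) := ⟨fun {T} s => by
    obtain ⟨ι, V, g, hg, hV⟩ := exists_good_cover i T
    refine GrothendieckTopology.superset_covering _ ?_ hg
    rintro W a ⟨_, b, _, ⟨l⟩, rfl⟩
    refine (Presheaf.imageSieve (Sigma.desc f).hom s).downward_closed ?_ b
    let k : κ := ⟨⟨V l, hV l⟩, P.obj.map (g l).op s⟩
    refine ⟨(Sigma.ι S k).hom.app _ ⟨𝟙 _⟩, ?_⟩
    refine (congrArg (fun q : S k ⟶ P => q.hom.app (op ((ProEtS.bcP i).obj (V l))) ⟨𝟙 _⟩) (Sigma.ι_desc f k)).trans ?_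
    exact (GrothendieckTopology.uliftYonedaEquiv_apply (Scheme.ProEt.topology Z) (f k)).symm.trans
      (Equiv.apply_symm_apply _ _)⟩
  exact Sheaf.epi_of_isLocallySurjective _

/-- inverse images of sheaves of sets along closed immersions are right adjoints -/
theorem isRightAdjoint_pull (adj : L ⊣ pushS (Type (u + 1)) i) : L.IsRightAdjoint := by
  refine Functor.isRightAdjoint_of_leftAdjointObjIsDefined_eq_top (funext fun P => eq_true ?_)
  obtain ⟨κ, V, hV, p, hp⟩ := exists_epi_good i P
  have : IsRegularEpi p := IsRegularEpiCategory.regularEpiOfEpi p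
  obtain ⟨κ', V', hV', q, hq⟩ := exists_epi_good i (pullback p p)
  have hk : IsKernelPair p (pullback.fst p p) (pullback.snd p p) := IsPullback.of_hasPullback p p
  let a := q ≫ pullback.fst p p
  let b := q ≫ pullback.snd p p
  have hw : a ≫ p = b ≫ p := by simp [a, b, pullback.condition]
  have hc : IsColimit (Cofork.ofπ p hw) := by
    let h0 := IsKernelPair.toCoequalizer' hk
    refine Cofork.IsColimit.mk _ (fun s => Cofork.IsColimit.desc h0 s.π ((cancel_epi q).1 ?_)) (fun s => ?_) (fun s m hm => ?_)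
    · simpa [a, b] using s.condition
    · exact Cofork.IsColimit.π_desc' h0 _ _
    · exact Cofork.IsColimit.hom_ext h0 (hm.trans (Cofork.IsColimit.π_desc' h0 _ _).symm)
  refine Functor.leftAdjointObjIsDefined_of_isColimit hc ?_
  rintro (_ | _)
  · exact Functor.leftAdjointObjIsDefined_colimit _ fun k => leftAdjointObjIsDefined_good adj (hV' k.as)
  · exact Functor.leftAdjointObjIsDefined_colimit _ fun k => leftAdjointObjIsDefined_good adj (hV k.as)

end Groth.Agent.EtModLC71
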