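import Groth.Agent.EtModLC71.DetectEt
import Mathlib.RingTheory.Artinian.Module
import Mathlib.RingTheory.Artinian.Ring
import Mathlib.Algebra.Module.Torsion.Basic

/-!
# Mittag-Leffler condition for lisse systems over artinian quotients
-/

universe u v w

open CategoryTheory CategoryTheory.Limits AlgebraicGeometry Opposite ARSys Groth.Agent.ARLib

namespace Groth.Agent.EtModLC71

set_option backward.isDefEq.respectTransparency.types false

/-- finite modules killed by a power of an ideal with artinian quotient are artinian -/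
theorem isArtinian_of_pow_smul_eq_bot {Λ : Type v} [CommRing Λ] [IsNoetherianRing Λ] {I : Ideal Λ}
    [IsArtinianRing (Λ ⧸ I)] : ∀ (k : ℕ) (M : Type w) [AddCommGroup M] [Module Λ M] [Module.Finite Λ M],
      I ^ k • (⊤ : Submodule Λ M) = ⊥ → IsArtinian Λ M
  | 0, M, _, _, _, h => by
    rw [pow_zero, Ideal.one_eq_top, Submodule.top_smul] at h
    have : Subsingleton M := ⟨fun a b => ((Submodule.mem_bot Λ).1 (h.le (Submodule.mem_top : a ∈ ⊤))).trans
      ((Submodule.mem_bot Λ).1 (h.le (Submodule.mem_top : b ∈ ⊤))).symm⟩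
    infer_instance
  | k + 1, M, _, _, _, h => by
    let S : Submodule Λ M := I • ⊤
    have : Module.Finite Λ S := Module.Finite.iff_fg.2 (IsNoetherian.noetherian S)
    have h1 : IsArtinian Λ S := isArtinian_of_pow_smul_eq_bot k S (by
      refine Submodule.map_injective_of_injective S.subtype_injective ?_
      rw [Submodule.map_smul'', Submodule.map_top, Submodule.range_subtype, Submodule.map_bot, ← h,
        ← Submodule.smul_assoc, smul_eq_mul, ← pow_succ])
    have hS : Module.IsTorsionBySet Λ (M ⧸ S) I := fun x a => by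
      obtain ⟨y, rfl⟩ := Submodule.Quotient.mk_surjective S x
      rw [← Submodule.Quotient.mk_smul, Submodule.Quotient.mk_eq_zero]
      exact Submodule.smul_mem_smul a.2 Submodule.mem_top
    letI := hS.module
    have : IsScalarTower Λ (Λ ⧸ I) (M ⧸ S) := hS.isScalarTower
    have : Module.Finite (Λ ⧸ I) (M ⧸ S) := Module.Finite.of_restrictScalars_finite Λ _ _
    have h2 : IsArtinian Λ (M ⧸ S) :=
      isArtinian_of_surjective_algebraMap (R := Λ ⧸ I) Ideal.Quotient.mk_surjective
    exact isArtinian_of_range_eq_ker S.subtype S.mkQ (by rw [Submodule.range_subtype, Submodule.ker_mkQ])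

/-- an image contains another one when the composite with the cokernel vanishes -/
theorem exists_factor_of_comp_eq_zero {C : Type*} [Category C] [Abelian C] {A B E : C} (f : A ⟶ E) (g : B ⟶ E)
    (h : f ≫ cokernel.π g = 0) : ∃ (T : C) (π : T ⟶ A) (_ : Epi π) (z : T ⟶ B), π ≫ f = z ≫ g :=
  let S := ShortComplex.mk g (cokernel.π g) (cokernel.condition g)
  have hS : S.Exact := ShortComplex.exact_of_g_is_cokernel _ (cokernelIsCokernel g)
  let ⟨T, π, hπ, z, hz⟩ := hS.exact_up_to_refinements f h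
  ⟨T, π, hπ, z, hz⟩

variable {Λ : Type (u + 1)} [CommRing Λ] [IsNoetherianRing Λ] {X : Scheme.{u}}

/-- the images in a lisse system over an artinian quotient are stationary -/
theorem exists_stable_image [IsNoetherian X] {I : Ideal Λ} [IsArtinianRing (Λ ⧸ I)] {F : PS (EtModW.Mod Λ X)}
    (hk : TermKilled I F) (hF : ∀ n : ℕ, EtModW.IsFTLocConst Λ (F.obj (op n))) (n : ℕ) :
    ∃ R : ℕ, ∀ s : ℕ, R ≤ s → sm F R n ≫ cokernel.π (sm F s n) = 0 := by
  have hfin : (irreducibleComponents X).Finite := TopologicalSpace.NoetherianSpace.finite_irreducibleComponents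
  have := hfin.to_subtype
  have hgen : ∀ Z : irreducibleComponents X, ∃ x : X, IsGenericPoint x (Z : Set X) := fun Z =>
    ⟨_, (show IsIrreducible (Z : Set X) from Z.2.1).isGenericPoint_genericPoint
      (isClosed_of_mem_irreducibleComponents _ Z.2)⟩
  choose x hx using hgen
  choose K iK iA ξ hξ using fun Z => exists_point (x Z)
  have hst : ∀ Z, ∃ R, ∀ s, R ≤ s →
      LinearMap.range ((EtModW.stalk Λ (ξ Z)).map (sm F s n)).hom =
        LinearMap.range ((EtModW.stalk Λ (ξ Z)).map (sm F R n)).hom := by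
    intro Z
    let G := EtModW.stalk Λ (ξ Z)
    have : Module.Finite Λ (G.obj (F.obj (op n))) :=
      finite_stalk (isConstructible_of_isFTLocConst (hF n)) (ξ Z)
    have : IsArtinian Λ (G.obj (F.obj (op n))) := isArtinian_of_pow_smul_eq_bot (I := I) (n + 1) _ (by
      refine (Submodule.eq_bot_iff _).2 fun y hy => ?_
      refine Submodule.smul_induction_on hy (fun a ha z _ => ?_) fun p q hp hq => by rw [hp, hq, add_zero]
      exact congrArg (fun k => k.hom z) (killedBy_map G (hk n) a ha))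
    obtain ⟨R, hR⟩ := IsArtinian.monotone_stabilizes (R := Λ) (M := G.obj (F.obj (op n)))
      ⟨fun s => OrderDual.toDual (LinearMap.range (G.map (sm F s n)).hom), fun a b hab => by
        show LinearMap.range (G.map (sm F b n)).hom ≤ LinearMap.range (G.map (sm F a n)).hom
        rintro _ ⟨y, rfl⟩
        refine ⟨G.map (tr F (Nat.add_le_add_left hab n)) y, ?_⟩
        rw [← ConcreteCategory.comp_apply, ← Functor.map_comp, tr_tr]⟩
    exact ⟨R, fun s hs => (hR s hs).symm⟩
  choose R hR using hst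
  obtain ⟨R₀, hR₀⟩ := Finite.exists_le R
  refine ⟨R₀, fun s hs => EtFound.eq_of_stalks _ _ fun k _ _ ζ => Eq.trans ?_ ((EtModW.stalk Λ ζ).map_zero _ _).symm⟩
  obtain ⟨Z, hZ, hyZ⟩ : ∃ Z ∈ irreducibleComponents X, ζ.base (default : Spec (CommRingCat.of k)) ∈ Z :=
    ⟨_, irreducibleComponent_mem_irreducibleComponents _, mem_irreducibleComponent⟩
  have hQ : EtModW.IsFTLocConst Λ (cokernel (sm F s n)) :=
    (lcProp Λ X).prop_cokernel (sm F s n) (hF (n + s)) (hF n)
  refine stalk_map_eq_zero_of_generic _ (𝟙 X) (isFTLocConst_pull (𝟙 X) hQ) ((hx ⟨Z, hZ⟩).specializes hyZ)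
    (ξ ⟨Z, hZ⟩) (hξ ⟨Z, hZ⟩) ?_ ζ rfl
  let G := EtModW.stalk Λ (ξ ⟨Z, hZ⟩)
  refine ModuleCat.hom_ext (LinearMap.ext fun y => ?_)
  obtain ⟨z, hz⟩ : G.map (sm F R₀ n) y ∈ LinearMap.range (G.map (sm F s n)).hom := by
    rw [hR ⟨Z, hZ⟩ s ((hR₀ _).trans hs), ← hR ⟨Z, hZ⟩ R₀ (hR₀ _)]
    exact ⟨y, rfl⟩
  show G.map (sm F R₀ n ≫ cokernel.π (sm F s n)) y = 0
  rw [Functor.map_comp, ConcreteCategory.comp_apply, ← hz]
  refine (ConcreteCategory.comp_apply _ _ z).symm.trans ?_
  rw [← Functor.map_comp, cokernel.condition, Functor.map_zero]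
  rfl

/-- exact functors preserve stationary images -/
theorem isML_map {C : Type*} [Category C] [Abelian C] {D : Type*} [Category D] [Abelian D] (G : C ⥤ D)
    [G.PreservesEpimorphisms] {F : PS C} (h : ∀ n : ℕ, ∃ R : ℕ, ∀ s : ℕ, R ≤ s → sm F R n ≫ cokernel.π (sm F s n) = 0) :
    IsML (F ⋙ G) := fun n => by
  obtain ⟨R, hR⟩ := h n
  refine ⟨R, fun s hs => le_antisymm ((imageSubobject_le_iff (sm (F ⋙ G) s n) (sm (F ⋙ G) R n)).2
    ⟨_, 𝟙 _, inferInstance, tr (F ⋙ G) (Nat.add_le_add_left hs n), (Category.id_comp _).trans (tr_tr _ _ _).symm⟩) ?_⟩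
  obtain ⟨T, π, hπ, z, hz⟩ := exists_factor_of_comp_eq_zero _ _ (hR s hs)
  refine (imageSubobject_le_iff (sm (F ⋙ G) R n) (sm (F ⋙ G) s n)).2 ⟨_, G.map π, inferInstance, G.map z, ?_⟩
  show G.map π ≫ G.map (sm F R n) = G.map z ≫ G.map (sm F s n)
  rw [← Functor.map_comp, ← Functor.map_comp, hz]

end Groth.Agent.EtModLC71
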