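import Groth.Agent.EtModLC71.AdicMod
import Groth.Agent.ARLib.Strict
import Mathlib.Algebra.Category.ModuleCat.Limits
import Mathlib.CategoryTheory.Limits.Types.Limits

/-!
# Limits of towers of modules
-/

universe w v u

open CategoryTheory CategoryTheory.Limits Opposite ARSys Groth.Agent.ARLib

namespace Groth.Agent.EtModLC71

variable {Λ : Type w} [CommRing Λ] {M : PS (ModuleCat.{w} Λ)} {c : Cone M}

/-- a compatible family comes from the limit -/
theorem exists_of_compatible (hc : IsLimit c) (s : ∀ m : ℕ, M.obj (op m))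
    (hs : ∀ m, tr M (Nat.le_succ m) (s (m + 1)) = s m) : ∃ x : c.pt, ∀ m, c.π.app (op m) x = s m := by
  have hss : ∀ m m' (h : m ≤ m'), tr M h (s m') = s m := by
    intro m m' h
    induction h with
    | refl => rw [tr_refl]; rfl
    | @step j hj ih =>
      rw [← tr_tr M hj (Nat.le_succ j), ConcreteCategory.comp_apply, hs]
      exact ih
  let d : Cone M := Cone.mk (ModuleCat.of Λ Λ)
    { app := fun m => ModuleCat.ofHom (LinearMap.toSpanSingleton Λ _ (s m.unop))
      naturality := fun a b g => by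
        refine (Category.id_comp _).trans (ModuleCat.hom_ext (LinearMap.ext_ring ?_))
        show LinearMap.toSpanSingleton Λ _ (s b.unop) 1 = M.map g (LinearMap.toSpanSingleton Λ _ (s a.unop) 1)
        rw [LinearMap.toSpanSingleton_apply_one, LinearMap.toSpanSingleton_apply_one, map_eq_tr]
        exact (hss _ _ _).symm }
  exact ⟨hc.lift d (1 : Λ), fun m => (ConcreteCategory.congr_hom (hc.fac d (op m)) (1 : Λ)).trans
    (LinearMap.toSpanSingleton_apply_one Λ _ (s m))⟩

theorem limit_ext (hc : IsLimit c) {x y : c.pt} (h : ∀ m : ℕ, c.π.app (op m) x = c.π.app (op m) y) : x = y := by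
  have e : ModuleCat.ofHom (LinearMap.toSpanSingleton Λ c.pt x) = ModuleCat.ofHom (LinearMap.toSpanSingleton Λ c.pt y) :=
    hc.hom_ext fun m => ModuleCat.hom_ext (LinearMap.ext_ring (by
      show c.π.app m (LinearMap.toSpanSingleton Λ _ x 1) = c.π.app m (LinearMap.toSpanSingleton Λ _ y 1)
      rw [LinearMap.toSpanSingleton_apply_one, LinearMap.toSpanSingleton_apply_one]
      exact h m.unop))
  simpa using congrArg (fun f => f.hom (1 : Λ)) e

theorem cone_tr (c : Cone M) {n m : ℕ} (h : n ≤ m) (x : c.pt) : tr M h (c.π.app (op m) x) = c.π.app (op n) x :=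
  ConcreteCategory.congr_hom (c.w (homOfLE h).op) x

/-- the projections of the limit of a strict tower are surjective -/
theorem π_surjective (hc : IsLimit c) (hs : ∀ n, Function.Surjective (tr M (Nat.le_succ n))) (n : ℕ) :
    Function.Surjective (c.π.app (op n)) := fun x => by
  choose lift hlift using fun k => hs (n + k)
  let t : ∀ k, M.obj (op (n + k)) := fun k => Nat.rec (motive := fun k => M.obj (op (n + k))) x (fun j y => lift j y) k
  have ht : ∀ k k' (h : k ≤ k'), tr M (Nat.add_le_add_left h n) (t k') = t k := by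
    intro k k' h
    induction h with
    | refl => rw [tr_refl]; rfl
    | @step j hj ih =>
      rw [← tr_tr M (Nat.add_le_add_left hj n) (Nat.le_succ (n + j)), ConcreteCategory.comp_apply]
      exact (congrArg _ (hlift j (t j))).trans ih
  obtain ⟨y, hy⟩ := exists_of_compatible hc (fun m => tr M (Nat.le_add_left m n) (t m)) fun m => by
    rw [← ht m (m + 1) (Nat.le_succ m), ← ConcreteCategory.comp_apply, ← ConcreteCategory.comp_apply, tr_tr, tr_tr]
  refine ⟨y, (hy n).trans ?_⟩
  exact (ht 0 n (Nat.zero_le n))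

/-- elements of `(span a) • S` as combinations with coefficients in `S` -/
theorem exists_sum_of_mem_span_smul {N : Type*} [AddCommGroup N] [Module Λ N] {r : ℕ} (a : Fin r → Λ)
    {S : Submodule Λ N} {x : N} (hx : x ∈ Ideal.span (Set.range a) • S) :
    ∃ v : Fin r → N, (∀ i, v i ∈ S) ∧ ∑ i, a i • v i = x := by
  refine Submodule.smul_induction_on hx (fun t ht y hy => ?_) fun p q hp hq => ?_
  · obtain ⟨c, hc⟩ := (Submodule.mem_span_range_iff_exists_fun Λ).1 ht
    refine ⟨fun i => c i • y, fun i => S.smul_mem _ hy, ?_⟩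
    rw [← hc, Finset.sum_smul]
    exact Finset.sum_congr rfl fun i _ => by rw [smul_smul, smul_eq_mul, mul_comm]
  · obtain ⟨v, hv, rfl⟩ := hp
    obtain ⟨v', hv', rfl⟩ := hq
    exact ⟨v + v', fun i => S.add_mem (hv i) (hv' i), by simp [smul_add, Finset.sum_add_distrib]⟩

/-- the limit of an adic tower modulo `J^{n+1}` is its `n`th member -/
theorem π_eq_zero_iff {J : Ideal Λ} (hJ : J.FG) (hM : IsAdic J M) (hc : IsLimit c) (n : ℕ) (x : c.pt) :
    c.π.app (op n) x = 0 ↔ x ∈ J ^ (n + 1) • (⊤ : Submodule Λ c.pt) := by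
  constructor
  swap
  · intro hx
    have : (c.π.app (op n)).hom x ∈ Submodule.map (c.π.app (op n)).hom (J ^ (n + 1) • ⊤) := ⟨x, hx, rfl⟩
    rw [Submodule.map_smul''] at this
    exact (Submodule.mem_bot Λ).1 ((smul_pow_top_eq_bot hM le_rfl).le (Submodule.smul_mono le_rfl le_top this))
  intro hx
  obtain ⟨r, a, ha⟩ := Submodule.fg_iff_exists_fin_generating_family.1 (Submodule.FG.pow hJ (n + 1))
  have ha' : J ^ (n + 1) = Ideal.span (Set.range a) := ha.symm
  let T : ∀ k, Set (Fin r → M.obj (op (n + 1 + k))) := fun k =>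
    {w | ∑ i, a i • w i = c.π.app (op (n + 1 + k)) x}
  have h0 : (T 0).Nonempty := by
    have h1 := (tr_eq_zero_iff hM (Nat.le_succ n) _).1 ((cone_tr c _ x).trans hx)
    rw [ha'] at h1
    obtain ⟨v, -, hv⟩ := exists_sum_of_mem_span_smul a h1
    exact ⟨v, hv⟩
  have hstep : ∀ k, ∀ w : T k, ∃ w' : T (k + 1), ∀ i,
      tr M (show k ≤ n + 1 + (k + 1) by omega) (w'.1 i) = tr M (show k ≤ n + 1 + k by omega) (w.1 i) := by
    intro k w
    choose w₀ hw₀ using fun i => tr_surjective hM (Nat.le_succ (n + 1 + k)) (w.1 i)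
    let e : M.obj (op (n + 1 + (k + 1))) := c.π.app (op (n + 1 + (k + 1))) x - ∑ i, a i • w₀ i
    have he : e ∈ J ^ (n + 1 + k + 1) • (⊤ : Submodule Λ (M.obj (op (n + 1 + (k + 1))))) := by
      refine (tr_eq_zero_iff hM (Nat.le_succ (n + 1 + k)) e).1 ?_
      refine (map_sub (tr M (Nat.le_succ (n + 1 + k))).hom _ _).trans (sub_eq_zero.2 ((cone_tr c _ x).trans ?_))
      rw [map_sum]
      simp only [map_smul]
      exact w.2.symm.trans (Finset.sum_congr rfl fun i _ => by rw [← hw₀ i])
    rw [show n + 1 + k + 1 = (n + 1) + (k + 1) by omega, pow_add, ← smul_eq_mul, Submodule.smul_assoc, ha'] at he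
    obtain ⟨v, hv, hve⟩ := exists_sum_of_mem_span_smul a he
    refine ⟨⟨fun i => w₀ i + v i, ?_⟩, fun i => ?_⟩
    · show ∑ i, a i • (w₀ i + v i) = _
      simp only [smul_add, Finset.sum_add_distrib, hve, e]
      exact add_sub_cancel _ _
    · refine (map_add (tr M (show k ≤ n + 1 + (k + 1) by omega)).hom (w₀ i) (v i)).trans ?_
      rw [show (tr M (show k ≤ n + 1 + (k + 1) by omega)).hom (v i) = 0 from (tr_eq_zero_iff hM _ _).2 (hv i), add_zero,
        ← hw₀ i, ← tr_tr M (show k ≤ n + 1 + k by omega) (Nat.le_succ (n + 1 + k)), ConcreteCategory.comp_apply]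
  choose next hnext using hstep
  let w : ∀ k, T k := fun k => Nat.rec (motive := fun k => T k) ⟨_, h0.some_mem⟩ next k
  choose y hy using fun i => exists_of_compatible hc (fun k => tr M (show k ≤ n + 1 + k by omega) ((w k).1 i))
    fun k => by
      rw [← ConcreteCategory.comp_apply, tr_tr]
      exact hnext k (w k) i
  have hxy : x = ∑ i, a i • y i := limit_ext hc fun k => by
    rw [map_sum]
    simp only [map_smul, hy]
    rw [← cone_tr c (show k ≤ n + 1 + k by omega) x, ← (w k).2, map_sum]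
    simp only [map_smul]
  rw [hxy]
  exact Submodule.sum_mem _ fun i _ =>
    Submodule.smul_mem_smul (ha' ▸ Ideal.subset_span ⟨i, rfl⟩) Submodule.mem_top

/-- Mittag-Leffler: limits of short exact towers -/
theorem exists_lift_limit {A B C : PS (ModuleCat.{w} Λ)} (f : A ⟶ B) (g : B ⟶ C)
    (hg : ∀ n : ℕ, Function.Surjective (g.app (op n)))
    (hex : ∀ (n : ℕ) (b : B.obj (op n)), g.app (op n) b = 0 → ∃ a, f.app (op n) a = b)
    (hfg : ∀ (n : ℕ) a, g.app (op n) (f.app (op n) a) = 0)
    {Y : PS (ModuleCat.{w} Λ)} (v : Y ⟶ A) (hY : IsStrict Y) (hv : IsARIso v)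
    (s : ∀ m : ℕ, C.obj (op m)) (hs : ∀ m, tr C (Nat.le_succ m) (s (m + 1)) = s m) :
    ∃ t : ∀ m : ℕ, B.obj (op m), (∀ m, tr B (Nat.le_succ m) (t (m + 1)) = t m) ∧ ∀ m, g.app (op m) (t m) = s m := by
  have hss : ∀ m m' (h : m ≤ m'), tr C h (s m') = s m := by
    intro m m' h
    induction h with
    | refl => rw [tr_refl]; rfl
    | @step j hj ih =>
      rw [← tr_tr C hj (Nat.le_succ j), ConcreteCategory.comp_apply, hs]
      exact ih
  obtain ⟨r, ⟨I⟩⟩ := exists_inv hv
  choose b hb using fun m => hg m (s m)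
  have hn : ∀ {n m : ℕ} (h : n ≤ m) z, g.app (op n) (tr B h z) = tr C h (g.app (op m) z) := fun h z =>
    ConcreteCategory.congr_hom (tr_naturality g h) z
  have hfn : ∀ {n m : ℕ} (h : n ≤ m) z, f.app (op n) (tr A h z) = tr B h (f.app (op m) z) := fun h z =>
    ConcreteCategory.congr_hom (tr_naturality f h) z
  have hvn : ∀ {n m : ℕ} (h : n ≤ m) z, v.app (op n) (tr Y h z) = tr A h (v.app (op m) z) := fun h z =>
    ConcreteCategory.congr_hom (tr_naturality v h) z
  have hker : ∀ k, g.app (op (k + r)) (tr B (show k + r ≤ k + 1 + r by omega) (b (k + 1 + r)) - b (k + r)) = 0 := fun k => by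
    rw [map_sub, hn, hb, hb, hss, sub_self]
  choose d hd using fun k => hex _ _ (hker k)
  -- the discrepancy lies in the stable images
  let e : ∀ k, Y.obj (op k) := fun k => I.ψ k (k + r) le_rfl (d k)
  have he : ∀ k, f.app (op k) (v.app (op k) (e k)) =
      tr B (show k ≤ k + 1 + r by omega) (b (k + 1 + r)) - tr B (show k ≤ k + r by omega) (b (k + r)) := fun k => by
    show f.app (op k) (v.app (op k) (I.ψ k (k + r) le_rfl (d k))) = _
    rw [← ConcreteCategory.comp_apply (I.ψ k (k + r) le_rfl), I.ψ_u, hfn, hd, map_sub, ← ConcreteCategory.comp_apply,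
      tr_tr]
  choose lift hlift using fun k => (ModuleCat.epi_iff_surjective (tr Y (Nat.le_succ k))).1 (hY k (k + 1) (Nat.le_succ k))
  -- solve `tr z_{k+1} = z_k - e_k` in the strict system
  let z : ∀ k, Y.obj (op k) := fun k =>
    Nat.rec (motive := fun k => Y.obj (op k)) 0 (fun j y => lift j (y - e j)) k
  refine ⟨fun k => tr B (show k ≤ k + r by omega) (b (k + r)) + f.app (op k) (v.app (op k) (z k)), fun k => ?_, fun k => ?_⟩
  · rw [map_add, ← hfn, ← hvn, show z (k + 1) = lift k (z k - e k) from rfl, hlift, map_sub, map_sub, he, ← ConcreteCategory.comp_apply, tr_tr]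
    abel
  · rw [map_add, hfg, add_zero, hn, hb, hss]

end Groth.Agent.EtModLC71
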