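import Groth.Agent.EtModLC71.SectP
import Groth.Agent.EtModLC71.ProPush
import Groth.Agent.ProEtLib.LanSheaf

/-!
# Sections of quotient maps over weakly contractible affine objects, for arbitrary ideals
-/

universe u

open CategoryTheory CategoryTheory.Limits AlgebraicGeometry Opposite ARSys

namespace Groth.Agent.EtModLC71

set_option backward.isDefEq.respectTransparency.types false

variable {Λ : Type (u + 1)} [CommRing Λ] {X : Scheme.{u}}

/-- linear maps send `J • ⊤` into `J • ⊤` -/
theorem smul_top_le_comap (J : Ideal Λ) {M N : Type*} [AddCommGroup M] [Module Λ M] [AddCommGroup N] [Module Λ N]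
    (f : M →ₗ[Λ] N) : J • (⊤ : Submodule Λ M) ≤ (J • (⊤ : Submodule Λ N)).comap f :=
  Submodule.smul_le.2 fun a ha m _ => by
    rw [Submodule.mem_comap, map_smul]
    exact Submodule.smul_mem_smul ha Submodule.mem_top

/-- the presheaf `V ↦ F(V) / J F(V)` -/
noncomputable def quotPsh (J : Ideal Λ) (F : EtModW.ModP Λ X) : X.ProEtᵒᵖ ⥤ ModuleCat.{u + 1} Λ where
  obj V := ModuleCat.of Λ (F.obj.obj V ⧸ J • (⊤ : Submodule Λ (F.obj.obj V)))
  map f := ModuleCat.ofHom (Submodule.mapQ _ _ (F.obj.map f).hom (smul_top_le_comap J _))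
  map_id V := ModuleCat.hom_ext (Submodule.linearMap_qext _ (LinearMap.ext fun x => by
    show Submodule.Quotient.mk (F.obj.map (𝟙 V) x) = Submodule.Quotient.mk x
    simp))
  map_comp f g := ModuleCat.hom_ext (Submodule.linearMap_qext _ (LinearMap.ext fun x => by
    show Submodule.Quotient.mk (F.obj.map (f ≫ g) x) = Submodule.Quotient.mk (F.obj.map g (F.obj.map f x))
    simp))

/-- the projection -/
noncomputable def quotPshMk (J : Ideal Λ) (F : EtModW.ModP Λ X) : F.obj ⟶ quotPsh J F where
  app V := ModuleCat.ofHom (Submodule.mkQ _)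
  naturality V W f := ModuleCat.hom_ext (LinearMap.ext fun x => rfl)

/-- on weakly contractible affine objects, the kernel of a quotient map modulo `J` is `J F(U)` -/
theorem mem_smul_of_isQuot {J : Ideal Λ} {F Q : EtModW.ModP Λ X} {p : F ⟶ Q} (hp : IsQuot J p) {U : X.ProEt}
    (hU : ProEtLib.Criterion U) {x : F.obj.obj (op U)} (hx : p.hom.app (op U) x = 0) :
    x ∈ J • (⊤ : Submodule Λ (F.obj.obj (op U))) := by
  let T := (presheafToSheaf (Scheme.ProEt.topology X) (ModuleCat.{u + 1} Λ)).obj (quotPsh J F)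
  let φ : F ⟶ T := ⟨quotPshMk J F ≫ CategoryTheory.toSheafify (Scheme.ProEt.topology X) (quotPsh J F)⟩
  have hk : ∀ a ∈ J, a • φ = 0 := fun a ha => Sheaf.hom_ext (NatTrans.ext (funext fun V => ModuleCat.hom_ext (LinearMap.ext fun y => by
    show a • ((CategoryTheory.toSheafify (Scheme.ProEt.topology X) (quotPsh J F)).app V (Submodule.Quotient.mk y)) = 0
    refine (((CategoryTheory.toSheafify (Scheme.ProEt.topology X) (quotPsh J F)).app V).hom.map_smul a (Submodule.Quotient.mk y)).symm.trans ?_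
    exact (congrArg ((CategoryTheory.toSheafify (Scheme.ProEt.topology X) (quotPsh J F)).app V).hom
      ((Submodule.Quotient.mk_eq_zero (J • (⊤ : Submodule Λ (F.obj.obj V)))).2 (Submodule.smul_mem_smul ha Submodule.mem_top))).trans (map_zero _))))
  obtain ⟨ψ, hψ, -⟩ := hp.2 T φ hk
  have hx0 : φ.hom.app (op U) x = 0 := by
    rw [← hψ]
    show ψ.hom.app (op U) (p.hom.app (op U) x) = 0
    rw [hx, map_zero]
  obtain ⟨n, W, -, hd, hc, hW⟩ := hU _ (Presheaf.equalizerSieve_mem (Scheme.ProEt.topology X)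
    (CategoryTheory.toSheafify (Scheme.ProEt.topology X) (quotPsh J F)) ((quotPshMk J F).app (op U) x) 0
    (hx0.trans (map_zero _).symm))
  let res : F.obj.obj (op U) →ₗ[Λ] ∀ k : Fin n, F.obj.obj (op (ProEtLib.opObj U (W k))) :=
    LinearMap.pi fun k => (F.obj.map (ProEtLib.opHom U (W k)).op).hom
  have : ∀ k, IsOpenImmersion (ProEtLib.opHom U (W k)).left := fun k => inferInstanceAs (IsOpenImmersion (W k).ι)
  have hglue : ∀ t : ∀ k : Fin n, F.obj.obj (op (ProEtLib.opObj U (W k))), ∃! s, ∀ k, F.obj.map (ProEtLib.opHom U (W k)).op s = t k := fun t =>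
    ProEtLib.existsUnique_glue (F.obj ⋙ forget (ModuleCat.{u + 1} Λ))
      (((isSheaf_iff_isSheaf_of_type _ _).1 (GrothendieckTopology.HasSheafCompose.isSheaf _ F.2)))
      (fun V hV => @ProEtLib.subsingleton_of_isEmpty _ ((sheafCompose _ (forget (ModuleCat.{u + 1} Λ))).obj F) V hV)
      U (fun k => ProEtLib.opObj U (W k)) (fun k => ProEtLib.opHom U (W k))
      (fun a b hab => by
        show Disjoint (Set.range (W a).ι.base) (Set.range (W b).ι.base)
        rw [Scheme.Opens.range_ι, Scheme.Opens.range_ι]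
        exact hd hab)
      (fun y => by
        obtain ⟨k, hk⟩ := Set.mem_iUnion.1 (hc.symm ▸ Set.mem_univ y)
        exact ⟨k, ⟨y, hk⟩, rfl⟩) t
  have hres : Function.Bijective res := by
    refine ⟨fun s t h => (hglue (res t)).unique (fun k => congrFun h k) (fun k => rfl), fun t => ?_⟩
    obtain ⟨s, hs, -⟩ := hglue t
    exact ⟨s, funext hs⟩
  let e := LinearEquiv.ofBijective res hres
  have hmem : ∀ k, res x k ∈ J • (⊤ : Submodule Λ (F.obj.obj (op (ProEtLib.opObj U (W k))))) := fun k =>
    (Submodule.Quotient.mk_eq_zero _).1 ((hW k).trans (map_zero ((quotPsh J F).map (ProEtLib.opHom U (W k)).op).hom))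
  classical
  have hpi : res x ∈ J • (⊤ : Submodule Λ (∀ k : Fin n, F.obj.obj (op (ProEtLib.opObj U (W k))))) := by
    rw [← Finset.univ_sum_single (res x)]
    exact Submodule.sum_mem _ fun k _ => smul_top_le_comap J (LinearMap.single Λ (fun k => F.obj.obj (op (ProEtLib.opObj U (W k)))) k) (hmem k)
  have := smul_top_le_comap J e.symm.toLinearMap hpi
  rwa [Submodule.mem_comap, LinearEquiv.coe_coe, show res x = e x from rfl, e.symm_apply_apply] at this

/-- direct images preserving weak contractibility preserve quotient maps modulo any ideal -/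
theorem isQuot_pushModP {Z : Scheme.{u}} {f : Z ⟶ X} [ProEtS.PCont f] [IsAffineHom f] (hf : PreservesWC f)
    {J : Ideal Λ} {F Q : EtModW.ModP Λ Z} {p : F ⟶ Q} (hp : IsQuot J p) :
    IsQuot J ((pushModP (Λ := Λ) f).map p) := by
  have : PreservesFiniteColimits (pushModP (Λ := Λ) f) := preservesFiniteColimits_pushModP hf
  have := ARLib.IsQuot.epi hp
  have hpe : Epi ((pushModP (Λ := Λ) f).map p) := inferInstance
  refine ⟨fun a ha => ?_, fun T φ hφ => ?_⟩
  · refine Sheaf.hom_ext (NatTrans.ext (funext fun V => ?_))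
    exact congrArg (fun q => q.hom.app (op ((ProEtS.bcP f).obj V.unop))) (hp.1 a ha)
  have hz : kernel.ι ((pushModP (Λ := Λ) f).map p) ≫ φ = 0 := by
    refine Sheaf.hom_ext (NatTrans.ext (funext fun ⟨U⟩ => ModuleCat.hom_ext (LinearMap.ext fun x => ?_)))
    obtain ⟨ι, V, g, hg, hV⟩ := ProEtLib.exists_wc_cover_family U
    have hsep : Presieve.IsSeparated (Scheme.ProEt.topology X) (T.obj ⋙ forget (ModuleCat.{u + 1} Λ)) :=
      (((isSheaf_iff_isSheaf_of_type _ _).1 (GrothendieckTopology.HasSheafCompose.isSheaf _ T.2))).isSeparated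
    refine (hsep _ hg).ext ?_
    rintro Y c ⟨W, a, _, ⟨k⟩, rfl⟩
    have := (hV k).1
    have : IsAffine ((ProEtS.bcP f).obj (V k)).left :=
      @isAffine_of_isAffineHom _ _ (pullback.fst (V k).hom f) (MorphismProperty.pullback_fst _ _ inferInstance) this
    let K := kernel ((pushModP (Λ := Λ) f).map p)
    let y := (kernel.ι ((pushModP (Λ := Λ) f).map p)).hom.app (op (V k)) (K.obj.map (g k).op x)
    have hy0 : p.hom.app (op ((ProEtS.bcP f).obj (V k))) y = 0 :=
      congrArg (fun q : K ⟶ _ => q.hom.app (op (V k)) (K.obj.map (g k).op x)) (kernel.condition ((pushModP (Λ := Λ) f).map p))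
    have hy := mem_smul_of_isQuot hp
      (ProEtLib.criterion_of_wContractible (ProEtLib.wContractible_of_isWC (hf _ (hV k).1 (hV k).2))) hy0
    have hφy : φ.hom.app (op (V k)) y = 0 := by
      refine Submodule.smul_induction_on (p := fun y : F.obj.obj (op ((ProEtS.bcP f).obj (V k))) => φ.hom.app (op (V k)) y = 0) hy (fun b hb z _ => ?_) fun z w hz hw => ?_
      · exact ((φ.hom.app (op (V k))).hom.map_smul b z).trans
          (congrArg (fun q : (pushModP (Λ := Λ) f).obj F ⟶ T => q.hom.app (op (V k)) z) (hφ b hb))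
      · exact ((φ.hom.app (op (V k))).hom.map_add z w).trans ((congrArg₂ (· + ·) hz hw).trans (add_zero _))
    show T.obj.map (a ≫ g k).op ((kernel.ι _ ≫ φ).hom.app (op U) x) = T.obj.map (a ≫ g k).op (0 : T.obj.obj (op U))
    rw [map_zero, op_comp, Functor.map_comp_apply, ← NatTrans.naturality_apply (kernel.ι _ ≫ φ).hom (g k).op x]
    exact (congrArg _ hφy).trans (map_zero _)
  exact ⟨Abelian.epiDesc _ φ hz, Abelian.comp_epiDesc _ _ _,
    fun ψ hψ => by rw [← cancel_epi ((pushModP (Λ := Λ) f).map p), hψ, Abelian.comp_epiDesc]⟩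

end Groth.Agent.EtModLC71
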