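import Groth.Agent.EtModLC71.ClosedCover
import Mathlib.CategoryTheory.Adjunction.FullyFaithful
import Mathlib.CategoryTheory.Sites.LocallyBijective

/-!
# Recollement of the pro-etale site along a closed immersion: elementwise statements

Everything here works for an arbitrary concrete coefficient category.
-/

universe u

open CategoryTheory CategoryTheory.Limits AlgebraicGeometry Opposite

namespace Groth.Agent.EtModLC71

set_option backward.isDefEq.respectTransparency.types false

variable {A : Type (u + 2)} [Category.{u + 1} A] {FA : A → A → Type (u + 1)} {CA : A → Type (u + 1)}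
  [∀ P Q, FunLike (FA P Q) (CA P) (CA Q)] [ConcreteCategory.{u + 1} A FA]

variable {Z X : Scheme.{u}} {i : Z ⟶ X} [IsClosedImmersion i] [ProEtS.PCont i]

variable (A) in
/-- direct image with arbitrary coefficients -/
noncomputable abbrev pushS (i : Z ⟶ X) [ProEtS.PCont i] :
    Sheaf (Scheme.ProEt.topology Z) A ⥤ Sheaf (Scheme.ProEt.topology X) A :=
  (ProEtS.bcP i).sheafPushforwardContinuous A (Scheme.ProEt.topology X) (Scheme.ProEt.topology Z)

instance hasLimitsOfShape_structuredArrow {A : Type (u + 2)} [Category.{u + 1} A] [HasLimitsOfSize.{u + 1, u + 1} A]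
    {Z X : Scheme.{u}} (i : Z ⟶ X) (T : Z.ProEtᵒᵖ) :
    HasLimitsOfShape (StructuredArrow T (ProEtS.bcP i).op) A :=
  have : HasLimitsOfSize.{u, u + 1} A := hasLimitsOfSizeShrink.{u, u + 1, u + 1, u + 1} A
  inferInstance

variable {L : Sheaf (Scheme.ProEt.topology X) A ⥤ Sheaf (Scheme.ProEt.topology Z) A}

omit [IsClosedImmersion i] in
/-- direct images have trivial sections away from the closed subscheme -/
theorem subsingleton_push [(Scheme.ProEt.topology Z).HasSheafCompose (forget A)]
    (Q : Sheaf (Scheme.ProEt.topology Z) A) (V : X.ProEt)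
    (hV : Set.range V.hom.base ⊆ (Set.range i.base)ᶜ) :
    Subsingleton (ToType (((pushS A i).obj Q).obj.obj (op V))) := by
  have : IsEmpty ((ProEtS.bcP i).obj V).left := ⟨fun z => hV ⟨(pullback.fst V.hom i).base z, rfl⟩
    ⟨(pullback.snd V.hom i).base z, (congrArg (fun q : pullback V.hom i ⟶ X => q.base z) pullback.condition).symm⟩⟩
  exact ProEtLib.subsingleton_of_isEmpty
    ((sheafCompose (Scheme.ProEt.topology Z) (forget A)).obj Q) ((ProEtS.bcP i).obj V)

section

variable [HasSheafify (closedTop i) A] [(closedTop i).WEqualsLocallyBijective A]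
  [∀ (T : Z.ProEtᵒᵖ), HasLimitsOfShape (StructuredArrow T (ProEtS.bcP i).op) A]

/-- a morphism to a direct image which is locally bijective over the closed subscheme -/
theorem exists_toPush (F : Sheaf (Scheme.ProEt.topology X) A) :
    ∃ (Q : Sheaf (Scheme.ProEt.topology Z) A) (φ : F ⟶ (pushS A i).obj Q),
      Presheaf.IsLocallyInjective (closedTop i) φ.hom ∧ Presheaf.IsLocallySurjective (closedTop i) φ.hom := by
  have := isCoverDense_bcP i
  have := isLocallyFull_bcP i
  have := isLocallyFaithful_bcP i
  have : (ProEtS.bcP i).IsDenseSubsite (closedTop i) (Scheme.ProEt.topology Z) :=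
    { functorPushforward_mem_iff := Functor.mem_restrictedTopology_iff.symm }
  let eqv := (ProEtS.bcP i).sheafPushforwardContinuous A (closedTop i) (Scheme.ProEt.topology Z)
  let e := eqv.objObjPreimageIso ((presheafToSheaf (closedTop i) A).obj F.obj)
  refine ⟨eqv.objPreimage ((presheafToSheaf (closedTop i) A).obj F.obj),
    ⟨CategoryTheory.toSheafify (closedTop i) F.obj ≫ e.inv.hom⟩, ?_, ?_⟩
  · have : IsIso e.inv.hom := inferInstanceAs (IsIso ((sheafToPresheaf (closedTop i) A).map e.inv))
    exact inferInstanceAs (Presheaf.IsLocallyInjective (closedTop i) (CategoryTheory.toSheafify (closedTop i) F.obj ≫ e.inv.hom))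
  · have : IsIso e.inv.hom := inferInstanceAs (IsIso ((sheafToPresheaf (closedTop i) A).map e.inv))
    exact inferInstanceAs (Presheaf.IsLocallySurjective (closedTop i) (CategoryTheory.toSheafify (closedTop i) F.obj ≫ e.inv.hom))

variable (adj : L ⊣ pushS A i)

include adj in
/-- sections identified by the unit agree locally near the closed subscheme -/
theorem equalizerSieve_mem_closedTop (F : Sheaf (Scheme.ProEt.topology X) A) {U : X.ProEt}
    (s t : ToType (F.obj.obj (op U)))
    (h : (adj.unit.app F).hom.app (op U) s = (adj.unit.app F).hom.app (op U) t) :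
    Presheaf.equalizerSieve s t ∈ closedTop i U := by
  obtain ⟨Q, φ, hφ, -⟩ := exists_toPush (i := i) F
  refine Presheaf.equalizerSieve_mem (closedTop i) φ.hom s t ?_
  have hf : φ = adj.unit.app F ≫ (pushS A i).map ((adj.homEquiv _ _).symm φ) := by
    exact ((adj.homEquiv F Q).apply_symm_apply φ).symm.trans (adj.homEquiv_unit _ _ _)
  have happ : ∀ x, φ.hom.app (op U) x = ((pushS A i).map ((adj.homEquiv _ _).symm φ)).hom.app (op U)
      ((adj.unit.app F).hom.app (op U) x) := fun x => by
    conv_lhs => rw [hf]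
    exact ConcreteCategory.comp_apply _ _ _
  rw [happ, happ, h]

include adj in
/-- the unit is locally bijective over the closed subscheme -/
theorem isLocallySurjective_unit (F : Sheaf (Scheme.ProEt.topology X) A) :
    Presheaf.IsLocallySurjective (closedTop i) (adj.unit.app F).hom := by
  have := isCoverDense_bcP i
  have := isLocallyFull_bcP i
  have := isLocallyFaithful_bcP i
  have : (ProEtS.bcP i).IsDenseSubsite (closedTop i) (Scheme.ProEt.topology Z) :=
    { functorPushforward_mem_iff := Functor.mem_restrictedTopology_iff.symm }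
  let eqv := (ProEtS.bcP i).sheafPushforwardContinuous A (closedTop i) (Scheme.ProEt.topology Z)
  let P := (presheafToSheaf (closedTop i) A).obj F.obj
  let e := eqv.objObjPreimageIso P
  let Q := eqv.objPreimage P
  let φ : F ⟶ (pushS A i).obj Q := ⟨CategoryTheory.toSheafify (closedTop i) F.obj ≫ e.inv.hom⟩
  let ψ : L.obj F ⟶ Q := (adj.homEquiv _ _).symm φ
  have hψ : adj.unit.app F ≫ (pushS A i).map ψ = φ :=
    ((adj.homEquiv_unit _ _ _).symm).trans ((adj.homEquiv F Q).apply_symm_apply φ)
  let g : P ⟶ eqv.obj (L.obj F) :=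
    ((sheafificationAdjunction (closedTop i) A).homEquiv F.obj (eqv.obj (L.obj F))).symm (adj.unit.app F).hom
  have hg : CategoryTheory.toSheafify (closedTop i) F.obj ≫ g.hom = (adj.unit.app F).hom :=
    (((sheafificationAdjunction (closedTop i) A).homEquiv_unit _ _ _).symm).trans
      (((sheafificationAdjunction (closedTop i) A).homEquiv F.obj (eqv.obj (L.obj F))).apply_symm_apply _)
  let ζ : Q ⟶ L.obj F := eqv.preimage (e.hom ≫ g)
  have hζ : (eqv.map ζ).hom = e.hom.hom ≫ g.hom := by rw [Functor.map_preimage]; rfl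
  have h1 : φ ≫ (pushS A i).map ζ = adj.unit.app F := by
    apply Sheaf.hom_ext
    show (CategoryTheory.toSheafify (closedTop i) F.obj ≫ e.inv.hom) ≫ (eqv.map ζ).hom = _
    rw [hζ, Category.assoc]
    have : e.inv.hom ≫ e.hom.hom = 𝟙 _ := congrArg (fun q => q.hom) e.inv_hom_id
    rw [reassoc_of% this]
    exact hg
  have h2 : ζ ≫ ψ = 𝟙 Q := by
    apply eqv.map_injective
    refine (Iso.cancel_iso_inv_left e _ _).1 ?_
    apply Sheaf.hom_ext
    refine sheafify_hom_ext (closedTop i) _ _ (eqv.obj Q).2 ?_
    show CategoryTheory.toSheafify (closedTop i) F.obj ≫ e.inv.hom ≫ (eqv.map (ζ ≫ ψ)).hom =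
      CategoryTheory.toSheafify (closedTop i) F.obj ≫ e.inv.hom ≫ (eqv.map (𝟙 Q)).hom
    rw [CategoryTheory.Functor.map_id, ← Category.assoc, ← Category.assoc]
    have h3 : φ ≫ (pushS A i).map (ζ ≫ ψ) = φ := by
      rw [Functor.map_comp, reassoc_of% h1, hψ]
    exact (congrArg (fun q => q.hom) h3).trans (Category.comp_id _).symm
  have : Presheaf.IsLocallySurjective (closedTop i) φ.hom := by
    have : IsIso e.inv.hom := inferInstanceAs (IsIso ((sheafToPresheaf (closedTop i) A).map e.inv))
    exact inferInstanceAs (Presheaf.IsLocallySurjective (closedTop i) (CategoryTheory.toSheafify (closedTop i) F.obj ≫ e.inv.hom))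
  have h4 : ψ ≫ ζ = 𝟙 (L.obj F) := by
    apply (adj.homEquiv _ _).injective
    rw [adj.homEquiv_unit, adj.homEquiv_unit, Functor.map_comp, reassoc_of% hψ, h1, CategoryTheory.Functor.map_id]
    exact (Category.comp_id _).symm
  have : IsIso ζ := ⟨ψ, h2, h4⟩
  have : IsIso ((pushS A i).map ζ).hom := inferInstanceAs (IsIso ((sheafToPresheaf _ A).map ((pushS A i).map ζ)))
  rw [← h1]
  exact inferInstanceAs (Presheaf.IsLocallySurjective (closedTop i) (φ.hom ≫ ((pushS A i).map ζ).hom))

variable [(Scheme.ProEt.topology X).HasSheafCompose (forget A)]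

include adj in
/-- sections are detected on the closed subscheme and on its complement -/
theorem eq_of_closed_open (hr : IsRetrocompact (Set.range i.base)ᶜ) (F : Sheaf (Scheme.ProEt.topology X) A)
    {U : X.ProEt} (s t : ToType (F.obj.obj (op U)))
    (h : (adj.unit.app F).hom.app (op U) s = (adj.unit.app F).hom.app (op U) t)
    (ho : ∀ (V : X.ProEt) (c : V ⟶ U), Set.range V.hom.base ⊆ (Set.range i.base)ᶜ →
      F.obj.map c.op s = F.obj.map c.op t) : s = t := by
  have hsep : Presieve.IsSeparated (Scheme.ProEt.topology X) (F.obj ⋙ forget A) :=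
    (((isSheaf_iff_isSheaf_of_type _ _).1 (GrothendieckTopology.HasSheafCompose.isSheaf _ F.2))).isSeparated
  exact (hsep _ (closedCover i hr U _ (equalizerSieve_mem_closedTop adj F s t h) ho)).ext fun _ _ hf => hf

variable [(Scheme.ProEt.topology Z).HasSheafCompose (forget A)]
  [(forget A).ReflectsIsomorphisms]

include adj in
/-- sheaves with trivial sections away from the closed subscheme are direct images -/
theorem isIso_unit_of_supported (hr : IsRetrocompact (Set.range i.base)ᶜ)
    (F : Sheaf (Scheme.ProEt.topology X) A)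
    (hF : ∀ V : X.ProEt, Set.range V.hom.base ⊆ (Set.range i.base)ᶜ →
      Subsingleton (ToType (F.obj.obj (op V))) ∧ Nonempty (ToType (F.obj.obj (op V)))) :
    IsIso (adj.unit.app F) := by
  obtain ⟨Q, φ, hinj, hsurj⟩ := exists_toPush (i := i) F
  have h1 : Sheaf.IsLocallyInjective φ := ⟨fun {U} s t hst => by
    have := closedCover i hr U.unop (Presheaf.equalizerSieve s t) (Presheaf.equalizerSieve_mem (closedTop i) φ.hom s t hst)
      fun V c hV => @Subsingleton.elim _ (hF V hV).1 _ _
    exact this⟩
  have h2 : Sheaf.IsLocallySurjective φ := ⟨fun {U} s => closedCover i hr U _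
    (Presheaf.imageSieve_mem (closedTop i) φ.hom s) fun V c hV =>
      ⟨(hF V hV).2.some, @Subsingleton.elim _ (subsingleton_push Q V hV) _ _⟩⟩
  have : IsIso φ := (Sheaf.isLocallyBijective_iff_isIso φ).1 ⟨h1, h2⟩
  have := isCoverDense_bcP i
  have := isLocallyFull_bcP i
  exact adj.isIso_unit_app_of_iso (asIso φ)

end

/-- objects over an open subscheme come from it -/
theorem exists_compP_iso {U : Scheme.{u}} (j : U ⟶ X) [IsOpenImmersion j] {V : X.ProEt}
    (hV : Set.range V.hom.base ⊆ Set.range j.base) :
    ∃ V₀ : U.ProEt, Nonempty ((ProEtS.compP j).obj V₀ ≅ V) := by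
  let l := IsOpenImmersion.lift j V.hom hV
  have hl : l ≫ j = V.hom := IsOpenImmersion.lift_fac _ _ _
  have : WeaklyEtale (l ≫ j) := by rw [hl]; exact V.prop
  have : WeaklyEtale l := MorphismProperty.of_postcomp (W := @WeaklyEtale) (W' := @WeaklyEtale) l j inferInstance inferInstance
  exact ⟨Scheme.ProEt.mk l, ⟨MorphismProperty.Over.isoMk (Iso.refl _) ((Category.id_comp _).trans hl.symm)⟩⟩

end Groth.Agent.EtModLC71
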