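import Groth.Agent.EtModLC71.Recoll
import Groth.Agent.S0742
import Mathlib.CategoryTheory.Sites.EpiMono

/-!
# The recollement short exact sequence on pro-etale abelian sheaves
-/

universe u

open CategoryTheory CategoryTheory.Limits AlgebraicGeometry Opposite

namespace Groth.Agent.EtModLC71.RecollAb

set_option backward.isDefEq.respectTransparency.types false
set_option linter.unusedSectionVars false

variable {U X Z : Scheme.{u}} {i : Z ⟶ X} [IsClosedImmersion i] [ProEtS.PCont i]
  {j : U ⟶ X} [IsOpenImmersion j] [ProEtS.JPCont j]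

/-- there are no morphisms from extensions by zero to direct images -/
theorem hom_ext (hc : Set.range j.base = (Set.range i.base)ᶜ) {G : ProEtS.AbP U} {Q : ProEtS.AbP Z}
    (φ ψ : (ProEtS.extZeroP j).obj G ⟶ (ProEtS.pushP i).obj Q) : φ = ψ := by
  refine ((ProEtS.extZeroPAdj j).homEquiv _ _).injective (Sheaf.hom_ext (NatTrans.ext (funext fun V =>
    ConcreteCategory.hom_ext _ _ fun x => ?_)))
  refine @Subsingleton.elim _ (subsingleton_push Q ((ProEtS.compP j).obj V.unop) ?_) _ _
  rintro _ ⟨v, rfl⟩
  exact hc.le ⟨(V.unop.hom).base v, rfl⟩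

/-- the counit is bijective on sections over the open subscheme -/
theorem bijective_counit (F : ProEtS.AbP X) {V : X.ProEt} (hV : Set.range V.hom.base ⊆ Set.range j.base) :
    Function.Bijective (((ProEtS.extZeroPAdj j).counit.app F).hom.app (op V)) := by
  have : ProEtS.PCont j := ProEtLib.pCont j
  obtain ⟨V₀, ⟨e⟩⟩ := exists_compP_iso j hV
  have hu := (Groth.Agent.S0742.result j ((ProEtS.restrP j).obj F) ((ProEtS.restrP j).obj F)).1
  have : IsIso ((ProEtS.restrP j).map ((ProEtS.extZeroPAdj j).counit.app F)) := by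
    have h := (ProEtS.extZeroPAdj j).right_triangle_components F
    have : IsIso ((ProEtS.extZeroPAdj j).unit.app ((ProEtS.restrP j).obj F) ≫
        (ProEtS.restrP j).map ((ProEtS.extZeroPAdj j).counit.app F)) := by rw [h]; exact IsIso.id _
    exact IsIso.of_isIso_comp_left ((ProEtS.extZeroPAdj j).unit.app ((ProEtS.restrP j).obj F)) _
  have h1 : IsIso (((ProEtS.extZeroPAdj j).counit.app F).hom.app (op ((ProEtS.compP j).obj V₀))) :=
    inferInstanceAs (IsIso (((sheafToPresheaf _ _).map
      ((ProEtS.restrP j).map ((ProEtS.extZeroPAdj j).counit.app F))).app (op V₀)))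
  have hiso : IsIso (((ProEtS.extZeroPAdj j).counit.app F).hom.app (op V)) :=
    (NatTrans.isIso_app_iff_of_iso ((ProEtS.extZeroPAdj j).counit.app F).hom e.op).2 h1
  exact ConcreteCategory.bijective_of_isIso _

variable (hr : IsRetrocompact (Set.range i.base)ᶜ) (hc : Set.range j.base = (Set.range i.base)ᶜ)
include hr hc

theorem zero (F : ProEtS.AbP X) :
    (ProEtS.extZeroPAdj j).counit.app F ≫ (ProEtS.pullPushAdjP i).unit.app F = 0 :=
  hom_ext hc _ _

theorem mono_counit (F : ProEtS.AbP X) : Mono ((ProEtS.extZeroPAdj j).counit.app F) := by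
  refine Sheaf.mono_of_injective _ fun V s t hst => ?_
  refine eq_of_closed_open (ProEtS.pullPushAdjP i) hr _ s t ?_ fun W c hW => ?_
  · have h0 : (ProEtS.pullPushAdjP i).unit.app ((ProEtS.extZeroP j).obj ((ProEtS.restrP j).obj F)) = 0 := hom_ext hc _ _
    have h0' : ∀ x, ((ProEtS.pullPushAdjP i).unit.app ((ProEtS.extZeroP j).obj ((ProEtS.restrP j).obj F))).hom.app V x = 0 :=
      fun x => by rw [h0]; rfl
    exact (h0' s).trans (h0' t).symm
  · refine (bijective_counit F (hW.trans hc.ge)).1 ?_
    rw [NatTrans.naturality_apply, NatTrans.naturality_apply]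
    exact congrArg (F.obj.map c.op) hst

theorem epi_unit (F : ProEtS.AbP X) : Epi ((ProEtS.pullPushAdjP i).unit.app F) := by
  refine Preadditive.epi_of_cancel_zero _ fun {T} (h : (ProEtS.pushP i).obj ((ProEtS.pullP i).obj F) ⟶ T) hh => ?_
  refine Sheaf.hom_ext (NatTrans.ext (funext fun V => ConcreteCategory.hom_ext _ _ fun x => ?_))
  show h.hom.app V x = 0
  refine eq_of_closed_open (ProEtS.pullPushAdjP i) hr T (h.hom.app V x) 0 ?_ fun W c hW => ?_
  · have h1 : h ≫ (ProEtS.pullPushAdjP i).unit.app T = 0 := by
      have hnat := (ProEtS.pullPushAdjP i).unit.naturality h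
      have : (ProEtS.pullP i).map h = 0 := by
        have hc1 : (ProEtS.pullP i).map ((ProEtS.pullPushAdjP i).unit.app F) ≫ (ProEtS.pullP i).map h = 0 := by
          rw [← Functor.map_comp, hh]
          have : (ProEtS.pullP i).Additive := (ProEtS.pullPushAdjP i).left_adjoint_additive
          exact Functor.map_zero _ _ _
        have := isIso_counit_closed i (ProEtS.pullPushAdjP i) ((ProEtS.pullP i).obj F)
        have : IsIso ((ProEtS.pullP i).map ((ProEtS.pullPushAdjP i).unit.app F)) := by
          have ht := (ProEtS.pullPushAdjP i).left_triangle_components F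
          have : IsIso ((ProEtS.pullP i).map ((ProEtS.pullPushAdjP i).unit.app F) ≫
              (ProEtS.pullPushAdjP i).counit.app ((ProEtS.pullP i).obj F)) := by rw [ht]; exact IsIso.id _
          exact IsIso.of_isIso_comp_right _ ((ProEtS.pullPushAdjP i).counit.app ((ProEtS.pullP i).obj F))
        rwa [← cancel_epi ((ProEtS.pullP i).map ((ProEtS.pullPushAdjP i).unit.app F)), comp_zero]
      refine hnat.trans ?_
      rw [Functor.comp_map, this, Functor.map_zero, comp_zero]
    rw [map_zero, ← ConcreteCategory.comp_apply]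
    exact congrArg (fun q : (ProEtS.pushP i).obj ((ProEtS.pullP i).obj F) ⟶ _ => q.hom.app V x) h1
  · rw [map_zero, ← NatTrans.naturality_apply, @Subsingleton.elim _ (subsingleton_push _ W hW)
      (((ProEtS.pushP i).obj ((ProEtS.pullP i).obj F)).obj.map c.op x) 0, map_zero]

theorem shortExact (F : ProEtS.AbP X) :
    (ShortComplex.mk _ _ (zero hr hc F)).ShortExact := by
  have := mono_counit hr hc F
  have := epi_unit hr hc F
  refine { exact := (ShortComplex.exact_iff_epi_kernel_lift _).2 ?_, mono_f := inferInstance, epi_g := inferInstance }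
  have : Sheaf.IsLocallySurjective (kernel.lift ((ProEtS.pullPushAdjP i).unit.app F)
      ((ProEtS.extZeroPAdj j).counit.app F) (zero hr hc F)) := ⟨fun {V} x => by
    let y := (kernel.ι ((ProEtS.pullPushAdjP i).unit.app F)).hom.app (op V) x
    have hy : ((ProEtS.pullPushAdjP i).unit.app F).hom.app (op V) y =
        ((ProEtS.pullPushAdjP i).unit.app F).hom.app (op V) 0 := by
      rw [map_zero, ← ConcreteCategory.comp_apply]
      exact congrArg (fun q : kernel ((ProEtS.pullPushAdjP i).unit.app F) ⟶ _ => q.hom.app (op V) x) (kernel.condition _)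
    have hinj : ∀ W, Function.Injective ((kernel.ι ((ProEtS.pullPushAdjP i).unit.app F)).hom.app W) := fun W =>
      (AddCommGrpCat.mono_iff_injective _).1 inferInstance
    have key : ∀ (W : X.ProEt) (c : W ⟶ V) e,
        ((ProEtS.extZeroPAdj j).counit.app F).hom.app (op W) e = F.obj.map c.op y →
        (kernel.lift _ _ (zero hr hc F)).hom.app (op W) e =
          (kernel ((ProEtS.pullPushAdjP i).unit.app F)).obj.map c.op x := fun W c e he => by
      refine hinj _ ?_
      rw [NatTrans.naturality_apply, ← ConcreteCategory.comp_apply]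
      exact (congrArg (fun q : (ProEtS.extZeroP j).obj ((ProEtS.restrP j).obj F) ⟶ F => q.hom.app (op W) e)
        (kernel.lift_ι _ _ (zero hr hc F))).trans he
    refine closedCover i hr V _ ((closedTop i).superset_covering ?_
      (equalizerSieve_mem_closedTop (ProEtS.pullPushAdjP i) F y 0 hy)) fun W c hW => ?_
    · intro W c hW
      exact ⟨0, key W c 0 ((map_zero _).trans ((map_zero (F.obj.map c.op).hom).symm.trans hW.symm))⟩
    · obtain ⟨e, he⟩ := (bijective_counit F (hW.trans hc.ge)).2 (F.obj.map c.op y)
      exact ⟨e, key W c e he⟩⟩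
  exact Sheaf.epi_of_isLocallySurjective _

end Groth.Agent.EtModLC71.RecollAb
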