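import Groth.Prelude.Def_EtModW
import Groth.Prelude.Def_ARSys
import Groth.Agent.EtModLC71.AR
import Groth.Agent.EtModLC71.ModLim
import Groth.Agent.ProEtLib.Cover
import Groth.Agent.SiteBase.RightExact
import Mathlib.CategoryTheory.Sites.EpiMono

/-!
# Sections of pro-etale sheaves of modules over weakly contractible objects
-/

universe u

open CategoryTheory CategoryTheory.Limits AlgebraicGeometry Opposite ARSys

namespace Groth.Agent.EtModLC71

set_option backward.isDefEq.respectTransparency.types false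

variable {Λ : Type (u + 1)} [CommRing Λ] {X : Scheme.{u}}

variable (Λ) in
/-- sections over `U` -/
noncomputable abbrev secP (U : X.ProEt) : EtModW.ModP Λ X ⥤ ModuleCat.{u + 1} Λ :=
  sheafToPresheaf (Scheme.ProEt.topology X) (ModuleCat.{u + 1} Λ) ⋙
    (evaluation _ (ModuleCat.{u + 1} Λ)).obj (op U)

instance secP_additive (U : X.ProEt) : (secP Λ U).Additive where
  map_add := rfl

instance secP_linear (U : X.ProEt) : Functor.Linear Λ (secP Λ U) where
  map_smul _ _ := rfl

theorem surjective_of_epi {U : X.ProEt} (hU : ProEtS.IsWC U) {E E' : EtModW.ModP Λ X} (φ : E ⟶ E') [Epi φ] :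
    Function.Surjective ((secP Λ U).map φ) := by
  have h := (Sheaf.isLocallySurjective_iff_epi' _ φ).2 inferInstance
  let ψ := (sheafCompose (Scheme.ProEt.topology X) (forget (ModuleCat.{u + 1} Λ))).map φ
  have : Sheaf.IsLocallySurjective ψ :=
    (Presheaf.isLocallySurjective_iff_whisker_forget (Scheme.ProEt.topology X) φ.hom).1 h
  exact hU _ _ ψ (Sheaf.epi_of_isLocallySurjective _)

theorem preservesEpimorphisms_secP {U : X.ProEt} (hU : ProEtS.IsWC U) : (secP Λ U).PreservesEpimorphisms :=
  ⟨fun φ _ => (ModuleCat.epi_iff_surjective _).2 (surjective_of_epi hU φ)⟩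

theorem preservesFiniteColimits_secP {U : X.ProEt} (hU : ProEtS.IsWC U) : PreservesFiniteColimits (secP Λ U) :=
  have := preservesEpimorphisms_secP (Λ := Λ) hU
  SiteBase.preservesFiniteColimits_of_preservesEpis _

/-- there are enough weakly contractible objects -/
theorem exists_cover_isWC (U : X.ProEt) : ∃ (ι : Type u) (V : ι → X.ProEt) (g : ∀ i, V i ⟶ U),
    Sieve.generate (Presieve.ofArrows V g) ∈ Scheme.ProEt.topology X U ∧ ∀ i, ProEtS.IsWC (V i) := by
  obtain ⟨ι, V, g, hg, h⟩ := ProEtLib.exists_wc_cover_family U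
  exact ⟨ι, V, g, hg, fun i => have := (h i).1; ProEtLib.isWC_of_criterion (ProEtLib.criterion_of_wContractible (h i).2)⟩

/-- epimorphisms are detected on weakly contractible objects -/
theorem epi_of_surjective {E E' : EtModW.ModP Λ X} (φ : E ⟶ E')
    (h : ∀ U : X.ProEt, ProEtS.IsWC U → Function.Surjective ((secP Λ U).map φ)) : Epi φ := by
  refine (Sheaf.isLocallySurjective_iff_epi' _ φ).1 ⟨fun {U} s => ?_⟩
  obtain ⟨ι, V, g, hg, hV⟩ := exists_cover_isWC U
  refine GrothendieckTopology.superset_covering _ ?_ hg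
  rintro Y f ⟨Z, a, _, ⟨i⟩, rfl⟩
  obtain ⟨t, ht⟩ := h (V i) (hV i) (E'.obj.map (g i).op s)
  refine ⟨E.obj.map a.op t, ?_⟩
  rw [NatTrans.naturality_apply φ.hom a.op t, op_comp, Functor.map_comp_apply]
  exact congrArg (E'.obj.map a.op) ht

/-- zero morphisms are detected on weakly contractible objects -/
theorem eq_zero_of_secP {E E' : EtModW.ModP Λ X} (φ : E ⟶ E')
    (h : ∀ U : X.ProEt, ProEtS.IsWC U → ∀ x, (secP Λ U).map φ x = 0) : φ = 0 := by
  refine Sheaf.hom_ext (NatTrans.ext (funext fun ⟨U⟩ => ModuleCat.hom_ext (LinearMap.ext fun x => ?_)))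
  obtain ⟨ι, V, g, hg, hV⟩ := exists_cover_isWC U
  have hsep : Presieve.IsSeparated (Scheme.ProEt.topology X) (E'.obj ⋙ forget (ModuleCat.{u + 1} Λ)) :=
    (((isSheaf_iff_isSheaf_of_type _ _).1 (GrothendieckTopology.HasSheafCompose.isSheaf _ E'.2))).isSeparated
  refine (hsep _ hg).ext ?_
  rintro Y f ⟨Z, a, _, ⟨i⟩, rfl⟩
  show E'.obj.map (a ≫ g i).op (φ.hom.app (op U) x) = E'.obj.map (a ≫ g i).op (0 : E'.obj.obj (op U))
  rw [map_zero, op_comp, Functor.map_comp_apply, ← NatTrans.naturality_apply φ.hom (g i).op x]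
  exact (congrArg _ (h (V i) (hV i) _)).trans (map_zero _)

variable {I : Ideal Λ}

/-- the limit of an adic tower of pro-etale sheaves: quotient modulo `I^{n+1}` -/
theorem isQuot_limit (hI : I.FG) {M : PS (EtModW.ModP Λ X)} (hM : IsAdic I M) (n : ℕ) :
    IsQuot (I ^ (n + 1)) (limit.π M (op n)) := by
  have key : ∀ U : X.ProEt, ProEtS.IsWC U → Function.Surjective ((secP Λ U).map (limit.π M (op n))) ∧
      ∀ x, (secP Λ U).map (limit.π M (op n)) x = 0 ↔
        x ∈ I ^ (n + 1) • (⊤ : Submodule Λ ((secP Λ U).obj (limit M))) := by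
    intro U hU
    have := preservesFiniteColimits_secP (Λ := Λ) hU
    have hM' : IsAdic I (M ⋙ secP Λ U) := isAdic_map (secP Λ U) hI hM
    have hc : IsLimit ((secP Λ U).mapCone (limit.cone M)) := isLimitOfPreserves _ (limit.isLimit M)
    exact ⟨π_surjective hc (fun k => tr_surjective hM' (Nat.le_succ k)) n, π_eq_zero_iff hI hM' hc n⟩
  have : Epi (limit.π M (op n)) := epi_of_surjective _ fun U hU => (key U hU).1
  refine ⟨hM.1 n, fun T φ hφ => ?_⟩
  have hz : kernel.ι (limit.π M (op n)) ≫ φ = 0 := eq_zero_of_secP _ fun U hU y => by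
    have h1 : (secP Λ U).map (limit.π M (op n)) ((secP Λ U).map (kernel.ι (limit.π M (op n))) y) = 0 := by
      rw [← ConcreteCategory.comp_apply, ← Functor.map_comp, kernel.condition]
      rfl
    rw [Functor.map_comp, ConcreteCategory.comp_apply]
    refine Submodule.smul_induction_on (((key U hU).2 _).1 h1) (fun a ha z _ => ?_)
      (fun p q hp hq => by rw [map_add, hp, hq, add_zero])
    rw [map_smul]
    show ((secP Λ U).map (a • φ)).hom z = 0
    rw [hφ a ha]
    rfl
  refine ⟨Abelian.epiDesc _ φ hz, Abelian.comp_epiDesc _ _ _, fun ψ hψ => ?_⟩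
  rw [← cancel_epi (limit.π M (op n)), hψ, Abelian.comp_epiDesc]

/-- limits of short exact towers whose first member is Mittag-Leffler up to translation -/
theorem epi_limMap {A B C : PS (EtModW.ModP Λ X)} (f : A ⟶ B) (g : B ⟶ C)
    (hfg : ∀ n : ℕ, f.app (op n) ≫ g.app (op n) = 0) (hg : ∀ n : ℕ, Epi (g.app (op n)))
    (hex : ∀ n : ℕ, (ShortComplex.mk (f.app (op n)) (g.app (op n)) (hfg n)).Exact)
    {Y : PS (EtModW.ModP Λ X)} (v : Y ⟶ A) (hY : IsStrict Y) (hv : IsARIso v) : Epi (limMap g) := by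
  refine epi_of_surjective _ fun U hU z => ?_
  have := preservesFiniteColimits_secP (Λ := Λ) hU
  let hB : IsLimit ((secP Λ U).mapCone (limit.cone B)) := isLimitOfPreserves _ (limit.isLimit B)
  let hC : IsLimit ((secP Λ U).mapCone (limit.cone C)) := isLimitOfPreserves _ (limit.isLimit C)
  have hex' : ∀ (n : ℕ) b, (Functor.whiskerRight g (secP Λ U)).app (op n) b = 0 →
      ∃ a, (Functor.whiskerRight f (secP Λ U)).app (op n) a = b := fun n b hb =>
    (ShortComplex.moduleCat_exact_iff _).1
      ((hex n).map_of_epi_of_preservesCokernel (secP Λ U) (hg n) inferInstance) b hb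
  obtain ⟨t, ht, htg⟩ := exists_lift_limit (Functor.whiskerRight f (secP Λ U)) (Functor.whiskerRight g (secP Λ U))
    (fun n => have := hg n; surjective_of_epi hU (g.app (op n))) hex'
    (fun n a => (ConcreteCategory.comp_apply _ _ a).symm.trans (by
      change ((secP Λ U).map (f.app (op n)) ≫ (secP Λ U).map (g.app (op n))) a = 0
      rw [← Functor.map_comp, hfg]
      rfl))
    (Functor.whiskerRight v (secP Λ U))
    (fun n m h => have := hY n m h; inferInstanceAs (Epi ((secP Λ U).map (tr Y h))))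
    (isARIso_map _ hv) (fun m => (secP Λ U).map (limit.π C (op m)) z)
    (fun m => cone_tr ((secP Λ U).mapCone (limit.cone C)) (Nat.le_succ m) z)
  obtain ⟨y, hy⟩ := exists_of_compatible hB t ht
  refine ⟨y, limit_ext hC fun m => ?_⟩
  show (secP Λ U).map (limit.π C (op m)) ((secP Λ U).map (limMap g) y) = (secP Λ U).map (limit.π C (op m)) z
  rw [← ConcreteCategory.comp_apply, ← Functor.map_comp, limMap_π, Functor.map_comp, ConcreteCategory.comp_apply]
  exact (congrArg ((secP Λ U).map (g.app (op m))) (hy m)).trans (htg m)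

end Groth.Agent.EtModLC71
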