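import Groth.Agent.EtModLC71.AdicPKer
import Mathlib.Algebra.Homology.ShortComplex.SnakeLemma
import Mathlib.Algebra.Homology.ShortComplex.Limits

/-!
# Extensions of adic pro-etale sheaves for a principal ideal
-/

universe w v u

open CategoryTheory CategoryTheory.Limits AlgebraicGeometry Opposite ARSys Groth.Agent.ARLib

namespace Groth.Agent.EtModLC71

set_option backward.isDefEq.respectTransparency.types false

section general

variable {C : Type w} [Category.{v} C] [Abelian C] {A : Type u} [CommRing A] [Linear A C]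

/-- multiplication by `x` kills the cokernel -/
theorem isQuot_cokernel_smul (x : A) (G : C) :
    IsQuot (Ideal.span {x}) (cokernel.π (x • 𝟙 G)) := by
  have h0 : x • cokernel.π (x • 𝟙 G) = 0 := by
    rw [← cokernel.condition (x • 𝟙 G), Linear.smul_comp, Category.id_comp]
  refine ⟨fun b hb => ?_, fun T φ hφ => ?_⟩
  · obtain ⟨c, rfl⟩ := Ideal.mem_span_singleton'.1 hb
    rw [← cancel_epi (cokernel.π (x • 𝟙 G)), Linear.comp_smul, Category.comp_id, comp_zero, mul_smul, h0, smul_zero]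
  · have hx : (x • 𝟙 G) ≫ φ = 0 := by
      rw [Linear.smul_comp, Category.id_comp]
      exact hφ x (Ideal.mem_span_singleton_self x)
    exact ⟨cokernel.desc _ φ hx, cokernel.π_desc _ _ _,
      fun m hm => by rw [← cancel_epi (cokernel.π (x • 𝟙 G)), hm, cokernel.π_desc]⟩

theorem nonempty_iso_of_isQuot {J : Ideal A} {E Q Q' : C} {p : E ⟶ Q} {p' : E ⟶ Q'} (h : IsQuot J p) (h' : IsQuot J p') :
    Nonempty (Q ≅ Q') := by
  obtain ⟨ψ, hψ, -⟩ := h.2 _ p' (ARLib.IsQuot.homKilledBy h')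
  obtain ⟨ψ', hψ', -⟩ := h'.2 _ p (ARLib.IsQuot.homKilledBy h)
  have := ARLib.IsQuot.epi h
  have := ARLib.IsQuot.epi h'
  exact ⟨⟨ψ, ψ', by rw [← cancel_epi p, ← Category.assoc, hψ, hψ', Category.comp_id],
    by rw [← cancel_epi p', ← Category.assoc, hψ', hψ, Category.comp_id]⟩⟩

/-- the kernel of `x` is its own quotient modulo `x` -/
theorem isQuot_id_kernel_smul (x : A) (G : C) :
    IsQuot (Ideal.span {x}) (𝟙 (kernel (x • 𝟙 G))) := by
  refine ⟨fun b hb => ?_, fun T φ _ => ⟨φ, Category.id_comp φ, fun m hm => (Category.id_comp m).symm.trans hm⟩⟩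
  obtain ⟨c, rfl⟩ := Ideal.mem_span_singleton'.1 hb
  have h0 := kernel.condition (x • 𝟙 G)
  rw [Linear.comp_smul, Category.comp_id] at h0
  rw [← cancel_mono (kernel.ι (x • 𝟙 G)), zero_comp, Linear.smul_comp, Category.id_comp, mul_smul, h0, smul_zero]

/-- the middle term of a five term exact sequence -/
theorem prop_of_five (P : ObjectProperty C) [WSerre.IsWeakSerre P] {K X₁ X₂ X₃ : C} (δ : K ⟶ X₁) (f : X₁ ⟶ X₂)
    (g : X₂ ⟶ X₃) (w : δ ≫ f = 0) (w' : f ≫ g = 0) (h : (ShortComplex.mk δ f w).Exact)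
    (h' : (ShortComplex.mk f g w').Exact) (hg : Epi g) (hK : P K) (h₁ : P X₁) (h₃ : P X₃) : P X₂ := by
  have hc : P (cokernel δ) := P.prop_cokernel δ hK h₁
  have : Mono (cokernel.desc δ f w) := (ShortComplex.exact_iff_mono_cokernel_desc _).1 h
  have w'' : cokernel.desc δ f w ≫ g = 0 := by
    rw [← cancel_epi (cokernel.π δ), cokernel.π_desc_assoc, w', comp_zero]
  let φ : ShortComplex.mk f g w' ⟶ ShortComplex.mk (cokernel.desc δ f w) g w'' :=
    { τ₁ := cokernel.π δ
      τ₂ := 𝟙 _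
      τ₃ := 𝟙 _ }
  have : Epi φ.τ₁ := inferInstanceAs (Epi (cokernel.π δ))
  have : IsIso φ.τ₂ := inferInstanceAs (IsIso (𝟙 X₂))
  have : Mono φ.τ₃ := inferInstanceAs (Mono (𝟙 X₃))
  have hex := (ShortComplex.exact_iff_of_epi_of_isIso_of_mono φ).1 h'
  exact P.prop_X₂_of_shortExact (ShortComplex.ShortExact.mk' hex inferInstance inferInstance) hc h₃

/-- multiplication by `x` on a short complex -/
def smulSC (S : ShortComplex C) (x : A) : S ⟶ S where
  τ₁ := x • 𝟙 S.X₁
  τ₂ := x • 𝟙 S.X₂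
  τ₃ := x • 𝟙 S.X₃

/-- the cokernel of `x` on the middle term of a short exact sequence -/
theorem prop_cokernel_smul (P : ObjectProperty C) [WSerre.IsWeakSerre P] {S : ShortComplex C} (hS : S.ShortExact)
    (x : A) (hK : P (kernel (x • 𝟙 S.X₃))) (h₁ : P (cokernel (x • 𝟙 S.X₁))) (h₃ : P (cokernel (x • 𝟙 S.X₃))) :
    P (cokernel (x • 𝟙 S.X₂)) := by
  have := hS.mono_f
  have := hS.epi_g
  let D : ShortComplex.SnakeInput C :=
    { L₀ := kernel (smulSC S x)
      L₁ := S
      L₂ := S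
      L₃ := cokernel (smulSC S x)
      v₀₁ := kernel.ι _
      v₁₂ := smulSC S x
      v₂₃ := cokernel.π _
      w₀₂ := kernel.condition _
      w₁₃ := cokernel.condition _
      h₀ := kernelIsKernel _
      h₃ := cokernelIsCokernel _
      L₁_exact := hS.exact
      epi_L₁_g := hS.epi_g
      L₂_exact := hS.exact
      mono_L₂_f := hS.mono_f }
  refine P.prop_of_iso (PreservesCokernel.iso ShortComplex.π₂ (smulSC S x)) ?_
  exact prop_of_five P D.δ D.L₃.f D.L₃.g D.δ_L₃_f D.L₃.zero D.L₂'_exact D.L₃_exact (@ShortComplex.SnakeInput.epi_L₃_g C _ _ D hS.epi_g)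
    (P.prop_of_iso (PreservesKernel.iso ShortComplex.π₃ (smulSC S x)).symm hK)
    (P.prop_of_iso (PreservesCokernel.iso ShortComplex.π₁ (smulSC S x)).symm h₁)
    (P.prop_of_iso (PreservesCokernel.iso ShortComplex.π₃ (smulSC S x)).symm h₃)

end general

section modules

variable {Λ : Type u} [CommRing Λ]

/-- complete and separated for powers of `a` -/
def CompBy (a : Λ) (M : Type*) [AddCommGroup M] [Module Λ M] : Prop :=
  (∀ x : M, (∀ n : ℕ, ∃ y, a ^ (n + 1) • y = x) → x = 0) ∧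
    ∀ s : ℕ → M, (∀ n, ∃ y, a ^ (n + 1) • y = s (n + 1) - s n) → ∃ x, ∀ n, ∃ y, a ^ (n + 1) • y = x - s n

/-- extensions of complete modules are complete when the quotient has bounded torsion -/
theorem compBy_of_exact {a : Λ} {M₁ M₂ M₃ : Type*} [AddCommGroup M₁] [Module Λ M₁] [AddCommGroup M₂] [Module Λ M₂]
    [AddCommGroup M₃] [Module Λ M₃] (f : M₁ →ₗ[Λ] M₂) (g : M₂ →ₗ[Λ] M₃) (hf : Function.Injective f)
    (hg : Function.Surjective g) (hfg : Function.Exact f g) (h₁ : CompBy a M₁) (h₃ : CompBy a M₃) (r : ℕ)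
    (hr : ∀ (k : ℕ) (z : M₃), a ^ k • z = 0 → a ^ r • z = 0) : CompBy a M₂ := by
  have hlift : ∀ (k : ℕ) (y : M₂), g (a ^ k • y) = 0 → ∃ β, f β = a ^ r • y := fun k y hy =>
    (hfg _).1 (by rw [map_smul]; exact hr k _ (by rw [← map_smul, hy]))
  constructor
  · intro x hx
    obtain ⟨α, rfl⟩ := (hfg x).1 (h₃.1 _ fun n => by
      obtain ⟨y, hy⟩ := hx n
      exact ⟨g y, by rw [← map_smul, hy]⟩)
    rw [h₁.1 α fun n => ?_, map_zero]
    obtain ⟨y, hy⟩ := hx (n + r)
    obtain ⟨β, hβ⟩ := hlift _ y (by rw [hy]; exact hfg.apply_apply_eq_zero α)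
    refine ⟨β, hf ?_⟩
    rw [map_smul, hβ, smul_smul, ← pow_add, ← hy]
    congr 2
    omega
  · intro s hs
    choose b hb using hs
    obtain ⟨c, hc⟩ := h₃.2 (fun n => g (s n)) fun n => ⟨g (b n), by rw [← map_smul, hb, map_sub]⟩
    obtain ⟨x₀, rfl⟩ := hg c
    choose d' hd' using hc
    choose d hd using fun n => hg (d' n)
    have hker : ∀ n, ∃ α, f α = x₀ - s n - a ^ (n + 1) • d n := fun n =>
      (hfg _).1 (by rw [map_sub, map_sub, map_smul, hd, hd', sub_self])
    choose α hα using hker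
    have hstep : ∀ m, ∃ β, a ^ (m + 1) • β = α (m + 1 + r) - α (m + r) := fun m => by
      have e : a ^ (m + r + 1) • (d (m + r) - b (m + r) - a • d (m + r + 1)) = f (α (m + r + 1) - α (m + r)) := by
        rw [map_sub, hα, hα, smul_sub, smul_sub, hb, smul_smul, ← pow_succ]
        abel
      obtain ⟨β, hβ⟩ := hlift _ _ (by rw [e]; exact hfg.apply_apply_eq_zero _)
      refine ⟨β, hf ?_⟩
      rw [map_smul, hβ, smul_smul, ← pow_add, show m + 1 + r = m + r + 1 by omega, e]
    obtain ⟨αl, hαl⟩ := h₁.2 (fun m => α (m + r)) hstep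
    have hsum : ∀ m k : ℕ, ∃ y, a ^ (m + 1) • y = s (m + k) - s m := fun m k => by
      induction k with
      | zero => exact ⟨0, by simp⟩
      | succ k ih =>
        obtain ⟨y, hy⟩ := ih
        refine ⟨y + a ^ k • b (m + k), ?_⟩
        rw [smul_add, hy, smul_smul, ← pow_add, show m + 1 + k = m + k + 1 by omega, hb, ← add_assoc m k 1]
        abel
    refine ⟨x₀ - f αl, fun m => ?_⟩
    obtain ⟨e, he⟩ := hαl m
    obtain ⟨t, ht⟩ := hsum m r
    refine ⟨a ^ r • d (m + r) - f e + t, ?_⟩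
    have he' := congrArg f he
    rw [map_smul, map_sub, hα] at he'
    rw [smul_add, smul_sub, ht, he', smul_smul, ← pow_add, show m + 1 + r = m + r + 1 by omega]
    abel

end modules

variable {Λ : Type (u + 1)} [CommRing Λ] {X : Scheme.{u}}

/-- quotient maps modulo a principal ideal on weakly contractible objects -/
theorem secP_isQuot {U : X.ProEt} (hU : ProEtS.IsWC U) {x : Λ} {E Q : EtModW.ModP Λ X} {p : E ⟶ Q}
    (h : IsQuot (Ideal.span {x}) p) : Function.Surjective ((secP Λ U).map p) ∧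
      ∀ z, (secP Λ U).map p z = 0 ↔ ∃ y, x • y = z := by
  have := preservesFiniteColimits_secP (Λ := Λ) hU
  have h' := isQuot_map (secP Λ U) (Submodule.fg_span_singleton x) h
  have := ARLib.IsQuot.epi h
  refine ⟨surjective_of_epi hU p, fun z => ⟨fun hz => ?_, ?_⟩⟩
  · let S : Submodule Λ ((secP Λ U).obj E) := LinearMap.range (LinearMap.lsmul Λ _ x)
    have hS : ∀ b ∈ Ideal.span {x}, ∀ t, b • t ∈ S := fun b hb t => by
      obtain ⟨c, rfl⟩ := Ideal.mem_span_singleton'.1 hb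
      exact ⟨c • t, by rw [LinearMap.lsmul_apply, smul_smul, mul_comm]⟩
    obtain ⟨ψ, hψ, -⟩ := h'.2 (ModuleCat.of Λ (_ ⧸ S)) (ModuleCat.ofHom S.mkQ) fun b hb =>
      ModuleCat.hom_ext (LinearMap.ext fun t => ((map_smul S.mkQ b t).symm.trans
        ((Submodule.Quotient.mk_eq_zero S).2 (hS b hb t))))
    exact (Submodule.Quotient.mk_eq_zero S).1 ((congrArg (fun k => k.hom z) hψ).symm.trans
      ((congrArg ψ.hom hz).trans (map_zero _)))
  · rintro ⟨y, rfl⟩
    rw [map_smul]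
    exact congrArg (fun k => k.hom ((secP Λ U).map p y)) (h'.1 x (Ideal.mem_span_singleton_self x))

variable {a : Λ} {F : EtModW.ModP Λ X} {Q : PS (EtModW.ModP Λ X)} {p : (Functor.const ℕᵒᵖ).obj F ⟶ Q}

theorem tower_w (n : ℕ) : p.app (op (n + 1)) ≫ tr Q (Nat.le_succ n) = p.app (op n) :=
  (p.naturality (homOfLE (Nat.le_succ n)).op).symm.trans (Category.id_comp _)

theorem secP_lift_π (U : X.ProEt) (n : ℕ) (z : (secP Λ U).obj F) :
    (secP Λ U).map (limit.π Q (op n)) ((secP Λ U).map (limit.lift Q (Cone.mk F p)) z) =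
      (secP Λ U).map (p.app (op n)) z := by
  rw [← ConcreteCategory.comp_apply, ← Functor.map_comp, limit.lift_π]

theorem compBy_secP (hQ : ∀ n : ℕ, IsQuot ((Ideal.span {a}) ^ (n + 1)) (p.app (op n)))
    (hl : IsIso (limit.lift Q (Cone.mk F p))) {U : X.ProEt} (hU : ProEtS.IsWC U) :
    CompBy a ((secP Λ U).obj F) := by
  simp only [Ideal.span_singleton_pow] at hQ
  have hk := fun n => (secP_isQuot hU (hQ n))
  let hc : IsLimit ((secP Λ U).mapCone (limit.cone Q)) := isLimitOfPreserves _ (limit.isLimit Q)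
  have hb : Function.Bijective ((secP Λ U).map (limit.lift Q (Cone.mk F p))) :=
    ConcreteCategory.bijective_of_isIso _
  refine ⟨fun x hx => hb.1 ((limit_ext hc fun n => ?_).trans (map_zero _).symm), fun s hs => ?_⟩
  · show (secP Λ U).map (limit.π Q (op n)) _ = (secP Λ U).map (limit.π Q (op n)) 0
    rw [map_zero, secP_lift_π, ((hk n).2 x).2 (hx n)]
  · obtain ⟨y, hy⟩ := exists_of_compatible hc (fun m => (secP Λ U).map (p.app (op m)) (s m)) fun m => by
      show (secP Λ U).map (tr Q (Nat.le_succ m)) _ = _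
      rw [← ConcreteCategory.comp_apply, ← Functor.map_comp, tower_w, ← sub_eq_zero, ← map_sub]
      exact ((hk m).2 _).2 (hs m)
    obtain ⟨x, rfl⟩ := hb.2 y
    refine ⟨x, fun n => ((hk n).2 _).1 ?_⟩
    rw [map_sub, sub_eq_zero]
    exact (secP_lift_π U n x).symm.trans (hy n)

theorem isIso_of_compBy (hQ : ∀ n : ℕ, IsQuot ((Ideal.span {a}) ^ (n + 1)) (p.app (op n)))
    (h : ∀ U : X.ProEt, ProEtS.IsWC U → CompBy a ((secP Λ U).obj F)) :
    IsIso (limit.lift Q (Cone.mk F p)) := by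
  simp only [Ideal.span_singleton_pow] at hQ
  have key : ∀ U : X.ProEt, ProEtS.IsWC U →
      Function.Bijective ((secP Λ U).map (limit.lift Q (Cone.mk F p))) := fun U hU => by
    have hk := fun n => (secP_isQuot hU (hQ n))
    let hc : IsLimit ((secP Λ U).mapCone (limit.cone Q)) := isLimitOfPreserves _ (limit.isLimit Q)
    refine ⟨(injective_iff_map_eq_zero ((secP Λ U).map (limit.lift Q (Cone.mk F p))).hom).2 fun z hz =>
      (h U hU).1 z fun n => ((hk n).2 z).1 ?_, fun y => ?_⟩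
    · rw [← secP_lift_π]
      exact (congrArg ((secP Λ U).map (limit.π Q (op n))) hz).trans (map_zero _)
    · choose s hs using fun n => (hk n).1 ((secP Λ U).map (limit.π Q (op n)) y)
      obtain ⟨x, hx⟩ := (h U hU).2 s fun n => ((hk n).2 _).1 (by
        rw [map_sub, sub_eq_zero, hs, ← tower_w (p := p) n, Functor.map_comp, ConcreteCategory.comp_apply, hs]
        exact cone_tr ((secP Λ U).mapCone (limit.cone Q)) (Nat.le_succ n) y)
      refine ⟨x, limit_ext hc fun n => ?_⟩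
      refine (secP_lift_π U n x).trans (Eq.trans ?_ (hs n))
      rw [← sub_eq_zero, ← map_sub]
      exact ((hk n).2 _).2 (hx n)
  have : Epi (limit.lift Q (Cone.mk F p)) := epi_of_surjective _ fun U hU => (key U hU).2
  have : Mono (limit.lift Q (Cone.mk F p)) := Preadditive.mono_of_kernel_zero (eq_zero_of_secP _ fun U hU t => by
    refine (key U hU).1 ?_
    rw [map_zero, ← ConcreteCategory.comp_apply, ← Functor.map_comp, kernel.condition]
    rfl)
  exact isIso_of_mono_of_epi _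

variable [IsNoetherianRing Λ] [IsNoetherian X] [ProEtS.EpsCont X]

/-- torsion of adic sheaves is bounded -/
theorem exists_torsion_bound {H : EtModW.ModP Λ X} (a : Λ) (hH : IsAdicPF (Ideal.span {a}) H) :
    ∃ r : ℕ, ∀ k : ℕ, kernel.ι (a ^ k • 𝟙 H) ≫ (a ^ r • 𝟙 H) = 0 := by
  let Z : ℕ →o Subobject H := ⟨fun k => kernelSubobject (a ^ k • 𝟙 H), monotone_nat_of_le_succ fun k =>
    le_kernelSubobject _ _ (by
      show (kernelSubobject (a ^ k • 𝟙 H)).arrow ≫ (a ^ (k + 1) • 𝟙 H) = 0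
      rw [pow_succ', mul_smul, Linear.comp_smul, kernelSubobject_arrow_comp, smul_zero])⟩
  obtain ⟨k₀, hk₀⟩ := chain_stabilises_adicPF hH Z fun k =>
    isAdicPF_of_iso (IsNoetherian.noetherian _) (kernelSubobjectIso _).symm (isAdicPF_kernel_cokernel hH hH _).1
  refine ⟨k₀, fun k => ?_⟩
  have hle : Z k ≤ Z k₀ := (le_total k k₀).elim (fun h => Z.monotone h) (fun h => (hk₀ k h).le)
  rw [← kernelSubobject_arrow' (a ^ k • 𝟙 H), Category.assoc]
  show _ ≫ (Z k).arrow ≫ _ = 0
  rw [← Subobject.ofLE_arrow hle, Category.assoc]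
  show _ ≫ _ ≫ (kernelSubobject (a ^ k₀ • 𝟙 H)).arrow ≫ _ = 0
  rw [kernelSubobject_arrow_comp, comp_zero, comp_zero]

/-- adic sheaves for a principal ideal are stable under extensions -/
theorem isAdicPF_of_shortExact (a : Λ) {S : ShortComplex (EtModW.ModP Λ X)} (hS : S.ShortExact)
    (h₁ : IsAdicPF (Ideal.span {a}) S.X₁) (h₃ : IsAdicPF (Ideal.span {a}) S.X₃) :
    IsAdicPF (Ideal.span {a}) S.X₂ := by
  let P : ObjectProperty (EtModW.ModP Λ X) := fun F =>
    ∃ G : EtModW.Mod Λ X, constrProp Λ X G ∧ Nonempty ((EtModW.epsPullMod Λ X).obj G ≅ F)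
  have : WSerre.IsWeakSerre P := isWeakSerre_epsImage (constrProp Λ X)
  have quot : ∀ {F : EtModW.ModP Λ X}, IsAdicPF (Ideal.span {a}) F → ∀ (n : ℕ) {R : EtModW.ModP Λ X} (q : F ⟶ R),
      IsQuot (Ideal.span {a ^ (n + 1)}) q → P R := by
    rintro F ⟨Q, p, hQ, hc, -⟩ n R q hq
    obtain ⟨e⟩ := nonempty_iso_of_isQuot (Ideal.span_singleton_pow a (n + 1) ▸ hQ n) hq
    obtain ⟨E, hE, ⟨i⟩⟩ := hc n
    exact ⟨E, hE, ⟨i ≪≫ e⟩⟩
  obtain ⟨r, hr⟩ := exists_torsion_bound a h₃
  obtain ⟨Q₁, p₁, hQ₁, -, hl₁⟩ := id h₁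
  obtain ⟨Q₃, p₃, hQ₃, -, hl₃⟩ := id h₃
  have hw : ∀ {n m : ℕ}, n ≤ m → (a ^ (m + 1) • 𝟙 S.X₂) ≫ cokernel.π (a ^ (n + 1) • 𝟙 S.X₂) = 0 := fun {n m} h => by
    obtain ⟨d, rfl⟩ := Nat.exists_eq_add_of_le h
    rw [show n + d + 1 = d + (n + 1) by omega, pow_add a d (n + 1), mul_smul, Linear.smul_comp, cokernel.condition, smul_zero]
  let Q : PS (EtModW.ModP Λ X) := systemMk (fun n => cokernel (a ^ (n + 1) • 𝟙 S.X₂))
    (fun n m h => cokernel.desc _ (cokernel.π _) (hw h))
    (fun n => by rw [← cancel_epi (cokernel.π _), cokernel.π_desc, Category.comp_id])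
    (fun i j k h h' => by rw [← cancel_epi (cokernel.π _), cokernel.π_desc_assoc, cokernel.π_desc, cokernel.π_desc])
  let p : (Functor.const ℕᵒᵖ).obj S.X₂ ⟶ Q :=
    { app := fun n => cokernel.π (a ^ (n.unop + 1) • 𝟙 S.X₂)
      naturality := fun i j g => (Category.id_comp _).trans (cokernel.π_desc _ _ _).symm }
  have hQ : ∀ n : ℕ, IsQuot ((Ideal.span {a}) ^ (n + 1)) (p.app (op n)) := fun n => by
    rw [Ideal.span_singleton_pow]
    exact isQuot_cokernel_smul _ _
  refine ⟨Q, p, hQ, fun n => ?_, isIso_of_compBy hQ fun U hU => ?_⟩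
  · refine prop_cokernel_smul P hS (a ^ (n + 1)) ?_ (quot h₁ n _ (isQuot_cokernel_smul _ _))
      (quot h₃ n _ (isQuot_cokernel_smul _ _))
    exact quot (isAdicPF_kernel_cokernel h₃ h₃ (a ^ (n + 1) • 𝟙 S.X₃)).1 n (𝟙 _) (isQuot_id_kernel_smul _ _)
  · have := preservesFiniteColimits_secP (Λ := Λ) hU
    have hSU := hS.map_of_exact (secP Λ U)
    refine compBy_of_exact ((secP Λ U).map S.f).hom ((secP Λ U).map S.g).hom hSU.moduleCat_injective_f
      hSU.moduleCat_surjective_g ?_ (compBy_secP hQ₁ hl₁ hU) (compBy_secP hQ₃ hl₃ hU) r fun k z hz => ?_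
    · exact (ShortComplex.ShortExact.moduleCat_exact_iff_function_exact _).1 hSU.exact
    · let T : ShortComplex (EtModW.ModP Λ X) := ShortComplex.mk _ _ (kernel.condition (a ^ k • 𝟙 S.X₃))
      have hT : T.Exact := ShortComplex.exact_of_f_is_kernel _ (kernelIsKernel _)
      have hT' := hT.map_of_mono_of_preservesKernel (secP Λ U) (inferInstance : Mono (kernel.ι _)) inferInstance
      have hz' : (secP Λ U).map (a ^ k • 𝟙 S.X₃) z = 0 := by
        rw [Functor.map_smul, CategoryTheory.Functor.map_id]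
        exact hz
      obtain ⟨t, rfl⟩ := (ShortComplex.moduleCat_exact_iff _).1 hT' z hz'
      have := congrArg (fun φ => (secP Λ U).map φ t) (hr k)
      simp only [Functor.map_comp, Functor.map_smul, CategoryTheory.Functor.map_id, Functor.map_zero] at this
      exact this

end Groth.Agent.EtModLC71
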