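import Groth.Agent.EtModLC71.Generic
import Groth.Agent.EtModLC71.Special
import Groth.Agent.EtFound.Cospec
import Groth.Agent.EtFound.PullConst

/-!
# Criteria for finite type local constancy: specialisation maps; surjective immersions
-/

universe u

open CategoryTheory CategoryTheory.Limits AlgebraicGeometry Opposite Topology TopologicalSpace

namespace Groth.Agent.EtModLC71

set_option backward.isDefEq.respectTransparency.types false

variable {Λ : Type (u + 1)} [CommRing Λ] {X : Scheme.{u}}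

/-- `φ` gives the stalk at the geometric point `z` of `U` -/
def GermBij {F : EtModW.Mod Λ X} {U : X.Etale} {M : ModuleCat.{u + 1} Λ} (φ : M ⟶ F.obj.obj (op U))
    {k : Type u} [Field k] [IsSepClosed k] {η : Spec (CommRingCat.of k) ⟶ X}
    (z : (Scheme.pointSmallEtale η).fiber.obj U) : Prop :=
  Function.Bijective (φ ≫ (Scheme.pointSmallEtale η).toPresheafFiber U z F.obj)

variable {F : EtModW.Mod Λ X} {U : X.Etale} {M : ModuleCat.{u + 1} Λ} (φ : M ⟶ F.obj.obj (op U))

theorem germBij_pointHom {k k' : Type u} [Field k] [IsSepClosed k] [Field k'] [IsSepClosed k']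
    {η : Spec (CommRingCat.of k) ⟶ X} {η' : Spec (CommRingCat.of k') ⟶ X}
    (a : Scheme.pointSmallEtale η' ⟶ Scheme.pointSmallEtale η)
    (h : Function.Bijective ((GrothendieckTopology.Point.Hom.sheafFiber (A := ModuleCat.{u + 1} Λ) a).app F))
    (z : (Scheme.pointSmallEtale η).fiber.obj U) : GermBij φ z ↔ GermBij φ (a.hom.app U z) := by
  refine (Function.Bijective.of_comp_iff' h _).symm.trans (iff_of_eq (congrArg Function.Bijective (funext fun m => ?_)))
  exact stalk_pointHom_germ a F z (φ m)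

theorem germBij_map {V : X.Etale} (r : V ⟶ U) {k : Type u} [Field k] [IsSepClosed k]
    {η : Spec (CommRingCat.of k) ⟶ X} (z : (Scheme.pointSmallEtale η).fiber.obj V) :
    GermBij (φ ≫ F.obj.map r.op) z ↔ GermBij φ ((Scheme.pointSmallEtale η).fiber.map r z) :=
  iff_of_eq (congrArg Function.Bijective (funext fun m => (Scheme.pointSmallEtale η).toPresheafFiber_w_apply r z F.obj (φ m)))

theorem germBij_of_ext {k Ω : Type u} [Field k] [IsSepClosed k] [Field Ω] [IsSepClosed Ω]
    {η : Spec (CommRingCat.of k) ⟶ X} {θ : Spec (CommRingCat.of Ω) ⟶ X}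
    (z : (Scheme.pointSmallEtale η).fiber.obj U) (w : (Scheme.pointSmallEtale θ).fiber.obj U)
    (l : Spec (CommRingCat.of Ω) ⟶ Spec (CommRingCat.of k))
    (h : l ≫ (z.left : Spec (CommRingCat.of k) ⟶ U.left) = (w.left : Spec (CommRingCat.of Ω) ⟶ U.left)) :
    GermBij φ z ↔ GermBij φ w := by
  obtain rfl : θ = l ≫ η := by
    refine (CategoryTheory.Over.w w).symm.trans ?_
    refine (congrArg (· ≫ U.hom) h.symm).trans ((Category.assoc _ _ _).trans ?_)
    exact congrArg (l ≫ ·) (CategoryTheory.Over.w z)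
  let e := EtFound.pointExtIso η l
  have : IsIso (GrothendieckTopology.Point.Hom.sheafFiber (A := ModuleCat.{u + 1} Λ) e.hom) :=
    (EtFound.stalkExtIso (ModuleCat.{u + 1} Λ) η l).isIso_hom
  rw [germBij_pointHom φ e.hom ((ConcreteCategory.isIso_iff_bijective
    ((GrothendieckTopology.Point.Hom.sheafFiber (A := ModuleCat.{u + 1} Λ) e.hom).app F)).1 inferInstance) z,
    show w = e.hom.hom.app U z from CategoryTheory.Over.OverMorphism.ext h.symm]

/-- only the image point matters -/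
theorem germBij_congr {k k' : Type u} [Field k] [IsSepClosed k] [Field k'] [IsSepClosed k']
    {η : Spec (CommRingCat.of k) ⟶ X} {η' : Spec (CommRingCat.of k') ⟶ X}
    (z : (Scheme.pointSmallEtale η).fiber.obj U) (z' : (Scheme.pointSmallEtale η').fiber.obj U)
    (h : EtFound.ptOf z = EtFound.ptOf z') : GermBij φ z ↔ GermBij φ z' := by
  obtain ⟨Ω, _, _, a, e, he⟩ := EtFound.exists_lift_extension
    (z'.left : Spec (CommRingCat.of k') ⟶ U.left) (z.left : Spec (CommRingCat.of k) ⟶ U.left) ⟨(default : Spec (CommRingCat.of k')), h.symm⟩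
  have hw : (a ≫ (z'.left : Spec (CommRingCat.of k') ⟶ U.left)) ≫ U.hom = a ≫ η' := by
    rw [Category.assoc]
    exact congrArg (a ≫ ·) (CategoryTheory.Over.w z')
  let w : (Scheme.pointSmallEtale (a ≫ η')).fiber.obj U := CategoryTheory.Over.homMk _ hw
  exact (germBij_of_ext φ z w e he).trans (germBij_of_ext φ z' w a rfl).symm

variable (F) in
/-- the stalk is given by a linear family of sections on a neighbourhood -/
theorem exists_model [IsNoetherianRing Λ] {Ω : Type u} [Field Ω] [IsSepClosed Ω]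
    (ξ : Spec (CommRingCat.of Ω) ⟶ X) [Module.Finite Λ ((EtModW.stalk Λ ξ).obj F)] :
    ∃ (V : X.Etale) (v : (Scheme.pointSmallEtale ξ).fiber.obj V)
      (χ : (EtModW.stalk Λ ξ).obj F ⟶ F.obj.obj (op V)), GermBij χ v := by
  classical
  let Φ := Scheme.pointSmallEtale ξ
  obtain ⟨r, s, hs⟩ := Module.Finite.exists_fin (R := Λ) (M := (EtModW.stalk Λ ξ).obj F)
  obtain ⟨V₀, v₀, e, he⟩ : ∃ (V : X.Etale) (v : Φ.fiber.obj V) (e : Fin r → F.obj.obj (op V)),
      ∀ i, Φ.toPresheafFiber V v F.obj (e i) = s i := by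
    clear hs
    induction r with
    | zero =>
      obtain ⟨V, v, -, -⟩ := Φ.toPresheafFiber_jointly_surjective (0 : (EtModW.stalk Λ ξ).obj F)
      exact ⟨V, v, Fin.elim0, fun i => i.elim0⟩
    | succ r ih =>
      obtain ⟨V, v, e, he⟩ := ih (s ∘ Fin.succ)
      obtain ⟨W, w, x, hx⟩ := Φ.toPresheafFiber_jointly_surjective (s 0)
      obtain ⟨⟨T, t⟩, ⟨a, ha⟩, ⟨b, hb⟩, -⟩ := IsCofilteredOrEmpty.cone_objs
        (Φ.fiber.elementsMk V v) (Φ.fiber.elementsMk W w)
      refine ⟨T, t, Fin.cons (F.obj.map b.op x) (fun i => F.obj.map a.op (e i)), Fin.cases ?_ fun i => ?_⟩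
      · rw [Fin.cons_zero, Φ.toPresheafFiber_w_apply]
        exact (congrArg (fun w' => Φ.toPresheafFiber W w' F.obj x) hb).trans hx
      · rw [Fin.cons_succ, Φ.toPresheafFiber_w_apply]
        exact (congrArg (fun v' => Φ.toPresheafFiber V v' F.obj (e i)) ha).trans (he i)
  let q : (Fin r → Λ) →ₗ[Λ] (EtModW.stalk Λ ξ).obj F := Fintype.linearCombination Λ s
  have hq : Function.Surjective q := LinearMap.range_eq_top.1 ((Fintype.range_linearCombination Λ s).trans hs)
  let ψ : (Fin r → Λ) →ₗ[Λ] F.obj.obj (op V₀) := Fintype.linearCombination Λ e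
  have hψ : ∀ c, Φ.toPresheafFiber V₀ v₀ F.obj (ψ c) = q c := fun c => by
    simp [ψ, q, Fintype.linearCombination_apply, he]
    rfl
  obtain ⟨l, c, hc⟩ := Module.Finite.exists_fin (R := Λ) (M := LinearMap.ker q)
  obtain ⟨V, g, v, hv, hg⟩ := EtFound.exists_forall_eq F.obj v₀ (fun i => ψ (c i).1) (fun _ => 0)
    (fun i => (hψ _).trans ((c i).2.trans (map_zero (Φ.toPresheafFiber V₀ v₀ F.obj).hom).symm))
  let ψ' : (Fin r → Λ) →ₗ[Λ] F.obj.obj (op V) := (F.obj.map g.op).hom.comp ψ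
  have hker : LinearMap.ker q ≤ LinearMap.ker ψ' := fun x hx => by
    have : (⟨x, hx⟩ : LinearMap.ker q) ∈ Submodule.comap (LinearMap.ker q).subtype (LinearMap.ker ψ') := by
      refine (Submodule.span_le.2 ?_) (hc.ge Submodule.mem_top)
      rintro _ ⟨i, rfl⟩
      exact (hg i).trans (map_zero _)
    exact this
  let χ : (EtModW.stalk Λ ξ).obj F →ₗ[Λ] F.obj.obj (op V) :=
    (Submodule.liftQ _ ψ' hker).comp (LinearMap.quotKerEquivOfSurjective q hq).symm.toLinearMap
  have hχ : ∀ x, χ (q x) = ψ' x := fun x => by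
    have : (LinearMap.quotKerEquivOfSurjective q hq).symm (q x) = Submodule.Quotient.mk x :=
      (LinearEquiv.symm_apply_eq _).2 rfl
    show Submodule.liftQ _ ψ' hker ((LinearMap.quotKerEquivOfSurjective q hq).symm (q x)) = ψ' x
    rw [this, Submodule.liftQ_apply]
  refine ⟨V, v, ModuleCat.ofHom χ, Eq.mp (congrArg Function.Bijective (funext fun m => ?_)) Function.bijective_id⟩
  obtain ⟨x, rfl⟩ := hq m
  refine ((congrArg (Φ.toPresheafFiber V v F.obj) (hχ x)).trans ?_).symm
  show Φ.toPresheafFiber V v F.obj (F.obj.map g.op (ψ x)) = q x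
  rw [Φ.toPresheafFiber_w_apply, hv, hψ]

/-- a sheaf with finite type stalks and bijective specialisation maps is finite type locally constant -/
theorem isFTLocConst_of_bijective [IsNoetherianRing Λ] [IsLocallyNoetherian X]
    (hfin : ∀ (k : Type u) [Field k] [IsSepClosed k] (ξ : Spec (CommRingCat.of k) ⟶ X),
      Module.Finite Λ ((EtModW.stalk Λ ξ).obj F))
    (hφ : ∀ (k k' : Type u) [Field k] [IsSepClosed k] [Field k'] [IsAlgClosed k']
      (ξ : Spec (CommRingCat.of k) ⟶ X) (ξ' : Spec (CommRingCat.of k') ⟶ X)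
      (a : Scheme.pointSmallEtale ξ' ⟶ Scheme.pointSmallEtale ξ),
      Function.Bijective ((GrothendieckTopology.Point.Hom.sheafFiber (A := ModuleCat.{u + 1} Λ) a).app F)) :
    EtModW.IsFTLocConst Λ F := by
  refine isFTLocConst_of_constBy fun x => ?_
  obtain ⟨Ω, _, _, ξ, hξ⟩ := exists_point x
  have := hfin Ω ξ
  obtain ⟨U, u, φ, hu⟩ := exists_model F ξ
  have : IsLocallyNoetherian U.left := by
    let g : U.left ⟶ X := U.hom
    have : AlgebraicGeometry.Etale g := U.prop
    exact LocallyOfFiniteType.isLocallyNoetherian g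
  obtain ⟨W, hpW, hW⟩ := EtFound.exists_open_components (C := (Set.univ : Set U.left)) isClosed_univ (EtFound.ptOf u)
  have : AlgebraicGeometry.Etale U.hom := U.prop
  let U' : X.Etale := Scheme.Etale.mk (W.ι ≫ U.hom)
  let r : U' ⟶ U := MorphismProperty.Over.homMk W.ι rfl
  have step : ∀ {k : Type u} [Field k] [IsSepClosed k] {η : Spec (CommRingCat.of k) ⟶ X}
      (z : (Scheme.pointSmallEtale η).fiber.obj U) {k' : Type u} [Field k'] [IsAlgClosed k']
      {η' : Spec (CommRingCat.of k') ⟶ X} (z' : (Scheme.pointSmallEtale η').fiber.obj U),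
      EtFound.ptOf z' ⤳ EtFound.ptOf z → (GermBij φ z ↔ GermBij φ z') := by
    intro k _ _ η z k' _ _ η' z' h
    obtain ⟨a, rfl⟩ := EtFound.exists_pointHom η η' z z' h
    exact germBij_pointHom φ a (hφ k k' η η' a) z
  refine ⟨U', (⟨EtFound.ptOf u, hpW⟩ : W.toScheme), _, inferInstance, φ ≫ F.obj.map r.op,
    ((Scheme.Hom.comp_apply _ _ _).trans (EtFound.hom_ptOf u)).trans hξ, fun k _ _ ζ z => (germBij_map φ r z).2 ?_⟩
  have hzW : EtFound.ptOf ((Scheme.pointSmallEtale ζ).fiber.map r z) ∈ W :=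
    (EtFound.ptOf_map r z).symm ▸ (EtFound.ptOf z).2
  obtain ⟨g, -, hgp, hgq⟩ := hW _ hzW (Set.mem_univ _)
  obtain ⟨L, _, _, θ, w, hw⟩ := EtFound.exists_algClosed_point U g
  exact (step _ w ((specializes_of_eq hw).trans hgq)).2 ((step u w ((specializes_of_eq hw).trans hgp)).1 hu)

/-- near the open range of an immersion a sheaf is constant if its inverse image is so -/
theorem exists_constBy_of_immersion [IsNoetherianRing Λ] {T : Scheme.{u}} (g : T ⟶ X) [IsImmersion g]
    (ho : IsOpen (Set.range g.base)) (hT : EtModW.IsFTLocConst Λ ((EtModW.pull Λ g).obj F)) (t : T) :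
    ∃ (U : X.Etale) (p : U.left) (M : ModuleCat.{u + 1} Λ) (_ : Module.Finite Λ M) (φ : M ⟶ F.obj.obj (op U)),
      U.hom.base p = g.base t ∧ EtFound.ConstBy F φ := by
  obtain ⟨Ω, _, _, θ, hθ⟩ := exists_point t
  obtain ⟨W, w, N, hN, ψ, hψ⟩ := exists_constBy_at hT θ
  have : Module.Finite Λ ((EtModW.stalk Λ (θ ≫ g)).obj F) :=
    Module.Finite.equiv ((LinearEquiv.ofBijective (ψ ≫ (Scheme.pointSmallEtale θ).toPresheafFiber W w _).hom
      (hψ Ω θ w)).trans ((stalkPullMod g θ).app F).toLinearEquiv)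
  obtain ⟨U, u, φ, hu⟩ := exists_model F (θ ≫ g)
  let η := ((EtCoh.bc g).sheafAdjunctionContinuous (ModuleCat.{u + 1} Λ) X.smallEtaleTopology T.smallEtaleTopology).unit.app F
  let φT : (EtModW.stalk Λ (θ ≫ g)).obj F ⟶ ((EtModW.pull Λ g).obj F).obj.obj (op ((EtCoh.bc g).obj U)) :=
    φ ≫ η.hom.app (op U)
  have trf : ∀ {k : Type u} [Field k] [IsSepClosed k] {ζ : Spec (CommRingCat.of k) ⟶ T}
      (z : (Scheme.pointSmallEtale ζ).fiber.obj ((EtCoh.bc g).obj U)),
      GermBij φT z ↔ GermBij φ (EtFound.bcFiberEquiv g ζ U z) := by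
    intro k _ _ ζ z
    let i := (EtFound.sheafFiberPullIso (A := ModuleCat.{u + 1} Λ) g ζ).app F
    have hb : Function.Bijective i.inv := (ConcreteCategory.isIso_iff_bijective i.inv).1 inferInstance
    refine Iff.symm ((Function.Bijective.of_comp_iff' hb _).symm.trans (iff_of_eq (congrArg Function.Bijective (funext fun m => ?_))))
    refine (ConcreteCategory.comp_apply _ _ m).symm.trans (ConcreteCategory.congr_hom ?_ m)
    exact (Category.assoc _ _ _).trans ((congrArg (φ ≫ ·) (EtFound.sheafFiberPullIso_germ g ζ F U z)).trans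
      (Category.assoc _ _ _).symm)
  let u' := (EtFound.bcFiberEquiv g θ U).symm u
  have hu' : GermBij φT u' := (trf u').2 (by rw [Equiv.apply_symm_apply]; exact hu)
  obtain ⟨⟨V₀, v₀⟩, ⟨a, ha⟩, ⟨b, hb⟩, -⟩ := IsCofilteredOrEmpty.cone_objs
    ((Scheme.pointSmallEtale θ).fiber.elementsMk _ u') ((Scheme.pointSmallEtale θ).fiber.elementsMk W w)
  have hψb := hψ.restrict b
  let ψb := ψ ≫ ((EtModW.pull Λ g).obj F).obj.map b.op
  let φ₀ := φT ≫ ((EtModW.pull Λ g).obj F).obj.map a.op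
  let e₀ : N ≃ₗ[Λ] _ := LinearEquiv.ofBijective
    (ψb ≫ (Scheme.pointSmallEtale θ).toPresheafFiber V₀ v₀ _).hom (hψb Ω θ v₀)
  let h : (EtModW.stalk Λ (θ ≫ g)).obj F ⟶ N := ModuleCat.ofHom (e₀.symm.toLinearMap.comp
    (φ₀ ≫ (Scheme.pointSmallEtale θ).toPresheafFiber V₀ v₀ _).hom)
  have ha' : (Scheme.pointSmallEtale θ).fiber.map a v₀ = u' := ha
  have h₀ : GermBij φ₀ v₀ := (germBij_map φT a v₀).2 (ha'.symm ▸ hu')
  have hh : Function.Bijective h := e₀.symm.bijective.comp h₀
  obtain ⟨k₀, s₀, hs₀⟩ := Module.Finite.exists_fin (R := Λ) (M := (EtModW.stalk Λ (θ ≫ g)).obj F)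
  obtain ⟨V, d, v, hdv, hv⟩ := EtFound.exists_forall_eq ((EtModW.pull Λ g).obj F).obj v₀
    (fun i => φ₀ (s₀ i)) (fun i => ψb (h (s₀ i)))
    (fun i => (e₀.apply_symm_apply ((φ₀ ≫ (Scheme.pointSmallEtale θ).toPresheafFiber V₀ v₀ _).hom (s₀ i))).symm)
  let c : V ⟶ (EtCoh.bc g).obj U := d ≫ a
  have hψ' := hψb.restrict d
  have e' : φT ≫ ((EtModW.pull Λ g).obj F).obj.map c.op =
      h ≫ (ψ ≫ ((EtModW.pull Λ g).obj F).obj.map b.op) ≫ ((EtModW.pull Λ g).obj F).obj.map d.op := by
    refine ModuleCat.hom_ext (LinearMap.ext_on_range hs₀ fun i => ?_)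
    rw [op_comp, Functor.map_comp]
    exact hv i
  have hcu : EtFound.ptOf ((Scheme.pointSmallEtale θ).fiber.map c v) = EtFound.ptOf u' := by
    rw [Functor.map_comp_apply, hdv, ha']
  have hV : EtFound.ConstBy ((EtModW.pull Λ g).obj F) (φT ≫ ((EtModW.pull Λ g).obj F).obj.map c.op) := by
    intro k _ _ ζ z
    rw [e', Category.assoc]
    exact (hψ' k ζ z).comp hh
  -- the open of `U` covered by `V`
  let p : pullback U.hom g ⟶ U.left := pullback.fst U.hom g
  let cl : V.left ⟶ pullback U.hom g := c.left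
  have : AlgebraicGeometry.Etale (pullback.snd U.hom g) := by
    have : AlgebraicGeometry.Etale U.hom := U.prop
    infer_instance
  have : AlgebraicGeometry.Etale (cl ≫ pullback.snd U.hom g) :=
    (CategoryTheory.Over.w c.toCommaMorphism : cl ≫ pullback.snd U.hom g = V.hom).symm ▸ V.prop
  have : AlgebraicGeometry.Etale cl := Etale.of_comp cl (pullback.snd U.hom g)
  have hp' : IsImmersion p := MorphismProperty.pullback_fst (P := @IsImmersion) U.hom g ‹_›
  have hpo : IsOpenEmbedding p.base := ⟨p.isEmbedding,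
    ((Scheme.Pullback.range_fst U.hom g).symm ▸ ho.preimage U.hom.continuous : IsOpen (Set.range p.base))⟩
  let O : U.left.Opens := ⟨p.base '' Set.range cl.base,
    (hpo.isOpenMap _ cl.isOpenMap.isOpen_range)⟩
  have : AlgebraicGeometry.Etale U.hom := U.prop
  let U' : X.Etale := Scheme.Etale.mk (O.ι ≫ U.hom)
  let r : U' ⟶ U := MorphismProperty.Over.homMk O.ι rfl
  have hpt : ∀ {k : Type u} [Field k] [IsSepClosed k] {ζ : Spec (CommRingCat.of k) ⟶ T}
      (z : (Scheme.pointSmallEtale ζ).fiber.obj ((EtCoh.bc g).obj U)),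
      EtFound.ptOf (EtFound.bcFiberEquiv g ζ U z) = p.base (EtFound.ptOf z) := fun z => Scheme.Hom.comp_apply _ _ _
  have hxO : EtFound.ptOf u ∈ O := by
    refine ⟨_, ⟨EtFound.ptOf v, rfl⟩, ?_⟩
    rw [← (EtFound.bcFiberEquiv g θ U).apply_symm_apply u, hpt]
    exact congrArg p.base ((EtFound.ptOf_map c v).symm.trans hcu)
  refine ⟨U', (⟨EtFound.ptOf u, hxO⟩ : O.toScheme), _, inferInstance, φ ≫ F.obj.map r.op,
    ((Scheme.Hom.comp_apply _ _ _).trans (EtFound.hom_ptOf u)).trans ((Scheme.Hom.comp_apply _ _ _).trans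
      (congrArg g.base hθ)), fun k _ _ ζ z => (germBij_map φ r z).2 ?_⟩
  obtain ⟨_, ⟨q, rfl⟩, hq⟩ : EtFound.ptOf ((Scheme.pointSmallEtale ζ).fiber.map r z) ∈ O :=
    (EtFound.ptOf_map r z).symm ▸ (EtFound.ptOf z).2
  obtain ⟨L, _, _, θ', w', hw'⟩ := EtFound.exists_algClosed_point V q
  refine (germBij_congr φ _ (EtFound.bcFiberEquiv g θ' U ((Scheme.pointSmallEtale θ').fiber.map c w')) ?_).2
    ((trf _).1 ((germBij_map φT c w').1 (hV L θ' w')))
  rw [hpt, EtFound.ptOf_map]
  exact hq.symm.trans (congrArg (fun y => p.base (cl.base y)) hw'.symm)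

/-- finite type local constancy descends along immersions with open ranges which cover -/
theorem isFTLocConst_of_immersions [IsNoetherianRing Λ]
    (h : ∀ x : X, ∃ (T : Scheme.{u}) (g : T ⟶ X), IsImmersion g ∧ IsOpen (Set.range g.base) ∧
      x ∈ Set.range g.base ∧ EtModW.IsFTLocConst Λ ((EtModW.pull Λ g).obj F)) : EtModW.IsFTLocConst Λ F := by
  refine isFTLocConst_of_constBy fun x => ?_
  obtain ⟨T, g, hg, ho, ⟨t, rfl⟩, hT⟩ := h x
  exact exists_constBy_of_immersion g ho hT t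

end Groth.Agent.EtModLC71
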