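import Groth.Agent.S0778
import Groth.Agent.S0734
import Groth.Agent.S0736
import Groth.Agent.S0755
import Groth.Agent.S0177
import Groth.Agent.Hensel.Pair
import Groth.Agent.Hensel.Henselization
import Groth.Agent.WStrictLib.WEtaleCover
import Mathlib.RingTheory.TensorProduct.Quotient
import Mathlib.RingTheory.Flat.FaithfullyFlat.Algebra

/-!
# Henselian pairs with w-contractible quotient are w-contractible
-/

universe u

open CategoryTheory CategoryTheory.Limits TensorProduct

namespace Groth.Agent.EtModLC71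

/-- a henselian pair with w-contractible quotient is w-contractible -/
theorem isWContractible_of_henselian {C : Type u} [CommRing C] (J : Ideal C) [HenselianRing C J]
    (h : EtPBC.IsWContractible (C ⧸ J)) : EtPBC.IsWContractible C := by
  refine (S0778.result C).2 fun B _ _ hff hB => ?_
  obtain ⟨S, hS, ⟨e⟩⟩ := IndEtLib.exists_sys hB
  have : Algebra.WeaklyEtale C B := S0736.result C B hB
  have hr : Nonempty (((C ⧸ J) ⊗[C] B) →ₐ[C ⧸ J] (C ⧸ J)) := h _ inferInstance inferInstance
  obtain ⟨r⟩ := hr
  let r₀ : B →ₐ[C] C ⧸ J := (r.restrictScalars C).comp Algebra.TensorProduct.includeRight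
  have key : ∀ j : S.J, ∃! τ : S.A j →ₐ[C] C, (Ideal.Quotient.mkₐ C J).comp τ = r₀.comp (e.toAlgHom.comp (S.ι j)) :=
    fun j => have := hS j; Hensel.existsUnique_etale_lift J _
  choose τ hτ huniq using key
  let cc : Cocone S.D :=
    { pt := CategoryTheory.Under.mk (𝟙 (CommRingCat.of C))
      ι :=
        { app := fun j => CategoryTheory.Under.homMk (CommRingCat.ofHom (τ j).toRingHom) (by
            ext a; exact (τ j).commutes a)
          naturality := fun i j f => by
            apply CategoryTheory.Under.UnderMorphism.ext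
            ext x
            refine AlgHom.congr_fun (huniq i ((τ j).comp (S.tr f)) ?_) x
            show (Ideal.Quotient.mkₐ C J).comp ((τ j).comp (S.tr f)) = _
            rw [← AlgHom.comp_assoc, hτ j]
            exact AlgHom.ext fun y => congrArg (fun z => r₀ (e z)) (S.ι_tr_apply f y) } }
  exact ⟨(CommRingCat.toAlgHom (S.hc.desc cc)).comp e.symm.toAlgHom⟩

/-- w-contractible henselian covers of weakly etale algebras over a quotient -/
theorem exists_wc_cover_quotient {A : Type u} [CommRing A] (I : Ideal A) (B : Type u) [CommRing B]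
    [Algebra (A ⧸ I) B] [Algebra.WeaklyEtale (A ⧸ I) B] :
    ∃ (T : Type u) (_ : CommRing T) (_ : Algebra B T) (_ : Algebra (A ⧸ I) T) (_ : IsScalarTower (A ⧸ I) B T)
      (C : Type u) (_ : CommRing C) (_ : Algebra A C),
      Module.FaithfullyFlat B T ∧ Algebra.WeaklyEtale A C ∧
      HenselianRing C (I.map (algebraMap A C)) ∧ EtPBC.IsWContractible C ∧
      Nonempty ((C ⧸ I.map (algebraMap A C)) ≃ₐ[A ⧸ I] T) := by
  obtain ⟨B', _, _, _, _, hff, -, hie⟩ := WStrictLib.exists_indEtale_cover (A := A ⧸ I) (B := B)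
  obtain ⟨T, _, _, hffT, hieT, hwc⟩ := S0177.result B'
  let : Algebra B T := ((algebraMap B' T).comp (algebraMap B B')).toAlgebra
  let : Algebra (A ⧸ I) T := ((algebraMap B' T).comp (algebraMap (A ⧸ I) B')).toAlgebra
  have : IsScalarTower B B' T := IsScalarTower.of_algebraMap_eq fun _ => rfl
  have : IsScalarTower (A ⧸ I) B' T := IsScalarTower.of_algebraMap_eq fun _ => rfl
  have : IsScalarTower (A ⧸ I) B T := IsScalarTower.of_algebraMap_eq fun x => by
    show algebraMap B' T (algebraMap (A ⧸ I) B' x) = algebraMap B' T (algebraMap B B' (algebraMap (A ⧸ I) B x))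
    exact congrArg (algebraMap B' T) (IsScalarTower.algebraMap_apply (A ⧸ I) B B' x)
  have hT : EtPBC.IsIndEtale (A ⧸ I) T := S0734.result _ B' T hie hieT
  obtain ⟨C₀, _, _, hC₀, ⟨e⟩⟩ := S0755.result A I T hT
  let J := I.map (algebraMap A C₀)
  let C := Hensel.PairHenz C₀ J
  let : Algebra A C := ((algebraMap C₀ C).comp (algebraMap A C₀)).toAlgebra
  have : IsScalarTower A C₀ C := IsScalarTower.of_algebraMap_eq fun _ => rfl
  have : Algebra.WeaklyEtale A C₀ := S0736.result A C₀ hC₀
  have : Algebra.WeaklyEtale C₀ C := S0736.result C₀ C (Hensel.isIndEtale_henz C₀ (C₀ ⧸ J))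
  have hweC : Algebra.WeaklyEtale A C := Algebra.WeaklyEtale.trans A C₀ C
  have hI : J.map (algebraMap C₀ C) = I.map (algebraMap A C) := Ideal.map_map _ _
  have hh : HenselianRing C (I.map (algebraMap A C)) := hI ▸ (Hensel.isPairHenselization_pairHenz C₀ J).1
  let π := Hensel.Henz.proj C₀ (C₀ ⧸ J)
  have hπ : Function.Surjective π := Hensel.Henz.proj_surjective_of_surjective _ Ideal.Quotient.mk_surjective
  have hker : RingHom.ker π = I.map (algebraMap A C) := (Hensel.ker_proj_pairHenz C₀ J).trans hI
  let q₀ : (C ⧸ I.map (algebraMap A C)) ≃+* T :=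
    ((Ideal.quotEquivOfEq hker.symm).trans (RingHom.quotientKerEquivOfSurjective hπ)).trans e.toRingEquiv
  let q : (C ⧸ I.map (algebraMap A C)) ≃ₐ[A ⧸ I] T := AlgEquiv.ofRingEquiv (f := q₀) fun a => by
    obtain ⟨a, rfl⟩ := Ideal.Quotient.mk_surjective a
    show e (π (algebraMap C₀ C (algebraMap A C₀ a))) = _
    rw [AlgHom.commutes]
    exact e.commutes (Ideal.Quotient.mk I a)
  refine ⟨T, inferInstance, inferInstance, inferInstance, inferInstance, C, inferInstance, inferInstance,
    Module.FaithfullyFlat.trans B B' T, hweC, hh, ?_, ⟨q⟩⟩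
  have := hh
  refine isWContractible_of_henselian (I.map (algebraMap A C)) fun D _ _ hffD hweD => ?_
  let : Algebra T D := ((algebraMap (C ⧸ I.map (algebraMap A C)) D).comp q.symm.toRingEquiv.toRingHom).toAlgebra
  let qd : T ≃+* (C ⧸ I.map (algebraMap A C)) := q.symm.toRingEquiv
  let : Algebra T (C ⧸ I.map (algebraMap A C)) := qd.toRingHom.toAlgebra
  have : IsScalarTower T (C ⧸ I.map (algebraMap A C)) D := IsScalarTower.of_algebraMap_eq fun _ => rfl
  have hb : Function.Bijective (algebraMap T (C ⧸ I.map (algebraMap A C))) := qd.bijective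
  have : Algebra.Etale T (C ⧸ I.map (algebraMap A C)) :=
    Algebra.Etale.of_equiv (AlgEquiv.ofBijective (Algebra.ofId T _) hb)
  have : Algebra.WeaklyEtale T (C ⧸ I.map (algebraMap A C)) := inferInstance
  have : Module.FaithfullyFlat T (C ⧸ I.map (algebraMap A C)) :=
    Module.FaithfullyFlat.of_linearEquiv _ _ (LinearEquiv.ofBijective (Algebra.linearMap T _) hb).symm
  obtain ⟨r⟩ := hwc D (Module.FaithfullyFlat.trans T (C ⧸ I.map (algebraMap A C)) D)
    (Algebra.WeaklyEtale.trans T (C ⧸ I.map (algebraMap A C)) D)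
  refine ⟨{ qd.toRingHom.comp r.toRingHom with commutes' := fun c => ?_ }⟩
  have h1 := r.commutes (qd.symm c)
  have h2 : algebraMap T D (qd.symm c) = algebraMap _ D c := congrArg (algebraMap _ D) (qd.apply_symm_apply c)
  rw [h2] at h1
  show qd (r (algebraMap _ D c)) = c
  rw [h1]
  exact qd.apply_symm_apply c

end Groth.Agent.EtModLC71
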